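import Groth.Agent.Fga.RigGrp
import Mathlib.CategoryTheory.Monoidal.Cartesian.CommGrp_
import Mathlib.CategoryTheory.Monoidal.Cartesian.Over
import Mathlib.Algebra.Category.Grp.Basic

/-!
# The group structure on a scheme with a universal rigidified class

`IsUniv f σ hσ P ξ` makes `P` a commutative group object, with `ξ_{gh} = ξ_g ξ_h`.
-/

set_option autoImplicit false
set_option linter.unusedSectionVars false
universe u
open CategoryTheory CategoryTheory.Limits AlgebraicGeometry Opposite

namespace K856.PicG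

open Groth.Agent
open Groth.Agent.Grpsch.PicGrp Groth.Agent.Fga.RigGrp

section general

open MonoidalCategory CartesianMonoidalCategory MonObj

universe w v u₁

/-- If `X` represents a presheaf of groups `F` then `Hom(T, X) ≃* F(T)`. -/
theorem homEquiv_mul {D : Type u₁} [Category.{v} D] [CartesianMonoidalCategory D] {X : D}
    (F : Dᵒᵖ ⥤ GrpCat.{w}) (α : (F ⋙ forget _).RepresentableBy X) {T : D} (a b : T ⟶ X) :
    letI := GrpObj.ofRepresentableBy X F α
    α.homEquiv' (a * b) = α.homEquiv' a * α.homEquiv' b := by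
  change α.homEquiv' (lift a b ≫ α.homEquiv'.symm (α.homEquiv' (fst X X) *
    α.homEquiv' (snd X X))) = α.homEquiv' a * α.homEquiv' b
  simp only [α.homEquiv'_comp, Equiv.apply_symm_apply, map_mul]
  simp only [← α.homEquiv'_comp]
  simp

end general

variable {X S : Scheme.{u}} (f : X ⟶ S) (σ : S ⟶ X) (hσ : σ ≫ f = 𝟙 S)

/-- Pullback of rigidified classes. -/
noncomputable def rgMap {T T' : Over S} (g : T' ⟶ T) : Rg f σ hσ T →* Rg f σ hσ T' where
  toFun c := ⟨pull (PicF.XTmap f g) c.1, pull_mem g c.2⟩
  map_one' := Subtype.ext (map_one _)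
  map_mul' _ _ := Subtype.ext (map_mul _ _ _)

/-- The presheaf of groups of rigidified classes. -/
noncomputable def rgFunctor : (Over S)ᵒᵖ ⥤ CommGrpCat.{u + 1} where
  obj T := CommGrpCat.of (Rg f σ hσ T.unop)
  map g := CommGrpCat.ofHom (rgMap f σ hσ g.unop)
  map_id T := by
    ext c
    change pull (PicF.XTmap f (𝟙 T.unop)) c.1 = c.1
    rw [XTmap_id, pull_id]
  map_comp g h := by
    ext c
    change pull (PicF.XTmap f (h.unop ≫ g.unop)) c.1 = pull _ (pull _ c.1)
    rw [XTmap_comp, pull_comp]

variable {f σ hσ} {P : Over S} {ξ : Pic (PicF.XT f P)} (h : IsUniv f σ hσ P ξ)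

include h in
theorem bijective_rgMap (T : Over S) :
    Function.Bijective (fun g : T ⟶ P => rgMap f σ hσ g ⟨ξ, h.1⟩) := by
  constructor
  · intro g g' hg
    exact h.hom_ext (congrArg Subtype.val hg)
  · intro a
    exact ⟨h.hom a.1 a.2, Subtype.ext (h.pull_hom a.1 a.2)⟩

/-- `P` represents the functor of rigidified classes. -/
noncomputable def rep : (rgFunctor f σ hσ ⋙ forget _).RepresentableBy P where
  homEquiv {T} := Equiv.ofBijective _ (bijective_rgMap h T)
  homEquiv_comp {T T'} g a := by
    apply Subtype.ext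
    change pull (PicF.XTmap f (g ≫ a)) _ = pull _ (pull _ _)
    rw [XTmap_comp, pull_comp]
    rfl

/-- `P` is a commutative group object. -/
@[reducible]
noncomputable def commGrpObj : CommGrpObj P :=
  CommGrpObj.ofRepresentableBy P (rgFunctor f σ hσ) (rep h)

/-- `P` is a group object. -/
@[reducible]
noncomputable def grpObj : GrpObj P := (commGrpObj h).toGrpObj

open MonObj in
theorem pull_mul {T : Over S} (a b : T ⟶ P) :
    letI := grpObj h
    pull (PicF.XTmap f (a * b)) ξ = pull (PicF.XTmap f a) ξ * pull (PicF.XTmap f b) ξ :=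
  congrArg Subtype.val (homEquiv_mul (rgFunctor f σ hσ ⋙ forget₂ CommGrpCat GrpCat) (rep h) a b)

include h in
open MonObj in
/-- The group structure on `P`, with its compatibility. -/
theorem exists_grpObj : ∃ (_ : GrpObj P), IsCommMonObj P ∧
    ∀ (T : Over S) (a b : T ⟶ P), pull (PicF.XTmap f (a * b)) ξ =
      pull (PicF.XTmap f a) ξ * pull (PicF.XTmap f b) ξ := by
  let _ := commGrpObj h
  exact ⟨grpObj h, (commGrpObj h).toIsCommMonObj, fun T a b => pull_mul h a b⟩

end K856.PicG
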