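import Groth.Agent.Biell.K856.KumPic
import Groth.Agent.Lefpen.H710.Growth
import Groth.Agent.Surf.K464.Base
import Groth.Agent.CurvesA.MuConst
import Groth.Agent.S0108
import Mathlib.LinearAlgebra.Matrix.Adjugate
import Mathlib.LinearAlgebra.Matrix.NonsingularInverse
import Mathlib.Data.Nat.Prime.Infinite

/-!
# The Picard number is at most the second Betti number
-/

set_option autoImplicit false
universe u
open CategoryTheory CategoryTheory.Limits AlgebraicGeometry Opposite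

namespace K856.PicRank

open Groth.Agent
open Groth.Agent.Grpsch.PicGrp

/-- `H^q(X, μ_n)` and `H^q(X, ℤ/n)` have the same cardinality. -/
theorem card_mu (k : Type u) [Field k] [IsSepClosed k] {X : Scheme.{u}} (f : X ⟶ Spec (CommRingCat.of k))
    (n : ℕ) (hn : (n : k) ≠ 0) (q : ℕ) :
    Nat.card (EtCoh.H X (EtCoh.mu X n) q) = Nat.card (EtCoh.H X (EtCoh.const X (ZMod n)) q) := by
  obtain ⟨e⟩ := CurvesA.MuConst.nonempty_iso_const_mu_of_isSepClosed k n hn f
  exact Nat.card_congr ((EtCoh.HF X q).mapIso e.symm).addCommGroupIsoToAddEquiv.toEquiv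

theorem isUnit_of_ne {k : Type u} [Field k] {X : Scheme.{u}} (f : X ⟶ Spec (CommRingCat.of k))
    (n : ℕ) (hn : (n : k) ≠ 0) : IsUnit (n : Γ(X, ⊤)) := by
  let φ : k →+* Γ(X, ⊤) := (f.appTop.hom.comp (Scheme.ΓSpecIso (CommRingCat.of k)).inv.hom)
  have h := (isUnit_iff_ne_zero.2 hn).map φ
  rwa [map_natCast] at h

section

variable (k : Type u) [Field k] (X : Scheme.{u}) [X.Over (Spec (CommRingCat.of k))]
  [IsProper (X ↘ Spec (CommRingCat.of k))] (hdim : topologicalKrullDim X ≤ (2 : ℕ))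

include hdim in
/-- A combination of classes with nonsingular Gram matrix that is divisible by `n` has coefficients divisible
by `n`, if `n` is prime to the determinant. -/
theorem dvd_of_prod {r : ℕ} (L : Fin r → Pic X) (n : ℕ) (a : Fin r → ℤ)
    (hcop : IsCoprime (n : ℤ) (Matrix.of fun i j => K464.Base.dot k X (L i) (L j)).det)
    (h : ∃ M : Pic X, M ^ n = ∏ i, L i ^ a i) (i : Fin r) : (n : ℤ) ∣ a i := by
  obtain ⟨M, hM⟩ := h
  let A : Matrix (Fin r) (Fin r) ℤ := Matrix.of fun i j => K464.Base.dot k X (L i) (L j)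
  have h1 : Matrix.vecMul a A = fun j => (n : ℤ) * K464.Base.dot k X M (L j) := by
    funext j
    rw [← K464.Base.dot_pow_left k X hdim, hM, K464.Base.dot_prod_left k X hdim]
    simp only [Matrix.vecMul, dotProduct, A, Matrix.of_apply]
    exact Finset.sum_congr rfl fun i _ => (K464.Base.dot_zpow_left k X hdim _ _ _).symm
  have h2 : A.det • a = fun j => (n : ℤ) * (Matrix.vecMul (fun j => K464.Base.dot k X M (L j)) A.adjugate) j := by
    have h3 := congrArg (fun v => Matrix.vecMul v A.adjugate) h1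
    simp only [Matrix.vecMul_vecMul, Matrix.mul_adjugate, Matrix.vecMul_smul, Matrix.vecMul_one] at h3
    rw [h3]
    funext j
    simp only [Matrix.vecMul, dotProduct, Finset.mul_sum, mul_assoc]
  have h3 : (n : ℤ) ∣ A.det * a i := ⟨_, congrFun h2 i⟩
  exact hcop.dvd_of_dvd_mul_left h3

include hdim in
/-- A lower bound for the order of `H²(X, ℤ/n)`. -/
theorem pow_le_card (hk : IsSepClosed k) {r : ℕ} (L : Fin r → Pic X) (n : ℕ) (hn : (n : k) ≠ 0)
    (hcop : IsCoprime (n : ℤ) (Matrix.of fun i j => K464.Base.dot k X (L i) (L j)).det)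
    (hfin : Finite (EtCoh.H X (EtCoh.const X (ZMod n)) 2)) :
    n ^ r ≤ Nat.card (EtCoh.H X (EtCoh.const X (ZMod n)) 2) := by
  have hepi : Epi (EtCoh.powMap X n) := S0108.result X n (isUnit_of_ne (X ↘ Spec (CommRingCat.of k)) n hn)
  let e : EtCoh.H X (EtCoh.mu X n) 2 ≃ EtCoh.H X (EtCoh.const X (ZMod n)) 2 :=
    ((EtCoh.HF X 2).mapIso (CurvesA.MuConst.nonempty_iso_const_mu_of_isSepClosed k n hn
      (X ↘ Spec (CommRingCat.of k))).some.symm).addCommGroupIsoToAddEquiv.toEquiv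
  have hfin' : Finite (EtCoh.H X (EtCoh.mu X n) 2) := Finite.of_equiv _ e.symm
  let F : (Fin r → Fin n) → EtCoh.H X (EtCoh.mu X n) 2 := fun a =>
    KumPic.c1 X n hepi (Additive.ofMul (∏ i, L i ^ ((a i : ℕ) : ℤ)))
  have hF : Function.Injective F := by
    intro a b hab
    have h1 : KumPic.c1 X n hepi (Additive.ofMul (∏ i, L i ^ (((a i : ℕ) : ℤ) - ((b i : ℕ) : ℤ)))) = 0 := by
      have h2 : Additive.ofMul (∏ i, L i ^ (((a i : ℕ) : ℤ) - ((b i : ℕ) : ℤ))) =
          Additive.ofMul (∏ i, L i ^ ((a i : ℕ) : ℤ)) - Additive.ofMul (∏ i, L i ^ ((b i : ℕ) : ℤ)) := by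
        rw [← ofMul_div, ← Finset.prod_div_distrib]
        congr 1
        exact Finset.prod_congr rfl fun i _ => zpow_sub _ _ _
      rw [h2, map_sub, sub_eq_zero]
      exact hab
    obtain ⟨y, hy⟩ := (KumPic.c1_eq_zero_iff X n hepi _).1 h1
    have h3 := dvd_of_prod k X hdim L n (fun i => ((a i : ℕ) : ℤ) - ((b i : ℕ) : ℤ)) hcop
      ⟨y.toMul, congrArg Additive.toMul hy⟩
    funext i
    have h4 : (n : ℤ) ∣ ((a i : ℕ) : ℤ) - ((b i : ℕ) : ℤ) := h3 i
    have h5 : |((a i : ℕ) : ℤ) - ((b i : ℕ) : ℤ)| < n := by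
      have ha := (a i).2
      have hb := (b i).2
      rw [abs_lt]
      omega
    have h6 := Int.eq_zero_of_abs_lt_dvd h4 h5
    exact Fin.ext (by omega)
  have h := Nat.card_le_card_of_injective F hF
  rwa [Nat.card_fun, Nat.card_fin, Nat.card_fin, Nat.card_congr e] at h

include hdim in
/-- The Picard number is at most the second Betti number. -/
theorem rank_le_betti [IsAlgClosed k] {r : ℕ} (L : Fin r → Pic X)
    (hdet : (Matrix.of fun i j => K464.Base.dot k X (L i) (L j)).det ≠ 0) :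
    ∃ ℓ : ℕ, ℓ.Prime ∧ (ℓ : k) ≠ 0 ∧ ((∀ i, Finite (EtAdic.Hmod X ℓ i 1)) → r ≤ EtAdic.betti X ℓ 2) := by
  obtain ⟨ℓ, hℓb, hℓ⟩ := Nat.exists_infinite_primes
    ((Matrix.of fun i j => K464.Base.dot k X (L i) (L j)).det.natAbs + ringChar k + 1)
  have hℓk : (ℓ : k) ≠ 0 := by
    intro h0
    have h1 := (ringChar.spec k ℓ).1 h0
    rcases (Nat.dvd_prime hℓ).1 h1 with h2 | h2
    · have : CharP k 1 := h2 ▸ ringChar.charP k
      exact CharP.ringChar_ne_one h2
    · omega
  refine ⟨ℓ, hℓ, hℓk, fun hfin => ?_⟩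
  have : Fact ℓ.Prime := ⟨hℓ⟩
  obtain ⟨C, hC⟩ := Lefpen.H710.Growth.card_bounded X ℓ hfin 2
  by_contra hlt
  rw [not_le] at hlt
  obtain ⟨e, he, hcard⟩ := hC (C + 1)
  have hfin2 := Lefpen.H710.Growth.finite_Hmod X ℓ hfin 2 (C + 1)
  have hcop : IsCoprime ((ℓ ^ (C + 1) : ℕ) : ℤ) (Matrix.of fun i j => K464.Base.dot k X (L i) (L j)).det := by
    push_cast
    refine IsCoprime.pow_left ?_
    rw [Int.isCoprime_iff_gcd_eq_one, Int.gcd_eq_natAbs, Int.natAbs_natCast]
    refine (Nat.Prime.coprime_iff_not_dvd hℓ).2 fun hd => ?_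
    have := Nat.le_of_dvd (Int.natAbs_pos.2 hdet) hd
    omega
  have h1 := pow_le_card k X hdim inferInstance L (ℓ ^ (C + 1)) (by push_cast; exact pow_ne_zero _ hℓk) hcop hfin2
  rw [hcard, ← pow_mul] at h1
  have h2 := (Nat.pow_le_pow_iff_right hℓ.one_lt).1 h1
  nlinarith

end

end K856.PicRank
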