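import Groth.Agent.Biell.K856.PicA2
import Groth.Agent.Biell.K856.PicRank
import Groth.Agent.Etcore.AbTors
import Groth.Agent.S4281
import Groth.Agent.Pic13.H138.Finite
import Groth.Agent.Pic13.H969.Bridge
import Groth.Agent.Lefpen.H710.Growth

/-!
# The first Betti number is twice the dimension of the Picard variety
-/

set_option autoImplicit false
set_option linter.unusedSectionVars false
universe u
open CategoryTheory CategoryTheory.Limits AlgebraicGeometry Opposite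
open MonoidalCategory CartesianMonoidalCategory MonObj

namespace K856.PicA

open Groth.Agent
open Groth.Agent.Grpsch.PicGrp Groth.Agent.Fga.RigGrp
open Groth.Agent.Pic13.H138.Slice Groth.Agent.Pic13.H138.AlgEquiv

theorem card_torsion_le {G : Type*} [CommGroup G] (H : Subgroup G) (s : Set G) (hsf : s.Finite) (n : ℕ)
    (hs : ∀ t : G, t ^ n = 1 → ∃ b ∈ s, t * b⁻¹ ∈ H) (hfin : Finite {a : H // a ^ n = 1}) :
    Finite {t : G // t ^ n = 1} ∧
    Nat.card {t : G // t ^ n = 1} ≤ s.ncard * Nat.card {a : H // a ^ n = 1} := by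
  classical
  have h1 : ∀ t : {t : G // t ^ n = 1}, ∃ b ∈ s, t.1 * b⁻¹ ∈ H := fun t => hs t.1 t.2
  choose B hB hBH using h1
  -- representatives
  let R : s → {t : G // t ^ n = 1} := fun b =>
    if h : ∃ t : {t : G // t ^ n = 1}, B t = b.1 then h.choose else ⟨1, one_pow n⟩
  have hR : ∀ t : {t : G // t ^ n = 1}, B (R ⟨B t, hB t⟩) = B t := by
    intro t
    have h : ∃ t' : {t : G // t ^ n = 1}, B t' = B t := ⟨t, rfl⟩
    change B (if h : ∃ t' : {t : G // t ^ n = 1}, B t' = B t then h.choose else ⟨1, one_pow n⟩) = B t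
    rw [dif_pos h]
    exact h.choose_spec
  have hmem : ∀ t : {t : G // t ^ n = 1}, t.1 * (R ⟨B t, hB t⟩).1⁻¹ ∈ H := by
    intro t
    have h2 := H.mul_mem (hBH t) (H.inv_mem (hBH (R ⟨B t, hB t⟩)))
    rw [hR t] at h2
    have h3 : t.1 * (B t)⁻¹ * ((R ⟨B t, hB t⟩).1 * (B t)⁻¹)⁻¹ = t.1 * (R ⟨B t, hB t⟩).1⁻¹ := by
      group
    rwa [h3] at h2
  let F : {t : G // t ^ n = 1} → s × {a : H // a ^ n = 1} := fun t =>
    (⟨B t, hB t⟩, ⟨⟨t.1 * (R ⟨B t, hB t⟩).1⁻¹, hmem t⟩, by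
      apply Subtype.ext
      change (t.1 * (R ⟨B t, hB t⟩).1⁻¹) ^ n = 1
      rw [mul_pow, inv_pow, t.2, (R ⟨B t, hB t⟩).2, inv_one, _root_.mul_one]⟩)
  have hF : Function.Injective F := by
    intro t t' h
    have h4 : (⟨B t, hB t⟩ : s) = ⟨B t', hB t'⟩ := congrArg Prod.fst h
    have h5 : t.1 * (R ⟨B t, hB t⟩).1⁻¹ = t'.1 * (R ⟨B t', hB t'⟩).1⁻¹ :=
      congrArg (fun z => z.2.1.1) h
    rw [h4] at h5
    exact Subtype.ext (mul_right_cancel h5)
  have : Finite s := hsf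
  refine ⟨Finite.of_injective F hF, ?_⟩
  refine (Nat.card_le_card_of_injective F hF).trans (le_of_eq ?_)
  rw [Nat.card_prod, Nat.card_coe_set_eq]

variable (k : Type u) [Field k] [IsAlgClosed k]

local notation "Sk" => Spec (CommRingCat.of k)

variable (X : Scheme.{u}) [X.Over (Spec (CommRingCat.of k))]

theorem exists_tau [IsProper (X ↘ Sk)] : ∃ s : Set (Pic X), s.Finite ∧ ∀ a ∈ tau0 k X, ∃ b ∈ s, a * b⁻¹ ∈ alg0 k X := by
  obtain ⟨s, hs, -, hf⟩ := Pic13.H138.Finite.exists_finite (Pic13.H969.Bridge.bridge k X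
    (fun L : X.Modules => PicF.IsInvertible L ∧ Pic13.IsTauEquivZero k X L) (S4281.result k X))
  refine ⟨s, hs, fun a ha => ?_⟩
  obtain ⟨L, hL, rfl⟩ := exists_mk a
  obtain ⟨b, hb, hba⟩ := hf (mk L hL) ⟨L, hL, ⟨hL, (isTauEquivZero_iff_mem hL).mpr ha⟩, rfl⟩
  exact ⟨b, hb, algEq_iff_mem.mp hba.symm⟩

variable {k X}

namespace PZ

variable (D : PZ k X)

/-- The dimension of the Picard variety. -/
theorem exists_dim [IsProper (X ↘ Sk)] : ∃ g : ℕ, topologicalKrullDim D.A.left = g ∧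
    g ≤ Module.finrank k (Coh.HH X (Coh.structureModule X) 1) := by
  have h1 := D.dim_le
  have h2 : topologicalKrullDim D.A.left ≠ ⊥ := by
    have : Nonempty D.A.left := inferInstance
    exact Order.krullDim_ne_bot_iff.2 ⟨(irreducibleSetEquivPoints (α := D.A.left)).symm this.some⟩
  generalize topologicalKrullDim D.A.left = x at h1 h2
  induction x using WithBot.recBotCoe with
  | bot => exact absurd rfl h2
  | coe x =>
    have h3 : x ≤ (Module.finrank k (Coh.HH X (Coh.structureModule X) 1) : ℕ∞) := by exact_mod_cast h1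
    obtain ⟨g, rfl⟩ := ENat.ne_top_iff_exists.1 (ne_top_of_le_ne_top (ENat.natCast_ne_top _) h3)
    exact ⟨g, rfl, by exact_mod_cast h3⟩

theorem card_alg0 [IsProper (X ↘ Sk)] [Smooth (X ↘ Sk)] (g : ℕ) (hg : topologicalKrullDim D.A.left = g) (n : ℕ) (hn : (n : k) ≠ 0) :
    Nat.card {a : alg0 k X // a ^ n = 1} = n ^ (2 * g) := by
  have := D.isProper
  have := geometricallyIntegral k D.A.left D.A.hom
  rw [← Etcore.AbTors.card_torsion D.A g hg n hn]
  refine (Nat.card_congr (Equiv.subtypeEquiv D.θEquiv.toEquiv (fun a => ?_))).symm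
  change a ^ n = 1 ↔ D.θEquiv a ^ n = 1
  rw [← map_pow, MulEquiv.map_eq_one_iff]

include D in
theorem finite_alg0 [IsProper (X ↘ Sk)] [Smooth (X ↘ Sk)] (n : ℕ) (hn : (n : k) ≠ 0) : Finite {a : alg0 k X // a ^ n = 1} := by
  obtain ⟨g, hg, -⟩ := D.exists_dim
  have h := D.card_alg0 g hg n hn
  apply Nat.finite_of_card_ne_zero
  rw [h]
  have : n ≠ 0 := by rintro rfl; simp at hn
  positivity

theorem le_card_pic [IsProper (X ↘ Sk)] [Smooth (X ↘ Sk)] (g : ℕ) (hg : topologicalKrullDim D.A.left = g) (n : ℕ) (hn : (n : k) ≠ 0)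
    (hfin : Finite {c : Pic X // c ^ n = 1}) :
    n ^ (2 * g) ≤ Nat.card {c : Pic X // c ^ n = 1} := by
  rw [← D.card_alg0 g hg n hn]
  refine Nat.card_le_card_of_injective (fun a => (⟨a.1.1, ?_⟩ : {c : Pic X // c ^ n = 1})) ?_
  · rw [← Subgroup.coe_pow, a.2, Subgroup.coe_one]
  · intro a b h
    exact Subtype.ext (Subtype.ext (congrArg (fun z : {c : Pic X // c ^ n = 1} => z.1) h))

theorem card_pic_le [IsProper (X ↘ Sk)] [Smooth (X ↘ Sk)] : ∃ C : ℕ, ∀ (g : ℕ), topologicalKrullDim D.A.left = g →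
    ∀ (n : ℕ), (n : k) ≠ 0 → Finite {c : Pic X // c ^ n = 1} ∧
      Nat.card {c : Pic X // c ^ n = 1} ≤ C * n ^ (2 * g) := by
  obtain ⟨s, hs, h⟩ := exists_tau k X
  refine ⟨s.ncard, fun g hg n hn => ?_⟩
  rw [← D.card_alg0 g hg n hn]
  refine card_torsion_le (alg0 k X) s hs n (fun t ht => h t ?_) (D.finite_alg0 n hn)
  have hn0 : n ≠ 0 := by rintro rfl; simp at hn
  exact ⟨n, Nat.pos_of_ne_zero hn0, by rw [ht]; exact one_mem _⟩

end PZ

end K856.PicA
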