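import Groth.Agent.Biell.K856.PicA2

/-!
# The Albanese morphism

`X` integral with Picard variety `A`, `B` the Picard variety of `A`.  There is `ψ : X ⟶ B` such that every class on `X`
algebraically equivalent to zero is pulled back from `B`.
-/

set_option autoImplicit false
set_option linter.unusedSectionVars false
universe u
open CategoryTheory CategoryTheory.Limits AlgebraicGeometry Opposite
open MonoidalCategory CartesianMonoidalCategory MonObj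

namespace K856.Alb

open Groth.Agent
open Groth.Agent.Grpsch.PicGrp Groth.Agent.Fga.RigGrp
open Groth.Agent.Books.AlgPts Groth.Agent.Books.AlgPtsGrp
open Groth.Agent.Pic13.H138.Slice Groth.Agent.Pic13.H138.AlgEquiv K856.PicA

variable (k : Type u) [Field k] [IsAlgClosed k]

local notation "Sk" => Spec (CommRingCat.of k)

variable {k} {X : Scheme.{u}} [X.Over (Spec (CommRingCat.of k))] (D : PZ k X)
  {Y : Scheme.{u}} [Y.Over (Spec (CommRingCat.of k))] (hY : D.A = Over.mk (Y ↘ Spec (CommRingCat.of k)))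

/-- `X` as an object over `k`. -/
noncomputable abbrev ov (k : Type u) [Field k] (X : Scheme.{u}) [X.Over (Spec (CommRingCat.of k))] :
    Over (Spec (CommRingCat.of k)) := Over.mk (X ↘ Spec (CommRingCat.of k))

/-- The slice `T → Y × T` at a point `a` of `Y`. -/
noncomputable def sl (a : 𝟙_ (Over Sk) ⟶ ov k Y) (T : Over Sk) : T.left ⟶ PicF.XT (Y ↘ Sk) T :=
  pullback.lift (T.hom ≫ a.left) (𝟙 _) (by
    have h : a.left ≫ (Y ↘ Sk) = 𝟙 _ := Over.w a
    rw [Category.assoc, h]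
    exact (Category.comp_id _).trans (Category.id_comp _).symm)

@[reassoc (attr := simp)]
theorem sl_fst (a : 𝟙_ (Over Sk) ⟶ ov k Y) (T : Over Sk) :
    sl a T ≫ pullback.fst (Y ↘ Sk) T.hom = T.hom ≫ a.left := pullback.lift_fst _ _ _

@[reassoc (attr := simp)]
theorem sl_XTproj (a : 𝟙_ (Over Sk) ⟶ ov k Y) (T : Over Sk) :
    sl a T ≫ PicF.XTproj (Y ↘ Sk) T = 𝟙 _ := pullback.lift_snd _ _ _

theorem sl_XTmap (a : 𝟙_ (Over Sk) ⟶ ov k Y) {T T' : Over Sk} (φ : T ⟶ T') :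
    sl a T ≫ PicF.XTmap (Y ↘ Sk) φ = φ.left ≫ sl a T' := by
  apply pullback.hom_ext
  · rw [Category.assoc, XTmap_fst, sl_fst, Category.assoc, sl_fst, Over.w_assoc]
  · change (sl a T ≫ PicF.XTmap (Y ↘ Sk) φ) ≫ PicF.XTproj (Y ↘ Sk) T' = (φ.left ≫ sl a T') ≫ PicF.XTproj (Y ↘ Sk) T'
    rw [Category.assoc, XTmap_XTproj, sl_XTproj_assoc, Category.assoc, sl_XTproj, Category.comp_id]

/-- The swap. -/
noncomputable def sw (X Y : Scheme.{u}) [X.Over (Spec (CommRingCat.of k))] [Y.Over (Spec (CommRingCat.of k))] :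
    PicF.XT (Y ↘ Sk) (ov k X) ⟶ PicF.XT (X ↘ Sk) (ov k Y) :=
  pullback.lift (pullback.snd _ _) (pullback.fst _ _) pullback.condition.symm

@[reassoc (attr := simp)]
theorem sw_fst : sw (k := k) X Y ≫ pullback.fst (X ↘ Sk) (ov k Y).hom = PicF.XTproj (Y ↘ Sk) (ov k X) :=
  pullback.lift_fst _ _ _

@[reassoc (attr := simp)]
theorem sw_XTproj : sw (k := k) X Y ≫ PicF.XTproj (X ↘ Sk) (ov k Y) = pullback.fst (Y ↘ Sk) (ov k X).hom :=
  pullback.lift_snd _ _ _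

theorem sl_sw (a : 𝟙_ (Over Sk) ⟶ ov k Y) : sl a (ov k X) ≫ sw X Y =
    Pic13.sliceAt k X (ov k Y).hom a.left (Over.w a) := by
  apply pullback.hom_ext
  · rw [Category.assoc, sw_fst]
    erw [sl_XTproj, sliceAt_fst]
  · change (sl a (ov k X) ≫ sw X Y) ≫ PicF.XTproj (X ↘ Sk) (ov k Y) = _
    rw [Category.assoc, sw_XTproj]
    exact (sl_fst a (ov k X)).trans (sliceAt_snd k X _ _ _).symm

/-- A section gives a point. -/
noncomputable def ptOf (σ : Sk ⟶ Y) (hσ : σ ≫ (Y ↘ Sk) = 𝟙 _) : 𝟙_ (Over Sk) ⟶ ov k Y := Over.homMk σ hσ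

theorem secT_eq (σ : Sk ⟶ Y) (hσ : σ ≫ (Y ↘ Sk) = 𝟙 _) (T : Over Sk) :
    PicF.secT (Y ↘ Sk) σ hσ T = sl (ptOf σ hσ) T := rfl

theorem XTmap_pt_sw (σ : Sk ⟶ X) (hσ : σ ≫ (X ↘ Sk) = 𝟙 _) :
    PicF.XTmap (Y ↘ Sk) (ptOf σ hσ) ≫ sw X Y =
      pullback.fst (Y ↘ Sk) (𝟙_ (Over Sk)).hom ≫ PicF.secT (X ↘ Sk) σ hσ (ov k Y) := by
  apply pullback.hom_ext
  · rw [Category.assoc, sw_fst, XTmap_XTproj, Category.assoc, secT_fst]
    change PicF.XTproj (Y ↘ Sk) (𝟙_ (Over Sk)) ≫ σ = pullback.fst (Y ↘ Sk) (𝟙_ (Over Sk)).hom ≫ (Y ↘ Sk) ≫ σ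
    rw [pullback.condition_assoc]
    change _ = PicF.XTproj (Y ↘ Sk) (𝟙_ (Over Sk)) ≫ 𝟙 _ ≫ σ
    rw [Category.id_comp]
  · change (PicF.XTmap (Y ↘ Sk) (ptOf σ hσ) ≫ sw X Y) ≫ PicF.XTproj (X ↘ Sk) (ov k Y) = 
      (pullback.fst (Y ↘ Sk) (𝟙_ (Over Sk)).hom ≫ PicF.secT (X ↘ Sk) σ hσ (ov k Y)) ≫ PicF.XTproj (X ↘ Sk) (ov k Y)
    rw [Category.assoc, sw_XTproj, XTmap_fst, Category.assoc, secT_XTproj]
    exact (Category.comp_id _).symm

section

variable (pc : Pic (PicF.XT (X ↘ Spec (CommRingCat.of k)) (ov k Y)))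
  (hpc : pc ∈ Rg (X ↘ Spec (CommRingCat.of k)) D.σ D.hσ (ov k Y)) (D' : PZ k Y)

/-- The classifying morphism. -/
noncomputable def φ : ov k X ⟶ D'.P :=
  D'.univ.hom (T := ov k X) (Fga.RigGrp.norm (Y ↘ Sk) D'.σ D'.hσ (ov k X) (pull (sw X Y) pc))
    (norm_mem (Y ↘ Sk) D'.σ D'.hσ (ov k X) (pull (sw X Y) pc))

theorem pull_φ : pull (PicF.XTmap (Y ↘ Sk) (φ pc D')) D'.ξ =
    Fga.RigGrp.norm (Y ↘ Sk) D'.σ D'.hσ (ov k X) (pull (sw X Y) pc) :=
  D'.univ.pull_hom (T := ov k X) (Fga.RigGrp.norm (Y ↘ Sk) D'.σ D'.hσ (ov k X) (pull (sw X Y) pc))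
    (norm_mem (Y ↘ Sk) D'.σ D'.hσ (ov k X) (pull (sw X Y) pc))

/-- Fibres of `pc` are pulled back along the classifying morphism, up to translation. -/
theorem fib_eq (a : 𝟙_ (Over Sk) ⟶ ov k Y) :
    fibCl k X (ov k Y).hom a.left (Over.w a) pc /
      fibCl k X (ov k Y).hom (ptOf D'.σ D'.hσ).left (Over.w _) pc =
        pull (φ pc D').left (pull (sl a D'.P) D'.ξ) := by
  rw [← pull_comp, ← sl_XTmap, pull_comp, pull_φ, norm_apply, map_div, ← pull_comp (sl a (ov k X)) (PicF.XTproj _ _),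
    sl_XTproj, pull_id, ← pull_comp, sl_sw, secT_eq, ← pull_comp, sl_sw]
  rfl

include hpc in
theorem pt_φ : ptOf D.σ D.hσ ≫ φ pc D' = 1 := by
  apply D'.univ.hom_ext
  rw [XTmap_comp, pull_comp, pull_φ, pull_norm, ← pull_comp, XTmap_pt_sw, pull_comp,
    (mem_Rg (X ↘ Sk) D.σ D.hσ).1 hpc, map_one, map_one]
  have h := map_one D'.θP
  exact (PZ.pull_j_bijective (k := k) (X := Y)).1 (by rw [map_one]; exact h.symm)

theorem exists_lift_φ [IsReduced X] [ConnectedSpace X] (hφ : ptOf D.σ D.hσ ≫ φ pc D' = 1) :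
    ∃ ψ : ov k X ⟶ D'.A, ψ ≫ D'.inc = φ pc D' := by
  have hr : Set.range (φ pc D').left ⊆ Set.range D'.inc.left := by
    rw [D'.range]
    have h1 : ConnectedSpace (ov k X).left := inferInstanceAs (ConnectedSpace X)
    have h4 : _root_.IsPreconnected (Set.range (φ pc D').left) :=
      isPreconnected_range (φ pc D').left.continuous
    refine h4.subset_connectedComponent ?_
    have h5 : pt η[D'.P] = (φ pc D').left (pt (ptOf D.σ D.hσ)) := by
      rw [← pt_comp, hφ, one_eq_one]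
    rw [h5]
    exact ⟨_, rfl⟩
  have : IsReduced (ov k X).left := inferInstanceAs (IsReduced X)
  exact Books.AlgPtsGrp.exists_lift D'.inc (φ pc D') hr

end

/-- **The Albanese morphism**: every class on `X` algebraically equivalent to zero is pulled back from the Picard variety
of the Picard variety. -/
theorem exists_alb [IsReduced X] [ConnectedSpace X] :
    letI : D.A.left.Over (Spec (CommRingCat.of k)) := ⟨D.A.hom⟩
    ∀ D' : PZ k D.A.left, ∃ ψ : ov k X ⟶ D'.A, ∀ c ∈ alg0 k X, ∃ d : Pic D'.A.left, pull ψ.left d = c := by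
  letI : D.A.left.Over (Spec (CommRingCat.of k)) := ⟨D.A.hom⟩
  intro D'
  let pc : Pic (PicF.XT (X ↘ Spec (CommRingCat.of k)) (ov k D.A.left)) :=
    pull (PicF.XTmap (X ↘ Spec (CommRingCat.of k)) D.inc) D.ξ
  have hpc : pc ∈ Rg (X ↘ Spec (CommRingCat.of k)) D.σ D.hσ (ov k D.A.left) :=
    pull_mem (T' := D.A) D.inc D.univ.1
  obtain ⟨ψ, hψ⟩ := exists_lift_φ D pc D' (pt_φ D pc hpc D')
  refine ⟨ψ, fun c hc => ?_⟩
  obtain ⟨a, rfl⟩ := D.exists_of_mem hc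
  have key : ∀ b : 𝟙_ (Over (Spec (CommRingCat.of k))) ⟶ D.A,
      fibCl k X (ov k D.A.left).hom b.left (Over.w b) pc = D.θ b := by
    intro b
    refine (PZ.fibCl_eq (T := D.A) b pc).trans ?_
    change _ = pull _ (pull (PicF.XTmap _ (b ≫ D.inc)) D.ξ)
    rw [XTmap_comp, pull_comp]
  let s : 𝟙_ (Over (Spec (CommRingCat.of k))) ⟶ D.A := ptOf (Y := D.A.left) D'.σ D'.hσ
  have h1 := fib_eq pc D' (a * s : 𝟙_ (Over (Spec (CommRingCat.of k))) ⟶ D.A)
  have h2 := key (a * s)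
  have h3 := key s
  refine ⟨pull D'.inc.left (pull (sl (Y := D.A.left) (a * s : 𝟙_ (Over (Spec (CommRingCat.of k))) ⟶ D.A) D'.P) D'.ξ), ?_⟩
  rw [← pull_comp, ← Over.comp_left, hψ, ← h1]
  refine (congrArg₂ (· / ·) h2 h3).trans ?_
  rw [map_mul, mul_div_cancel_right]

end K856.Alb
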