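import Groth.Agent.Biell.K856.PicA3

/-!
# The first Betti number is twice the dimension of the Picard variety
-/

set_option autoImplicit false
set_option linter.unusedSectionVars false
universe u
open CategoryTheory CategoryTheory.Limits AlgebraicGeometry Opposite

namespace K856.Betti1

open Groth.Agent
open Groth.Agent.Grpsch.PicGrp K856.PicA

theorem pow_asymp (ℓ : ℕ) (hℓ : 2 ≤ ℓ) (b g C C' : ℕ) (N : ℕ → ℕ)
    (h1 : ∀ ν, ∃ e, e ≤ C ∧ N ν = ℓ ^ (b * ν + e))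
    (h2 : ∀ ν, (ℓ ^ ν) ^ (2 * g) ≤ N ν) (h3 : ∀ ν, N ν ≤ C' * (ℓ ^ ν) ^ (2 * g)) : b = 2 * g := by
  apply le_antisymm
  · by_contra hcon
    push Not at hcon
    obtain ⟨e, -, he⟩ := h1 C'
    have h4 := h3 C'
    rw [he, ← pow_mul] at h4
    have h5 : ℓ ^ (C' * (2 * g) + C') ≤ C' * ℓ ^ (C' * (2 * g)) := by
      refine le_trans (Nat.pow_le_pow_right (by omega) ?_) h4
      nlinarith
    rw [pow_add, mul_comm] at h5
    have h6 : ℓ ^ C' ≤ C' := Nat.le_of_mul_le_mul_right h5 (by positivity)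
    exact absurd h6 (not_le.2 (Nat.lt_pow_self (by omega)))
  · by_contra hcon
    push Not at hcon
    obtain ⟨e, he', he⟩ := h1 (C + 1)
    have h4 := h2 (C + 1)
    rw [he, ← pow_mul] at h4
    have h5 := (Nat.pow_le_pow_iff_right (by omega : 1 < ℓ)).1 h4
    nlinarith

variable {k : Type u} [Field k] [IsAlgClosed k] {X : Scheme.{u}} [X.Over (Spec (CommRingCat.of k))]
  [IsIntegral X] [IsProper (X ↘ Spec (CommRingCat.of k))]

theorem exists_root (σ : Spec (CommRingCat.of k) ⟶ X) (hσ : σ ≫ (X ↘ Spec (CommRingCat.of k)) = 𝟙 _)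
    (n : ℕ) (hn : n ≠ 0) (u : (Γ(X, ⊤))ˣ) : ∃ v, v ^ n = u := by
  have h1 := Picfga.H0.bijective_appTop (X ↘ Spec (CommRingCat.of k)) σ hσ
  have h2 : Function.Bijective ((Scheme.ΓSpecIso (CommRingCat.of k)).inv ≫
      (X ↘ Spec (CommRingCat.of k)).appTop).hom := by
    rw [CommRingCat.hom_comp, RingHom.coe_comp]
    exact h1.comp (ConcreteCategory.bijective_of_isIso _)
  let e : k ≃+* Γ(X, ⊤) := RingEquiv.ofBijective _ h2
  obtain ⟨z, hz⟩ := IsAlgClosed.exists_pow_nat_eq (e.symm u.1) (Nat.pos_of_ne_zero hn)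
  have hz0 : z ≠ 0 := by
    rintro rfl
    rw [zero_pow hn] at hz
    have : (u.1 : Γ(X, ⊤)) = 0 := by
      rw [← e.apply_symm_apply u.1, ← hz, map_zero]
    exact u.ne_zero this
  refine ⟨Units.map e.toRingHom.toMonoidHom (Units.mk0 z hz0), Units.ext ?_⟩
  rw [Units.val_pow_eq_pow_val]
  change (e z) ^ n = u.1
  rw [← map_pow, hz, e.apply_symm_apply]

theorem card_H (D : PZ k X) (n : ℕ) (hn : (n : k) ≠ 0) :
    Nat.card (EtCoh.H X (EtCoh.const X (ZMod n)) 1) = Nat.card {c : Pic X // c ^ n = 1} := by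
  have hepi : Epi (EtCoh.powMap X n) :=
    S0108.result X n (PicRank.isUnit_of_ne (X ↘ Spec (CommRingCat.of k)) n hn)
  have hn0 : n ≠ 0 := by rintro rfl; simp at hn
  rw [← PicRank.card_mu k (X ↘ Spec (CommRingCat.of k)) n hn 1]
  exact KumPic.card_H1 X n hepi (exists_root D.σ D.hσ n hn0)

theorem betti_one [Smooth (X ↘ Spec (CommRingCat.of k))] (D : PZ k X) (ℓ : ℕ) [hℓ : Fact ℓ.Prime]
    (hℓk : (ℓ : k) ≠ 0)
    (hfin : ∀ i, Finite (EtAdic.Hmod X ℓ i 1)) (g : ℕ) (hg : topologicalKrullDim D.A.left = g) :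
    EtAdic.betti X ℓ 1 = 2 * g := by
  obtain ⟨C, hC⟩ := Lefpen.H710.Growth.card_bounded X ℓ hfin 1
  obtain ⟨C', hC'⟩ := D.card_pic_le
  have hne : ∀ ν : ℕ, ((ℓ ^ ν : ℕ) : k) ≠ 0 := fun ν => by
    push_cast
    exact pow_ne_zero _ hℓk
  have hcard : ∀ ν, Nat.card (EtAdic.Hmod X ℓ 1 ν) = Nat.card {c : Pic X // c ^ (ℓ ^ ν) = 1} :=
    fun ν => card_H D (ℓ ^ ν) (hne ν)
  refine pow_asymp ℓ hℓ.out.two_le _ g C C' (fun ν => Nat.card (EtAdic.Hmod X ℓ 1 ν)) hC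
    (fun ν => ?_) (fun ν => ?_)
  · rw [hcard]
    exact D.le_card_pic g hg _ (hne ν) (hC' g hg _ (hne ν)).1
  · rw [hcard]
    exact (hC' g hg _ (hne ν)).2

end K856.Betti1
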