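import Groth.Agent.Surf.K464.Comp
import Groth.Agent.Surf.K455.SmoothRR
import Groth.Agent.Surf.K456.SecTriv
import Groth.Agent.Fga.ZeroClass
import Groth.Agent.Flat2D.PicZSch
import Groth.Agent.Pic13.H945.DegAmple
import Groth.Agent.S1658
import Groth.Agent.Surf.K464.Cohom
import Groth.Agent.Models.H57.GeoInt
import Groth.Agent.Picfga.H0
import Groth.Agent.Pic13.H703.KPoints

/-!
# Numerically trivial classes on smooth projective surfaces
-/

set_option autoImplicit false
set_option linter.unusedSectionVars false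
universe u
open CategoryTheory CategoryTheory.Limits AlgebraicGeometry Opposite

namespace K856.Num

open Groth.Agent Groth.Agent.Grpsch.PicGrp
open K464.Base K464.Curves K464.Comp

variable (k : Type u) [Field k] {X : Scheme.{u}} [X.Over (Spec (CommRingCat.of k))]
  [IsProper (X ↘ Spec (CommRingCat.of k))]

theorem degOn_eq_zero {W : X.Modules} (hW : PicF.IsInvertible W) (hnum : Pic13.IsNumEquivZero k X W)
    {C : X.IdealSheafData} (hC : IsCurve C) : degOn k X C (mk W hW) = 0 := by
  have := hC.integral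
  letI := overC k X C
  have := isProper_sub k X C
  have hd : topologicalKrullDim C.subscheme = 1 := (dim_sub X C).trans hC.dim
  rw [degOn_eq_deg, ← Pic13.H945.DegAmple.dg_eq_deg k C.subscheme hd (Fdesc.LocGen.isInvertible_pullback _ hW)]
  exact hnum C.subscheme C.subschemeι inferInstance hd

variable [Smooth (X ↘ Spec (CommRingCat.of k))] [IsIntegral X] (hdim : topologicalKrullDim X = 2)

include hdim

theorem degOn_eff_eq_zero {W : X.Modules} (hW : PicF.IsInvertible W) (hnum : Pic13.IsNumEquivZero k X W)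
    {F : X.IdealSheafData} (hF : BlowUp.IsEffCartierIdeal F) : degOn k X F (mk W hW) = 0 := by
  apply le_antisymm
  · have h := degOn_nonneg_of_forall k hdim (a := (mk W hW)⁻¹) (fun C hC => by
      rw [degOn_inv k hC, degOn_eq_zero k hW hnum hC, neg_zero]) hF
    rw [degOn_eq_neg_dot k X hF, dot_inv_right k X hdim.le, neg_neg] at h
    rw [degOn_eq_neg_dot k X hF]
    linarith
  · exact degOn_nonneg_of_forall k hdim (fun C hC => (degOn_eq_zero k hW hnum hC).ge) hF

/-- Numerically trivial classes are orthogonal to everything. -/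
theorem dot_eq_zero (hH : ∃ H : X.Modules, CohB1.IsAmple H) {W : X.Modules} (hW : PicF.IsInvertible W)
    (hnum : Pic13.IsNumEquivZero k X W) (a : Pic X) : dot k X a (mk W hW) = 0 := by
  obtain ⟨H, hH⟩ := hH
  obtain ⟨N, hN, rfl⟩ := exists_mk a
  have : IsNoetherian X := CurvesB.CurveRR.isNoetherian_of_proper k X
  obtain ⟨D, D', hD, hD', -, -, ⟨e⟩⟩ := S1658.result X H hH N hN ∅ Set.finite_empty
  have h1 : mk N hN * ic D hD = ic D' hD' := by
    unfold ic
    rw [mk_mul_mk]
    exact mk_congr e
  have h2 := dot_mul_left k X hdim.le (mk N hN) (ic D hD) (mk W hW)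
  have h3 := degOn_eff_eq_zero k hdim hW hnum hD
  have h4 := degOn_eff_eq_zero k hdim hW hnum hD'
  rw [degOn_eq_neg_dot k X hD] at h3
  rw [degOn_eq_neg_dot k X hD'] at h4
  rw [h1] at h2
  linarith

theorem chi_mul (hH : ∃ H : X.Modules, CohB1.IsAmple H) {W : X.Modules} (hW : PicF.IsInvertible W)
    (hnum : Pic13.IsNumEquivZero k X W) (hχ : chi k X (mk W hW) = chi k X 1) (a : Pic X) :
    chi k X (a * mk W hW) = chi k X a := by
  have h := dot_eq_zero k hdim hH hW hnum a
  rw [dot_def] at h
  linarith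

omit hdim in
omit [IsProper (X ↘ Spec (CommRingCat.of k))] [Smooth (X ↘ Spec (CommRingCat.of k))] [X.Over (Spec (CommRingCat.of k))] in
/-- A nonzero section defines an effective Cartier divisor. -/
theorem exists_eff {L : X.Modules} (hL : PicF.IsInvertible L) (h : Nontrivial (Coh.HH X L 0)) :
    ∃ (D : X.IdealSheafData) (hD : BlowUp.IsEffCartierIdeal D), mk L hL * ic D hD = 1 := by
  obtain ⟨s, hs⟩ := K456.SecTriv.exists_ne_zero_of_nontrivial h
  obtain ⟨D, hD⟩ := Picfga.ZeroDiv.exists_zeroIdeal hL s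
  have hE : BlowUp.IsEffCartierIdeal D := Flat2D.PicZSch.isEffCartier_of_ne_zero hL hs hD
  refine ⟨D, hE, ?_⟩
  unfold ic
  rw [mk_mul_mk, mk_eq_one_iff]
  exact Fga.ZeroClass.nonempty_iso hL s hD hE

/-- A class with a nonzero section is trivial or has positive degree with respect to an ample class. -/
theorem eq_one_or_pos {H : X.Modules} (hH : CohB1.IsAmple H) {L : X.Modules} (hL : PicF.IsInvertible L)
    (h : Nontrivial (Coh.HH X L 0)) : mk L hL = 1 ∨ 0 < dot k X (mk L hL) (mk H hH.1) := by
  obtain ⟨D, hD, h1⟩ := exists_eff hL h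
  by_cases hne : D = ⊤
  · left
    subst hne
    rwa [ic_congr hD Divis.EffCartier.isEff_top rfl, ic_top, mul_one] at h1
  · right
    have h2 := degOn_pos_of_ample_eff k hdim hH.1 hH hD hne
    rw [degOn_eq_neg_dot k X hD] at h2
    have h3 : ic D hD = (mk L hL)⁻¹ := eq_inv_of_mul_eq_one_right h1
    rw [h3, dot_inv_left k X hdim.le, neg_neg] at h2
    exact h2

/-- A numerically trivial class with a nonzero section is trivial. -/
theorem eq_one_of_num (hH : ∃ H : X.Modules, CohB1.IsAmple H) {W : X.Modules} (hW : PicF.IsInvertible W)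
    (hnum : Pic13.IsNumEquivZero k X W) (h : Nontrivial (Coh.HH X W 0)) : mk W hW = 1 := by
  obtain ⟨H, hH'⟩ := hH
  rcases eq_one_or_pos k hdim hH' hW h with h1 | h1
  · exact h1
  · exfalso
    have h2 := dot_eq_zero k hdim ⟨H, hH'⟩ hW hnum (mk H hH'.1)
    rw [dot_comm] at h2
    linarith

omit [Smooth (X ↘ Spec (CommRingCat.of k))] in
omit hdim in
theorem h0_eq_one [IsAlgClosed k] : Module.finrank k (Coh.HH X (Coh.structureModule X) 0) = 1 := by
  obtain ⟨σ, hσ⟩ := Pic13.H703.KPoints.exists_section (X ↘ Spec (CommRingCat.of k))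
  refine Models.H57.GeoInt.finrank_H0 k X ?_
  exact (ConcreteCategory.isIso_iff_bijective _).2 (Picfga.H0.bijective_appTop (X ↘ Spec (CommRingCat.of k)) σ hσ)

theorem h0_le_one [IsAlgClosed k] (hH : ∃ H : X.Modules, CohB1.IsAmple H) {W : X.Modules} (hW : PicF.IsInvertible W)
    (hnum : Pic13.IsNumEquivZero k X W) : Module.finrank k (Coh.HH X W 0) ≤ 1 := by
  by_cases h : Nontrivial (Coh.HH X W 0)
  · have h1 := eq_one_of_num k hdim hH hW hnum h
    obtain ⟨e⟩ := (mk_eq_one_iff hW).1 h1
    rw [K464.Cohom.finrank_congr k e 0, h0_eq_one]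
  · rw [not_nontrivial_iff_subsingleton] at h
    rw [Module.finrank_zero_of_subsingleton]
    exact zero_le_one

end K856.Num
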