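import Groth.Agent.S1937
import Groth.Agent.Sga67.TensorOps
import Groth.Agent.Surf.K461.SerreDual
import Groth.Agent.Surf.K455.Canon
import Groth.Agent.Biell.K856.Num
import Groth.Agent.Picfga.CurveRelDim

/-!
# A proper smooth connected group scheme of dimension one has genus one
-/

set_option autoImplicit false
set_option linter.unusedSectionVars false
universe u
open CategoryTheory CategoryTheory.Limits AlgebraicGeometry Opposite
open MonoidalCategory CartesianMonoidalCategory MonObj

namespace K856.GenA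

open Groth.Agent Groth.Agent.Grpsch.PicGrp

variable (k : Type u) [Field k]

theorem omega_trivial (A : Over (Spec (CommRingCat.of k))) [GrpObj A] [QuasiSeparated A.hom]
    (hΩ : PicF.IsInvertible (Omega.sheaf A.hom)) : Nonempty (Omega.sheaf A.hom ≅ Coh.structureModule A.left) := by
  obtain ⟨⟨e⟩, -⟩ := S1937.result _ A
  have h0 : (η[A] : 𝟙_ (Over (Spec (CommRingCat.of k))) ⟶ A).left ≫ A.hom = 𝟙 (Spec (CommRingCat.of k)) := Over.w _
  generalize (Omega.conormal η[A].left) = C at e
  let C' : (Spec (CommRingCat.of k)).Modules := C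
  let e' : Omega.sheaf A.hom ≅ (Scheme.Modules.pullback A.hom).obj C' := e
  let s : Spec (CommRingCat.of k) ⟶ A.left := (η[A] : 𝟙_ (Over (Spec (CommRingCat.of k))) ⟶ A).left
  have h1 : s ≫ A.hom = 𝟙 _ := h0
  let i : (Scheme.Modules.pullback s).obj (Omega.sheaf A.hom) ≅ C' :=
    (Scheme.Modules.pullback s).mapIso e' ≪≫ (Scheme.Modules.pullbackComp s A.hom).app C' ≪≫
      (Scheme.Modules.pullbackCongr h1).app C' ≪≫ (Scheme.Modules.pullbackId _).app C'
  have hC : PicF.IsInvertible C' :=
    Pic13.H138.AlgEquiv.isInvertible_of_iso i (Fdesc.LocGen.isInvertible_pullback s hΩ)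
  have h2 : mk C' hC = 1 := pic_spec_local k _
  have h3 : mk (Omega.sheaf A.hom) hΩ = pull A.hom (mk C' hC) := by
    rw [pull_mk]
    exact mk_congr e'
  rw [h2, map_one] at h3
  exact (mk_eq_one_iff hΩ).1 h3

theorem h1_eq_one [IsAlgClosed k] (A : Over (Spec (CommRingCat.of k))) [GrpObj A] [IsProper A.hom] [Smooth A.hom]
    [IsIntegral A.left] (hdim : topologicalKrullDim A.left = 1) :
    @Module.finrank k (@Coh.HH A.left (Coh.structureModule A.left) 1) _ _
      (letI : A.left.Over (Spec (CommRingCat.of k)) := ⟨A.hom⟩; inferInstance) = 1 := by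
  letI : A.left.Over (Spec (CommRingCat.of k)) := ⟨A.hom⟩
  have hA : A.left ↘ Spec (CommRingCat.of k) = A.hom := rfl
  have hp : IsProper (A.left ↘ Spec (CommRingCat.of k)) := inferInstanceAs (IsProper A.hom)
  have hr : SmoothOfRelativeDimension 1 (A.left ↘ Spec (CommRingCat.of k)) :=
    Picfga.CurveRelDim.smoothOfRelativeDimension_of_topologicalKrullDim_eq k A.left A.hom 1 (by exact_mod_cast hdim)
  have hW := Sga67.TensorOps.isExtPow_one (Omega.sheaf (A.left ↘ Spec (CommRingCat.of k)))
  have hΩ := K455.Canon.isInvertible (A.left ↘ Spec (CommRingCat.of k)) 1 hW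
  obtain ⟨e⟩ := omega_trivial k A hΩ
  have h1 := K461.SerreDual.finrank_eq k 1 hW (L := Coh.structureModule A.left) (L' := Coh.structureModule A.left)
    ⟨Ega2.Tens.runit _⟩ (Ega2.QCohLocal.isQCoh_of_isInvertible Fdesc.LocGen.isInvertible_structureModule) 0 1 rfl
  have h2 := K464.Cohom.finrank_congr k (Ega2.Tens.runit (Omega.sheaf (A.left ↘ Spec (CommRingCat.of k)))) 0
  have h3 := K464.Cohom.finrank_congr k e 0
  have h4 := K856.Num.h0_eq_one k (X := A.left)
  exact h1.trans (h2.trans (h3.trans h4))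

end K856.GenA
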