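import Groth.Agent.Biell.K856.Fib
import Groth.Agent.Biell.K856.GenA
import Groth.Agent.Biell.K856.PicA3
import Groth.Agent.Sga7.H780.JK
import Groth.Agent.Surf.K465.ProjH
import Groth.Agent.Etcore.PicTors
import Groth.Agent.Sga4B.SmoothNormal

/-!
# The Albanese fibration over an elliptic curve
-/

set_option autoImplicit false
set_option linter.unusedSectionVars false
universe u
open CategoryTheory CategoryTheory.Limits AlgebraicGeometry Opposite TopologicalSpace

namespace K856.Main3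

open Groth.Agent
open Groth.Agent.Grpsch.PicGrp
open Groth.Agent.Pic13.H138.AlgEquiv K856.PicA K856.Alb

theorem exists_prime_ne (k : Type u) [Field k] : ∃ ℓ : ℕ, ℓ.Prime ∧ (ℓ : k) ≠ 0 := by
  obtain ⟨ℓ, h1, h2⟩ := Nat.exists_infinite_primes (ringChar k + 1)
  refine ⟨ℓ, h2, fun h0 => ?_⟩
  have h3 := (ringChar.spec k ℓ).1 h0
  rcases (Nat.dvd_prime h2).1 h3 with h4 | h4
  · have h5 := CharP.ringChar_ne_one (R := k)
    exact h5 h4
  · omega

theorem exists_ample_of_curve (k : Type u) [Field k] (C : Scheme.{u}) [C.Over (Spec (CommRingCat.of k))]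
    (hC : Curve.IsSmoothProperCurve k C (C ↘ Spec (CommRingCat.of k))) : ∃ H : C.Modules, CohB1.IsAmple H := by
  obtain ⟨hp, hs, hint, hdim⟩ := hC
  rcases S1627.result k C hdim with h | ⟨d, c, hc, hcf⟩
  · exact absurd h (CurvesC.DualInvNonvan.not_isAffine k (C ↘ Spec (CommRingCat.of k)) hdim)
  · exact ⟨_, (K465.ProjH.facts k C c hcf).2⟩

variable {k : Type u} [Field k] [IsAlgClosed k] {X : Scheme.{u}} [X.Over (Spec (CommRingCat.of k))]
  [IsProper (X ↘ Spec (CommRingCat.of k))] [Smooth (X ↘ Spec (CommRingCat.of k))]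

theorem isSmoothProperCurve (D : PZ k X) (hg : topologicalKrullDim D.A.left = 1) :
    Curve.IsSmoothProperCurve k D.A.left D.A.hom := ⟨D.isProper, inferInstance, inferInstance, hg⟩

theorem exists_ne_one (D : PZ k X) (hg : topologicalKrullDim D.A.left = 1) : ∃ c ∈ alg0 k X, c ≠ 1 := by
  obtain ⟨ℓ, hℓ, hℓk⟩ := exists_prime_ne k
  have h := D.card_alg0 1 (by exact_mod_cast hg) ℓ hℓk
  by_contra hcon
  push Not at hcon
  have h1 : Subsingleton {a : alg0 k X // a ^ ℓ = 1} :=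
    ⟨fun a b => Subtype.ext (Subtype.ext ((hcon _ a.1.2).trans (hcon _ b.1.2).symm))⟩
  have h2 := Finite.card_le_one_iff_subsingleton.2 h1
  rw [h] at h2
  exact absurd h2 (not_le.2 (Nat.one_lt_pow (by norm_num) hℓ.one_lt))

theorem genus_eq_one (D : PZ k X) (hg : topologicalKrullDim D.A.left = 1) {E : Scheme.{u}}
    [E.Over (Spec (CommRingCat.of k))] (f : X ⟶ E)
    (hE : Curve.IsSmoothProperCurve k E (E ↘ Spec (CommRingCat.of k))) (hf : ∀ U, IsIso (f.app U))
    (halg : ∀ c ∈ alg0 k X, ∃ d : Pic E, pull f d = c) :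
    Module.finrank k (Coh.HH E (Coh.structureModule E) 1) = 1 := by
  obtain ⟨hp, hs, hint, hdim⟩ := hE
  have hinj := PullInj.pull_injective f hf
  obtain ⟨ℓ, hℓ, hℓk⟩ := exists_prime_ne k
  have hcard : ∀ n : ℕ, (n : k) ≠ 0 → Nat.card {c : Pic E // c ^ n = 1} =
      n ^ (2 * Module.finrank k (Coh.HH E (Coh.structureModule E) 1)) := fun n hn =>
    Etcore.PicTors.card_torsion E (E ↘ Spec (CommRingCat.of k)) hdim rfl n hn
  have hne : ∀ ν : ℕ, ((ℓ ^ ν : ℕ) : k) ≠ 0 := fun ν => by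
    push_cast
    exact pow_ne_zero _ hℓk
  have hfinE : ∀ ν : ℕ, Finite {c : Pic E // c ^ (ℓ ^ ν) = 1} := by
    intro ν
    apply Nat.finite_of_card_ne_zero
    rw [hcard _ (hne ν)]
    have := hℓ.pos
    positivity
  obtain ⟨C, hC⟩ := D.card_pic_le
  have hg' : topologicalKrullDim D.A.left = (1 : ℕ) := by exact_mod_cast hg
  have hup : ∀ ν : ℕ, Nat.card {c : Pic E // c ^ (ℓ ^ ν) = 1} ≤ C * (ℓ ^ ν) ^ (2 * 1) := by
    intro ν
    obtain ⟨h1, h2⟩ := hC 1 hg' _ (hne ν)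
    refine le_trans (Nat.card_le_card_of_injective
      (fun c => (⟨pull f c.1, by rw [← map_pow, c.2, map_one]⟩ : {c : Pic X // c ^ (ℓ ^ ν) = 1})) ?_) h2
    intro a b hab
    exact Subtype.ext (hinj (congrArg (fun z : {c : Pic X // c ^ (ℓ ^ ν) = 1} => z.1) hab))
  have hlow : ∀ ν : ℕ, (ℓ ^ ν) ^ (2 * 1) ≤ Nat.card {c : Pic E // c ^ (ℓ ^ ν) = 1} := by
    intro ν
    rw [← D.card_alg0 1 hg' _ (hne ν)]
    have := hfinE ν
    choose F hF using halg
    refine Nat.card_le_card_of_injective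
      (fun a => (⟨F a.1.1 a.1.2, ?_⟩ : {c : Pic E // c ^ (ℓ ^ ν) = 1})) ?_
    · apply hinj
      rw [map_pow, hF, map_one, ← Subgroup.coe_pow, a.2, Subgroup.coe_one]
    · intro a b hab
      have h1 : F a.1.1 a.1.2 = F b.1.1 b.1.2 :=
        congrArg (fun z : {c : Pic E // c ^ (ℓ ^ ν) = 1} => z.1) hab
      have h2 := congrArg (pull f) h1
      rw [hF, hF] at h2
      exact Subtype.ext (Subtype.ext h2)
  generalize Module.finrank k (Coh.HH E (Coh.structureModule E) 1) = g at hcard ⊢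
  have hl := hℓ.two_le
  have h1 : g ≤ 1 := by
    by_contra hcon
    push Not at hcon
    have h2 := hup C
    rw [hcard _ (hne C)] at h2
    have h3 : (ℓ ^ C) ^ (2 * 2) ≤ C * (ℓ ^ C) ^ (2 * 1) :=
      (Nat.pow_le_pow_right (by positivity) (by omega)).trans h2
    have h4 : C < ℓ ^ C := Nat.lt_pow_self (by omega)
    have h5 : (ℓ ^ C) ^ (2 * 2) = (ℓ ^ C) * (ℓ ^ C) * (ℓ ^ C) ^ (2 * 1) := by ring
    rw [h5] at h3
    have h6 : 0 < (ℓ ^ C) ^ (2 * 1) := by positivity
    have h7 := Nat.le_of_mul_le_mul_right h3 h6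
    nlinarith
  have h2 : 1 ≤ g := by
    have h3 := hlow 1
    rw [hcard _ (hne 1), pow_one] at h3
    have h4 := (Nat.pow_le_pow_iff_right (by omega : 1 < ℓ)).1 h3
    omega
  omega

/-- **The Albanese fibration.** -/
theorem exists_fibration [IsIntegral X] (D : PZ k X) (hg : topologicalKrullDim D.A.left = 1) :
    ∃ (E : Scheme.{u}) (_ : E.Over (Spec (CommRingCat.of k))) (f : X ⟶ E),
      f ≫ (E ↘ Spec (CommRingCat.of k)) = X ↘ Spec (CommRingCat.of k) ∧
      Curve.IsSmoothProperCurve k E (E ↘ Spec (CommRingCat.of k)) ∧ (∀ U, IsIso (f.app U)) ∧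
      (∀ c ∈ alg0 k X, ∃ d : Pic E, pull f d = c) ∧
      Module.finrank k (Coh.HH E (Coh.structureModule E) 1) = 1 := by
  letI : D.A.left.Over (Spec (CommRingCat.of k)) := ⟨D.A.hom⟩
  have hAp : IsProper (D.A.left ↘ Spec (CommRingCat.of k)) := D.isProper
  have hAp' : IsProper D.A.hom := D.isProper
  have hAs : Smooth (D.A.left ↘ Spec (CommRingCat.of k)) := inferInstanceAs (Smooth D.A.hom)
  obtain ⟨D'⟩ := nonempty_pz k D.A.left (exists_ample_of_curve k D.A.left (isSmoothProperCurve D hg))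
  obtain ⟨ψ, hψ⟩ := exists_alb D D'
  have hB : topologicalKrullDim D'.A.left ≤ 1 := by
    have h1 := D'.dim_le
    have h2 := GenA.h1_eq_one k D.A hg
    have h3 : Module.finrank k (Coh.HH D.A.left (Coh.structureModule D.A.left) 1) = 1 := h2
    rw [h3] at h1
    exact_mod_cast h1
  have hBp := D'.isProper
  obtain ⟨E, hE, f, h1, h2, h3, h4⟩ := Fib.exists_fib (Sga4B.SmoothNormal.isNormalScheme_of_smooth (X ↘ Spec (CommRingCat.of k)))
    hB ψ hψ (exists_ne_one D hg)
  exact ⟨E, hE, f, h1, h2, h3, h4, genus_eq_one D hg f h2 h3 h4⟩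

end K856.Main3
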