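import Groth.Agent.Biell.K856.Noether
import Groth.Agent.Surf.K464.Base

/-!
# Noether's formula, geometric form: `12 χ(O) = (K·K) + χ(O) - χ(Ω) + χ(ω)`
-/

set_option autoImplicit false
universe v u
open CategoryTheory CategoryTheory.Limits AlgebraicGeometry

namespace K856.Noether

open Groth.Agent
open Groth.Agent.Krr.H500.GrK
open Groth.Agent.Krr.H496.PullK0 (cl)
open Groth.Agent.Krr.H492.DualK
open Groth.Agent.Grpsch.PicGrp
open Groth.Agent.Fdesc.LocGen (isInvertible_structureModule)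

section Model

variable {X : Scheme.{u}} {K : Type v} [CommRing K] [LambdaRing.LambdaOps K]
  {P : LambdaRing.PosStructure K} {φ : SGA6.Kvb X →+ K} (hK : KRR.IsModel X K P φ)

include hK

theorem isLine_of_isInvertible {L : X.Modules} (hL : PicF.IsInvertible L) : P.IsLine (φ (KRR.cl X L)) := by
  have h := Ega2.QCohLocal.isFinLocFreeOfRank_one_iff.mpr hL
  exact ⟨(hK.mem_pos_iff _).2 ⟨1, L, le_rfl, h, rfl⟩, by exact_mod_cast hK.aug_cl 1 L h⟩

theorem map_mul_inv {L M : X.Modules} (hL : PicF.IsInvertible L) (hM : PicF.IsInvertible M) :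
    φ (KRR.cl X L) * φ (KRR.cl X M) = φ (KRR.cl X (CohB1.tensorMod L M)) :=
  hK.map_mul L M (isFinLocFree_of_isInvertible hL) (isFinLocFree_of_isInvertible hM)

end Model

theorem cl_congr {X : Scheme.{u}} {L M : X.Modules} (hL : PicF.IsInvertible L) (hM : PicF.IsInvertible M)
    (h : mk L hL = mk M hM) : KRR.cl X L = KRR.cl X M := by
  obtain ⟨e⟩ := (mk_eq_iff hL hM).1 h
  exact cl_iso e (isFinLocFree_of_isInvertible hL)

variable (k : Type u) [Field k] (X : Scheme.{u}) [X.Over (Spec (CommRingCat.of k))] [IsIntegral X]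
  [IsProper (X ↘ Spec (CommRingCat.of k))] [SmoothOfRelativeDimension 2 (X ↘ Spec (CommRingCat.of k))]

/-- **Noether's formula**, K-theoretic form. -/
theorem noether (hH : ∃ H : X.Modules, CohB1.IsAmple H) {W : X.Modules}
    (hW : ExtPow.IsExtPow 2 (Omega.sheaf (X ↘ Spec (CommRingCat.of k))) W) (hWi : PicF.IsInvertible W) :
    12 * Curv2.euler k X (Coh.structureModule X) = K464.Base.dot k X (mk W hWi) (mk W hWi) +
      (Curv2.euler k X (Coh.structureModule X) - Curv2.euler k X (Omega.sheaf (X ↘ Spec (CommRingCat.of k))) +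
        Curv2.euler k X W) := by
  obtain ⟨K, _, _, P, φ, g, hK, hs, hF, hg, hrr⟩ := exists_data k X hH
  have hdim : topologicalKrullDim X ≤ (2 : ℕ) :=
    Lefpen.H716.CIGeom.topologicalKrullDim_le_of_smooth 2 (X ↘ Spec (CommRingCat.of k))
  have hΩr : FlatMod.IsFinLocFreeOfRank 2 (Omega.sheaf (X ↘ Spec (CommRingCat.of k))) :=
    Vancyc.H878.OmegaRank.isFinLocFreeOfRank_omega 2 _
  have hΩ := Krr.H463.DualLam.isFinLocFree_of_rank hΩr
  let D := dual W
  have hD : PicF.IsInvertible D := isInvertible_dual hWi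
  have hwδ : φ (KRR.cl X W) * φ (KRR.cl X D) = 1 := by
    rw [map_mul_inv hK hWi hD, ← hK.map_one]
    refine congrArg φ (cl_congr (Fdesc.LocGen.isInvertible_tensorMod hWi hD) isInvertible_structureModule ?_)
    rw [← mk_mul_mk hWi hD, ← one_def, ← inv_mk hWi, mul_inv_cancel]
  have hlam : LambdaRing.LambdaOps.lam 2 (φ (KRR.cl X (Omega.sheaf (X ↘ Spec (CommRingCat.of k))))) =
      φ (KRR.cl X W) := hK.map_lam 2 _ W hΩ (isFinLocFree_of_isInvertible hWi) hW
  have hT : φ (KRR.cl X D) * φ (KRR.cl X (Omega.sheaf (X ↘ Spec (CommRingCat.of k)))) =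
      φ (dualK X (cl (Omega.sheaf (X ↘ Spec (CommRingCat.of k))))) := by
    have h1 := Krr.H463.DualLam.dual_mul_lam hK (m := 2) (by norm_num) hΩr
    have h2 : LambdaRing.LambdaOps.lam (2 - 1) (φ (KRR.cl X (Omega.sheaf (X ↘ Spec (CommRingCat.of k))))) =
      φ (KRR.cl X (Omega.sheaf (X ↘ Spec (CommRingCat.of k)))) := LambdaRing.LambdaOps.lam_one _
    rw [h2, hlam] at h1
    rw [← cl_sheafHom hΩ, ← h1, mul_comm, mul_assoc, hwδ, mul_one]
  have hgr := (RRAlg.noether hs hF (hK.aug_cl 2 _ hΩr) hlam (isLine_of_isInvertible hK hD) hwδ g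
    (hrr _ hT)).1
  have e1 : g 1 = Curv2.euler k X (Coh.structureModule X) := by
    rw [← hK.map_one]
    exact hg _ isFinLocFree_structure
  have e2 : g (φ (KRR.cl X D) ^ 2) = K464.Base.chi k X (mk D hD * mk D hD) := by
    rw [sq, map_mul_inv hK hD hD, mk_mul_mk]
    exact hg _ (isFinLocFree_of_isInvertible (Fdesc.LocGen.isInvertible_tensorMod hD hD))
  have e3 : g (φ (KRR.cl X D)) = K464.Base.chi k X (mk D hD) := hg _ (isFinLocFree_of_isInvertible hD)
  have e4 : g (φ (KRR.cl X W)) = Curv2.euler k X W := hg _ (isFinLocFree_of_isInvertible hWi)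
  have e5 : g (φ (KRR.cl X (Omega.sheaf (X ↘ Spec (CommRingCat.of k))))) = _ := hg _ hΩ
  rw [e1, e2, e3, e4, e5] at hgr
  have e6 : K464.Base.dot k X (mk W hWi) (mk W hWi) = K464.Base.dot k X (mk D hD) (mk D hD) := by
    have : mk D hD = (mk W hWi)⁻¹ := (inv_mk hWi).symm
    rw [this, K464.Base.dot_inv_inv k X hdim]
  rw [e6, K464.Base.dot_def, K464.Base.chi_one, hgr]
  ring

end K856.Noether
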