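import Groth.Agent.Biell.K856.BettiX
import Groth.Agent.Biell.K856.Betti1
import Groth.Agent.Biell.K856.Noether2
import Groth.Agent.Biell.K856.Num
import Groth.Agent.Surf.K455.Canon
import Groth.Agent.CurvesA.CSpecD1
import Groth.Agent.Biell.K856.Main3

/-!
# (Quasi-)bielliptic surfaces: `χ(O) = 0`, `b₁ = 2`, and the Picard variety is an elliptic curve
-/

set_option autoImplicit false
set_option linter.unusedSectionVars false
universe u
open CategoryTheory CategoryTheory.Limits AlgebraicGeometry Opposite TopologicalSpace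

namespace K856.Basic

open Groth.Agent
open Groth.Agent.Grpsch.PicGrp K856.PicA

theorem numbers {q pg b g : ℕ} (h1 : 12 * ((1 : ℤ) - q + pg) = 4 - 2 * b) (hb : b = 2 * g) (hg : g ≤ q)
    (hpg : pg ≤ 1) : (1 : ℤ) - q + pg = 0 ∧ b = 2 ∧ g = 1 := by
  interval_cases pg <;> omega

variable (k : Type u) [Field k] [IsAlgClosed k] (X : Scheme.{u}) [X.Over (Spec (CommRingCat.of k))]
  [IsIntegral X] [IsProper (X ↘ Spec (CommRingCat.of k))] [SmoothOfRelativeDimension 2 (X ↘ Spec (CommRingCat.of k))]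

include k in
theorem dim_eq : topologicalKrullDim X = 2 := by
  exact_mod_cast CurvesA.CSpecD1.topologicalKrullDim_eq_of_smoothOfRelativeDimension 2 (X ↘ Spec (CommRingCat.of k))

include k in
theorem dim_le : topologicalKrullDim X ≤ (2 : ℕ) := by
  rw [dim_eq k X]; rfl

theorem isSmooth : Smooth (X ↘ Spec (CommRingCat.of k)) := SmoothOfRelativeDimension.smooth 2 _

theorem euler_eq : Curv2.euler k X (Coh.structureModule X) =
    (1 : ℤ) - Module.finrank k (Coh.HH X (Coh.structureModule X) 1) +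
      Module.finrank k (Coh.HH X (Coh.structureModule X) 2) := by
  rw [← Fga.IntAdd.eulerCharLE_eq k X 2 (dim_le k X)]
  unfold FGA.eulerCharLE
  simp only [Finset.sum_range_succ, Finset.sum_range_zero]
  rw [Num.h0_eq_one k]
  push_cast
  ring

theorem pg_le_one (hproj : ∃ H : X.Modules, CohB1.IsAmple H)
    {ω : X.Modules} (hω : ExtPow.IsExtPow 2 (Omega.sheaf (X ↘ Spec (CommRingCat.of k))) ω)
    (hnum : Pic13.IsNumEquivZero k X ω) : Module.finrank k (Coh.HH X (Coh.structureModule X) 2) ≤ 1 := by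
  have := isSmooth k X
  have h1 := K455.SmoothRR.finrank_dual k hω (L := Coh.structureModule X) (L' := Coh.structureModule X)
    Fdesc.LocGen.isInvertible_structureModule ⟨Ega2.Tens.runit _⟩ 0 2 rfl
  rw [h1, K464.Cohom.finrank_congr k (Ega2.Tens.runit ω) 0]
  exact Num.h0_le_one k (dim_eq k X) hproj (K455.Canon.isInvertible _ 2 hω) hnum

theorem main (hproj : ∃ H : X.Modules, CohB1.IsAmple H)
    {ω : X.Modules} (hω : ExtPow.IsExtPow 2 (Omega.sheaf (X ↘ Spec (CommRingCat.of k))) ω)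
    (hnum : Pic13.IsNumEquivZero k X ω)
    (hb2 : ∀ ℓ : ℕ, ℓ.Prime → (ℓ : k) ≠ 0 → EtAdic.betti X ℓ 2 = 2) :
    Curv2.euler k X (Coh.structureModule X) = 0 ∧
      (∀ ℓ : ℕ, ℓ.Prime → (ℓ : k) ≠ 0 → EtAdic.betti X ℓ 1 = 2) ∧
      ∃ D : PZ k X, topologicalKrullDim D.A.left = 1 := by
  have hs := isSmooth k X
  have hd := dim_eq k X
  have hωi := K455.Canon.isInvertible _ 2 hω
  obtain ⟨D⟩ := nonempty_pz k X hproj
  obtain ⟨g, hg, hgq⟩ := D.exists_dim
  have key : ∀ ℓ : ℕ, ℓ.Prime → (ℓ : k) ≠ 0 →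
      Curv2.euler k X (Coh.structureModule X) = 0 ∧ EtAdic.betti X ℓ 1 = 2 ∧ g = 1 := by
    intro ℓ hℓ hℓk
    have : Fact ℓ.Prime := ⟨hℓ⟩
    have h1 := Noether.noether k X hproj hω hωi
    have h2 := Num.dot_eq_zero k hd hproj hωi hnum (mk ω hωi)
    have h3 := BettiX.surface X hω ℓ hℓ hℓk
    have h4 := Betti1.betti_one D ℓ hℓk (BettiX.hfin (X ↘ Spec (CommRingCat.of k)) ℓ) g hg
    have h5 := hb2 ℓ hℓ hℓk
    have h6 := euler_eq k X
    have h7 := pg_le_one k X hproj hω hnum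
    rw [h5] at h3
    rw [h2, ← h3, zero_add] at h1
    have h8 : 12 * ((1 : ℤ) - Module.finrank k (Coh.HH X (Coh.structureModule X) 1) +
      Module.finrank k (Coh.HH X (Coh.structureModule X) 2)) = 4 - 2 * EtAdic.betti X ℓ 1 := by
      rw [← h6, h1]; push_cast; ring
    rw [h6]
    exact numbers h8 h4 hgq h7
  obtain ⟨ℓ, hℓ, hℓk⟩ := Main3.exists_prime_ne k
  obtain ⟨h1, -, h3⟩ := key ℓ hℓ hℓk
  refine ⟨h1, fun ℓ hℓ hℓk => (key ℓ hℓ hℓk).2.1, D, ?_⟩
  rw [hg, h3]; rfl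

end K856.Basic
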