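import Groth.Agent.Lefpen.H710.Growth
import Groth.Agent.Lefpen.H710.Vanish
import Groth.Agent.Lefpen.H30.CardDuality
import Groth.Agent.Etrest.SHPoint
import Groth.Agent.Vancyc.H691.GBAll
import Groth.Agent.Vancyc.H878.OmegaRank
import Groth.Agent.Krr.H495.Rank
import Groth.Prelude.Def_Milnor
import Groth.Agent.Sga67.TensorOps
import Groth.Agent.Krr.H463.DualLam

/-!
# Betti numbers of smooth proper surfaces, and the Gauss–Bonnet formula for them
-/

set_option autoImplicit false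
universe u
open CategoryTheory CategoryTheory.Limits AlgebraicGeometry Opposite

namespace K856.BettiX

open Groth.Agent

theorem card_pow_one (X : Scheme.{u}) (ℓ i : ℕ) :
    Nat.card (EtAdic.Hmod X ℓ i 1) = Nat.card (EtCoh.H X (EtCoh.const X (ZMod ℓ)) i) := by
  have h : ∀ m : ℕ, m = ℓ → Nat.card (EtCoh.H X (EtCoh.const X (ZMod m)) i) =
      Nat.card (EtCoh.H X (EtCoh.const X (ZMod ℓ)) i) := by
    rintro _ rfl
    rfl
  exact h _ (pow_one ℓ)

section

variable {k : Type u} [Field k] [IsAlgClosed k] {X : Scheme.{u}} (f : X ⟶ Spec (CommRingCat.of k)) [IsProper f]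
  (ℓ : ℕ) [hℓ : Fact ℓ.Prime] (hℓk : (ℓ : k) ≠ 0)

include hℓk in
theorem pow_ne (ν : ℕ) : ((ℓ ^ ν : ℕ) : k) ≠ 0 := by
  push_cast
  exact pow_ne_zero _ hℓk

include f in
theorem hfin (i : ℕ) : Finite (EtAdic.Hmod X ℓ i 1) :=
  Lefpen.H30.CardDuality.finite_H k (ℓ ^ 1) (pow_pos hℓ.out.pos 1) f i

omit [IsAlgClosed k] [IsProper f] in
theorem betti_congr (Y Z : Scheme.{u}) (q q' : ℕ) (hY : ∀ i, Finite (EtAdic.Hmod Y ℓ i 1))
    (hZ : ∀ i, Finite (EtAdic.Hmod Z ℓ i 1))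
    (h : ∀ ν, Nat.card (EtAdic.Hmod Y ℓ q ν) = Nat.card (EtAdic.Hmod Z ℓ q' ν)) :
    EtAdic.betti Y ℓ q = EtAdic.betti Z ℓ q' := by
  obtain ⟨B, hB⟩ := Lefpen.H710.Growth.card_succ Y ℓ hY q
  obtain ⟨B', hB'⟩ := Lefpen.H710.Growth.card_succ Z ℓ hZ q'
  have h1 := hB (max B B') (le_max_left _ _)
  have h2 := hB' (max B B') (le_max_right _ _)
  have hf := Lefpen.H710.Growth.finite_Hmod Z ℓ hZ q' (max B B')
  have hpos : 0 < Nat.card (EtAdic.Hmod Z ℓ q' (max B B')) := Nat.card_pos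
  rw [h, h, h2] at h1
  exact (Nat.pow_right_injective hℓ.out.two_le (Nat.eq_of_mul_eq_mul_right hpos h1)).symm

include f in
theorem betti_zero [ConnectedSpace X] : EtAdic.betti X ℓ 0 = 1 := by
  obtain ⟨B, hB⟩ := Lefpen.H710.Growth.card_succ X ℓ (hfin f ℓ) 0
  have h : ∀ ν, Nat.card (EtAdic.Hmod X ℓ 0 ν) = ℓ ^ ν := by
    intro ν
    obtain ⟨e⟩ := Etrest.SHPoint.nonempty_H0_const X (ZMod (ℓ ^ ν))
    exact (Nat.card_congr e.toEquiv).trans (Nat.card_zmod _)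
  have h1 := hB B le_rfl
  rw [h, h, ← pow_add] at h1
  have := Nat.pow_right_injective hℓ.out.two_le h1
  omega

include f hℓk in
/-- Poincaré duality for Betti numbers. -/
theorem betti_dual (m : ℕ) [SmoothOfRelativeDimension m f] (i j : ℕ) (hij : i + j = 2 * m) :
    EtAdic.betti X ℓ i = EtAdic.betti X ℓ j :=
  betti_congr ℓ X X i j (hfin f ℓ) (hfin f ℓ) fun ν =>
    (Lefpen.H30.CardDuality.card_duality k f m (ℓ ^ ν) (pow_ne ℓ hℓk ν) i j hij).2

include f hℓk in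
theorem betti_top (m : ℕ) [SmoothOfRelativeDimension m f] [ConnectedSpace X] :
    EtAdic.betti X ℓ (2 * m) = 1 := by
  rw [betti_dual f ℓ hℓk m (2 * m) 0 (by omega), betti_zero f ℓ]

include f in
/-- The `ℓ`-adic and the mod `ℓ` Euler characteristics. -/
theorem euler_eq (m : ℕ) [SmoothOfRelativeDimension m f] :
    EtAdic.euler X ℓ (2 * m) = VanCyc.euler ℓ X (2 * m) := by
  have hs : Subsingleton (EtAdic.Hmod X ℓ (2 * m + 1) 1) :=
    Lefpen.H710.Vanish.subsingleton_H k m f (ℓ ^ 1) (pow_pos hℓ.out.pos 1) (2 * m + 1) (by omega)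
  rw [Lefpen.H710.Growth.euler_eq X ℓ (hfin f ℓ) (2 * m) hs]
  unfold VanCyc.euler VanCyc.hdim
  refine Finset.sum_congr rfl fun i _ => ?_
  rw [card_pow_one]

end

/-- Gauss–Bonnet for a surface: `2 - 2 b₁ + b₂ = 2 χ(O) - χ(Ω)`. -/
theorem surface {k : Type u} [Field k] [IsAlgClosed k] (X : Scheme.{u}) [X.Over (Spec (CommRingCat.of k))] [IsIntegral X]
    [IsProper (X ↘ Spec (CommRingCat.of k))] [SmoothOfRelativeDimension 2 (X ↘ Spec (CommRingCat.of k))]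
    {W : X.Modules} (hW : ExtPow.IsExtPow 2 (Omega.sheaf (X ↘ Spec (CommRingCat.of k))) W)
    (ℓ : ℕ) (hℓ : ℓ.Prime) (hℓk : (ℓ : k) ≠ 0) :
    (2 : ℤ) - 2 * EtAdic.betti X ℓ 1 + EtAdic.betti X ℓ 2 =
      Curv2.euler k X (Coh.structureModule X) - Curv2.euler k X (Omega.sheaf (X ↘ Spec (CommRingCat.of k))) +
        Curv2.euler k X W := by
  have : Fact ℓ.Prime := ⟨hℓ⟩
  let f := X ↘ Spec (CommRingCat.of k)
  have h1 := Vancyc.H691.GBAll.gb k X f 2 ℓ hℓ hℓk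
  rw [← euler_eq f ℓ 2] at h1
  have h0 := betti_zero f ℓ
  have h4 := betti_top f ℓ hℓk 2
  have h3 := betti_dual f ℓ hℓk 2 3 1 rfl
  have hΩr : FlatMod.IsFinLocFreeOfRank 2 (Omega.sheaf (X ↘ Spec (CommRingCat.of k))) :=
    Vancyc.H878.OmegaRank.isFinLocFreeOfRank_omega 2 _
  have hΩ := Krr.H463.DualLam.isFinLocFree_of_rank hΩr
  let L : ℕ → X.Modules := fun i => if i = 0 then Coh.structureModule X else if i = 1 then
    Omega.sheaf (X ↘ Spec (CommRingCat.of k)) else W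
  have hL : ∀ i ≤ 2, ExtPow.IsExtPow i (Omega.sheaf (X ↘ Spec (CommRingCat.of k))) (L i) := by
    intro i hi
    interval_cases i
    · exact Sga67.TensorOps.isExtPow_zero _
    · exact Sga67.TensorOps.isExtPow_one _
    · exact hW
  have h5 : Vancyc.H691.Reduce.chiCoh k f 2 = ∑ i ∈ Finset.range (2 + 1), (-1 : ℤ) ^ i * Curv2.euler k X (L i) :=
    Vancyc.H326.ChiLam.c_eq k hΩ hL
  rw [h5] at h1
  unfold EtAdic.euler at h1
  simp only [Finset.sum_range_succ, Finset.sum_range_zero, L] at h1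
  change EtAdic.betti X ℓ 4 = 1 at h4
  norm_num at h1
  rw [h0, h3, h4] at h1
  push_cast at h1
  linarith

end K856.BettiX
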