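import Groth.Agent.Biell.K856.PicA2
import Groth.Agent.Books.AlgPtsSmooth

/-!
# The identity component of a smooth Picard scheme over an algebraically closed field

`exists_iso`: the connected component `W` of the trivial class in a smooth Picard scheme is the Picard variety, and
a class lies in `W` if and only if it is algebraically equivalent to zero.
-/

set_option autoImplicit false
set_option linter.unusedSectionVars false
universe u
open CategoryTheory CategoryTheory.Limits AlgebraicGeometry Opposite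
open MonoidalCategory CartesianMonoidalCategory MonObj

namespace K856.FamField

open Groth.Agent
open Groth.Agent.Grpsch.PicGrp Groth.Agent.Fga.RigGrp
open Groth.Agent.Books.AlgPts Groth.Agent.Books.AlgPtsIrred Groth.Agent.Books.AlgPtsGrp Groth.Agent.Books.AlgPtsSmooth
open Groth.Agent.Pic13.H138.Slice Groth.Agent.Pic13.H138.AlgEquiv
open K856.PicA

variable {k : Type u} [Field k] [IsAlgClosed k]

local notation "Sk" => Spec (CommRingCat.of k)

variable {X : Scheme.{u}} [X.Over (Spec (CommRingCat.of k))]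

theorem exists_iso {Q : Over (Spec (CommRingCat.of k))} {σ : Spec (CommRingCat.of k) ⟶ X}
    (hσ : σ ≫ (X ↘ Spec (CommRingCat.of k)) = 𝟙 _)
    {ξ : Pic (PicF.XT (X ↘ Spec (CommRingCat.of k)) Q)} (h : IsUniv (X ↘ Spec (CommRingCat.of k)) σ hσ Q ξ)
    (hP : PicRel.RepresentedBy (X ↘ Spec (CommRingCat.of k)) Q) [LocallyOfFiniteType Q.hom] [Smooth Q.hom]
    (e : 𝟙_ (Over (Spec (CommRingCat.of k))) ⟶ Q) (he : pull (PicF.XTmap (X ↘ Spec (CommRingCat.of k)) e) ξ = 1)
    (W : Q.left.Opens) (hW : (W : Set Q.left) = connectedComponent (pt e)) :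
    ∃ (D : PZ k X) (i : (W : Scheme.{u}) ≅ D.A.left), i.hom ≫ D.A.hom = W.ι ≫ Q.hom ∧
      ∀ (x : 𝟙_ (Over (Spec (CommRingCat.of k))) ⟶ Q), pt x ∈ W ↔
        pull (PZ.j k X) (pull (PicF.XTmap (X ↘ Spec (CommRingCat.of k)) x) ξ) ∈ alg0 k X := by
  obtain ⟨hG, -, hmul⟩ := K856.PicG.exists_grpObj h
  obtain ⟨A, hA, i, h1, h2, h3, h4, h5⟩ := Sga3B.RedIdComp.exists_redIdComp Q
  let D : PZ k X := { σ := σ, hσ := hσ, P := Q, ξ := ξ, univ := h, rep := hP, lft := inferInstance, grpP := hG,
                      mul := hmul, A := A, grpA := hA, inc := i, hom := h1, closed := h2, smooth := h3, conn := h4,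
                      range := h5 }
  have he1 : e = 1 := by
    refine D.univ.hom_ext (PZ.pull_j_bijective (k := k) (X := X).1 ?_)
    change pull (PZ.j k X) (pull (PicF.XTmap (X ↘ Spec (CommRingCat.of k)) e) ξ) = D.θP 1
    rw [he, map_one, map_one]
  have hr : Set.range D.inc.left = (W : Set Q.left) := by
    rw [hW, he1]
    have h6 := D.range
    rwa [one_eq_one] at h6
  have hr' : Set.range D.inc.left ⊆ Set.range W.ι := by
    rw [Scheme.Opens.range_ι]
    exact hr.le
  let l : D.A.left ⟶ W := IsOpenImmersion.lift W.ι D.inc.left hr'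
  have hl : l ≫ W.ι = D.inc.left := IsOpenImmersion.lift_fac _ _ _
  have hcl : IsClosedImmersion (l ≫ W.ι) := by rw [hl]; exact D.closed
  have hcl' : IsClosedImmersion l := IsClosedImmersion.of_comp l W.ι
  have hred : IsReduced Q.left := isReduced_of_smooth Q
  have hredW : IsReduced (W : Scheme.{u}) := inferInstance
  have hsurj : Surjective l := by
    refine ⟨fun w => ?_⟩
    have hw : W.ι w ∈ Set.range D.inc.left := by
      rw [hr]; exact w.2
    obtain ⟨a, ha⟩ := hw
    refine ⟨a, W.ι.injective ?_⟩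
    rw [← ha, ← hl]
    rfl
  have hiso : IsIso l := isIso_of_isClosedImmersion_of_surjective l
  refine ⟨D, (asIso l).symm, ?_, fun x => ?_⟩
  · change inv l ≫ D.A.hom = W.ι ≫ Q.hom
    rw [IsIso.inv_comp_eq, ← Category.assoc, hl]
    exact (Over.w D.inc).symm
  · change pt x ∈ (W : Set Q.left) ↔ D.θP x ∈ alg0 k X
    rw [← hr]
    constructor
    · intro hx
      obtain ⟨a, ha⟩ := exists_comp_eq_of_pt_mem_range D.inc x hx
      have ha' : a ≫ D.inc = x := ha
      rw [← ha', ← D.θ_apply]
      exact D.θ_mem a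
    · intro hx
      obtain ⟨a, ha⟩ := D.exists_of_mem hx
      rw [D.θ_apply] at ha
      have h7 := D.θP_injective ha
      rw [← h7]
      exact ⟨pt a, (pt_comp _ _).symm⟩

end K856.FamField
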