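import Groth.Agent.Biell.K856.FamV
import Groth.Agent.S2569
import Groth.Agent.S0086

/-!
# `Pic⁰` of a smooth proper family with a section and a smooth Picard scheme is proper and smooth
-/

set_option autoImplicit false
set_option linter.unusedSectionVars false
universe u
open CategoryTheory CategoryTheory.Limits AlgebraicGeometry Opposite
open MonoidalCategory CartesianMonoidalCategory MonObj

namespace K856.FamProper

open Groth.Agent Groth.Agent.Grpsch Groth.Agent.Grpsch.PicGrp Groth.Agent.Fga.RigGrp K530.PicZero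
  Groth.Agent.Pic13.H138.AlgEquiv Groth.Agent.Pic13.H138.Slice K247.GrpZero K247.BC
open Groth.Agent.Books.AlgPts K856.PicA K856.FamV

attribute [local instance] K530.PicZero.fibOver

/-- The structure map of a geometrically connected scheme is surjective. -/
theorem surjective_of_geomConn {V S : Scheme.{u}} (v : V ⟶ S) [GeometricallyConnected v] : Surjective v := by
  constructor
  intro y
  have h1 : ConnectedSpace (v.fiber y) :=
    GeometricallyConnected.geometrically_connectedSpace (f := v) _ _ _ (.of_hasPullback _ _)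
  obtain ⟨z⟩ := (inferInstance : Nonempty (v.fiber y))
  exact ⟨v.fiberι y z, by
    have := Scheme.Hom.range_fiberι v y
    have h2 : v.fiberι y z ∈ Set.range (v.fiberι y) := ⟨z, rfl⟩
    rw [this] at h2
    exact h2⟩

theorem universally_isQuotientMap {V S : Scheme.{u}} (v : V ⟶ S) [Flat v] [LocallyOfFinitePresentation v]
    [Surjective v] : MorphismProperty.universally (topologically fun g => Topology.IsQuotientMap g) v := by
  intro X' Y' i₁ i₂ f' h
  have h1 : Flat f' := MorphismProperty.of_isPullback (P := @Flat) h.flip inferInstance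
  have h2 : LocallyOfFinitePresentation f' :=
    MorphismProperty.of_isPullback (P := @LocallyOfFinitePresentation) h.flip inferInstance
  have h3 : Surjective f' := MorphismProperty.of_isPullback (P := @Surjective) h.flip inferInstance
  exact f'.isOpenMap.isQuotientMap f'.continuous f'.surjective

variable {X S : Scheme.{u}} {f : X ⟶ S} {Q : Over S} {φ : ∀ T : Over S, PicF.Cl (PicF.XT f T) → (T ⟶ Q)}

theorem isPullback_V (V : Q.left.Opens) {S' : Scheme.{u}} (t : S' ⟶ S) :
    IsPullback ((pullback.fst Q.hom t) ∣_ V) (((pullback.fst Q.hom t) ⁻¹ᵁ V).ι ≫ pullback.snd Q.hom t)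
      (V.ι ≫ Q.hom) t :=
  (isPullback_morphismRestrict (pullback.fst Q.hom t) V).paste_vert (IsPullback.of_hasPullback Q.hom t)

variable [IsProper f] [Smooth f] [GeometricallyConnected f] (σ : S ⟶ X) (hσ : σ ≫ f = 𝟙 S)
  (hφ : AbDual.IsRelPicK Scheme.fppfPrecoverage f Q φ) [Smooth Q.hom] (V : Q.left.Opens)
  (hV : (V : Set Q.left) = MoreMor.sectionComponents Q.hom (φ (Over.mk (𝟙 S)) (toCl 1)).left)

include hφ hV in
theorem geometricallyConnected : GeometricallyConnected (V.ι ≫ Q.hom) := by
  refine ⟨fun K _ y W' fst snd h => ?_⟩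
  have h1 := isPullback_V V y
  let e := h1.isoIsPullback _ _ h
  have hsub : Subsingleton (Spec (CommRingCat.of K)) := inferInstanceAs (Subsingleton (PrimeSpectrum K))
  have h2 : ConnectedSpace ↑((pullback.fst Q.hom y ⁻¹ᵁ V : (pullback Q.hom y).Opens) : Scheme.{u}) := by
    have h3 : _root_.IsConnected (((pullback.fst Q.hom y) ⁻¹ᵁ V : (pullback Q.hom y).Opens) : Set ↑(pullback Q.hom y)) := by
      rw [preimage_V hφ V hV y, sectionComponents_eq _ _ (IsLocalRing.closedPoint K)]
      exact isConnected_connectedComponent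
    exact isConnected_iff_connectedSpace.1 h3
  exact e.hom.surjective.connectedSpace e.hom.continuous

include hσ hφ hV in
/-- The geometric fibres of `V`. -/
theorem exists_pz {Ω : Type u} [Field Ω] [IsAlgClosed Ω] (t : Spec (CommRingCat.of Ω) ⟶ S) :
    ∃ (D : PZ Ω (pullback f t)) (i : pullback (V.ι ≫ Q.hom) t ≅ D.A.left),
      i.hom ≫ D.A.hom = pullback.snd (V.ι ≫ Q.hom) t := by
  obtain ⟨D, i, hi, -⟩ := geom σ hσ hφ V hV t
  refine ⟨D, (isPullback_V V t).isoPullback.symm ≪≫ i, ?_⟩
  rw [Iso.trans_hom, Category.assoc, hi, Iso.symm_hom, (isPullback_V V t).isoPullback_inv_snd]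

include hσ hφ hV in
theorem isProper_fiber (y : S) : IsProper ((V.ι ≫ Q.hom).fiberToSpecResidueField y) := by
  let κ := S.residueField y
  let Ω := AlgebraicClosure κ
  let e : Spec (CommRingCat.of Ω) ⟶ Spec κ := Spec.map (CommRingCat.ofHom (algebraMap κ Ω))
  let v := V.ι ≫ Q.hom
  let b := S.fromSpecResidueField y
  obtain ⟨D, i, hi⟩ := exists_pz σ hσ hφ V hV (e ≫ b)
  have hpr : IsProper (pullback f (e ≫ b) ↘ Spec (CommRingCat.of Ω)) :=
    inferInstanceAs (IsProper (pullback.snd f (e ≫ b)))
  have hsm : Smooth (pullback f (e ≫ b) ↘ Spec (CommRingCat.of Ω)) :=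
    inferInstanceAs (Smooth (pullback.snd f (e ≫ b)))
  have hD := D.isProper
  have h1 : IsProper (pullback.snd v (e ≫ b)) := by
    rw [← hi]
    infer_instance
  have h2 : IsPullback (pullback.fst (pullback.snd v b) e ≫ pullback.fst v b) (pullback.snd (pullback.snd v b) e)
      v (e ≫ b) := (IsPullback.of_hasPullback (pullback.snd v b) e).paste_horiz (IsPullback.of_hasPullback v b)
  have h3 : IsProper (pullback.snd (pullback.snd v b) e) := by
    rw [← h2.isoPullback_hom_snd]
    infer_instance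
  have h4 := S0086.result.{u}
  have h5 : Surjective e := ⟨fun z => ⟨IsLocalRing.closedPoint Ω, Subsingleton.elim (α := PrimeSpectrum κ) _ _⟩⟩
  have h6 : Flat e := by
    refine (HasRingHomProperty.Spec_iff (P := @Flat)).2 ?_
    change (algebraMap κ Ω).Flat
    exact RingHom.flat_algebraMap_iff.2 inferInstance
  exact MorphismProperty.of_pullback_snd_of_descendsAlong (P := @IsProper)
    (Q := @Surjective ⊓ @Flat ⊓ @QuasiCompact) (f := pullback.snd v b) (g := e)
    ⟨⟨h5, h6⟩, inferInstance⟩ h3

include hσ hφ hV in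
theorem isProper [IsLocallyNoetherian S] [IsSeparated Q.hom] [QuasiCompact (V.ι ≫ Q.hom)] :
    IsProper (V.ι ≫ Q.hom) := by
  have hc := geometricallyConnected hφ V hV
  have hs := surjective_of_geomConn (V.ι ≫ Q.hom)
  have key : ∀ y : S, ∃ U : S.Opens, y ∈ U ∧ IsProper ((V.ι ≫ Q.hom) ∣_ U) := fun y =>
    S2569.result (V.ι ≫ Q.hom) (universally_isQuotientMap _)
      (fun y => inferInstanceAs (GeometricallyConnected (pullback.snd (V.ι ≫ Q.hom) (S.fromSpecResidueField y)))) y
      (isProper_fiber σ hσ hφ V hV y)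
  choose U hU h using key
  exact (IsZariskiLocalAtTarget.iff_of_iSup_eq_top (P := @IsProper) U
    (TopologicalSpace.Opens.ext (Set.eq_univ_of_forall fun s => by
      rw [TopologicalSpace.Opens.coe_iSup]
      exact Set.mem_iUnion.2 ⟨s, hU s⟩))).2 h

omit [Smooth Q.hom] in
include hσ in
/-- **`Pic⁰` of a smooth proper geometrically connected family with a section and a smooth separated Picard scheme.** -/
theorem main_section [IsLocallyNoetherian S] (hφ : AbDual.IsRelPicK Scheme.fppfPrecoverage f Q φ)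
    [IsSeparated Q.hom] [Smooth Q.hom] {P₀ : Over S} {φ₀ : ∀ T : Over S, PicF.Cl (PicF.XT f T) → (T ⟶ P₀)}
    (hP₀ : AbDual.IsRelPicZeroK Scheme.fppfPrecoverage f P₀ φ₀) :
    IsProper P₀.hom ∧ Smooth P₀.hom ∧ GeometricallyConnected P₀.hom ∧
      ∀ (Ω : Type u) [Field Ω] [IsAlgClosed Ω] (t : Spec (CommRingCat.of Ω) ⟶ S),
        ∃ (D : PZ Ω (pullback f t)) (i : pullback P₀.hom t ≅ D.A.left),
          i.hom ≫ D.A.hom = pullback.snd P₀.hom t := by
  have hN : IsLocallyNoetherian Q.left := LocallyOfFiniteType.isLocallyNoetherian Q.hom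
  let e0 := φ (Over.mk (𝟙 S)) (toCl 1)
  have he0 : e0.left ≫ Q.hom = 𝟙 S := Over.w e0
  let V : Q.left.Opens := ⟨MoreMor.sectionComponents Q.hom e0.left, S15351.result Q.hom e0.left he0⟩
  have hV : (V : Set Q.left) = MoreMor.sectionComponents Q.hom e0.left := rfl
  obtain ⟨e⟩ := nonempty_iso σ hσ hφ V hV hP₀
  have he1 : e.hom.left ≫ (V.ι ≫ Q.hom) = P₀.hom := Over.w e.hom
  have he2 : e.inv.left ≫ P₀.hom = V.ι ≫ Q.hom := Over.w e.inv
  have i1 : IsIso e.hom.left := inferInstanceAs (IsIso ((Over.forget _).map e.hom))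
  have i2 : IsIso e.inv.left := inferInstanceAs (IsIso ((Over.forget _).map e.inv))
  have hsm : Smooth P₀.hom := by
    rw [← he1]; infer_instance
  have hqc : QuasiCompact P₀.hom := K247.QcZero.quasiCompact' hP₀
  have hqcV : QuasiCompact (V.ι ≫ Q.hom) := by
    rw [← he2]; infer_instance
  have hpV := isProper σ hσ hφ V hV
  have hcV := geometricallyConnected hφ V hV
  refine ⟨?_, hsm, ?_, fun Ω _ _ t => ?_⟩
  · rw [← he1]; infer_instance
  · have h1 : IsPullback e.hom.left P₀.hom (V.ι ≫ Q.hom) (𝟙 S) := IsPullback.of_horiz_isIso ⟨by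
      rw [he1, Category.comp_id]⟩
    exact MorphismProperty.of_isPullback (P := @GeometricallyConnected) h1 hcV
  · obtain ⟨D, i, hi⟩ := exists_pz σ hσ hφ V hV t
    have h1 : IsPullback e.hom.left P₀.hom (V.ι ≫ Q.hom) (𝟙 S) := IsPullback.of_horiz_isIso ⟨by
      rw [he1, Category.comp_id]⟩
    have h2 := (IsPullback.of_hasPullback P₀.hom t).paste_horiz h1
    rw [Category.comp_id] at h2
    refine ⟨D, h2.isoPullback ≪≫ i, ?_⟩
    rw [Iso.trans_hom, Category.assoc, hi, h2.isoPullback_hom_snd]

end K856.FamProper
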