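import Groth.Agent.Biell.K856.FamField
import Groth.Agent.PicF.K247.BC
import Groth.Agent.PicF.K247.QcZero
import Groth.Agent.AbVar.K818.PicFppf
import Groth.Agent.S15351
import Groth.Agent.S1324

/-!
# The identity components of the fibres of a smooth relative Picard scheme

`f : X ⟶ S` smooth, proper, geometrically connected with a section, `(Q, φ)` representing the relative Picard
functor, `Q` smooth over `S`, and `V` the union of the connected components of the trivial class in the fibres.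
-/

set_option autoImplicit false
set_option linter.unusedSectionVars false
universe u
open CategoryTheory CategoryTheory.Limits AlgebraicGeometry Opposite
open MonoidalCategory CartesianMonoidalCategory MonObj

namespace K856.FamV

open Groth.Agent Groth.Agent.Grpsch Groth.Agent.Grpsch.PicGrp Groth.Agent.Fga.RigGrp K530.PicZero
  Groth.Agent.Pic13.H138.AlgEquiv Groth.Agent.Pic13.H138.Slice K247.GrpZero K247.BC
open Groth.Agent.Books.AlgPts K856.PicA

/-- Section components over a one point base. -/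
theorem sectionComponents_eq {X Y : Scheme.{u}} [Subsingleton Y] (f : X ⟶ Y) (s : Y ⟶ X) (y : Y) :
    MoreMor.sectionComponents f s = connectedComponent (s y) := by
  ext x
  have h1 : f ⁻¹' {f x} = Set.univ := Set.eq_univ_of_forall fun z ↦ Subsingleton.elim (α := Y) _ _
  change x ∈ connectedComponentIn (f ⁻¹' {f x}) (s (f x)) ↔ _
  rw [h1, connectedComponentIn_univ, Subsingleton.elim (α := Y) (f x) y]

variable {X S : Scheme.{u}} {f : X ⟶ S} {Q : Over S} {φ : ∀ T : Over S, PicF.Cl (PicF.XT f T) → (T ⟶ Q)}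

/-- The trivial class. -/
theorem phi_one (hφ : AbDual.IsRelPicK Scheme.fppfPrecoverage f Q φ) {T T' : Over S} (g : T' ⟶ T) :
    φ T' (toCl 1) = g ≫ φ T (toCl 1) := by
  rw [← hφ.natural _ _ g _ (isInvertibleCl_toCl 1), ← toCl_pull, map_one]

section geom

attribute [local instance] K530.PicZero.fibOver

variable [IsProper f] [Smooth f] [GeometricallyConnected f] (σ : S ⟶ X) (hσ : σ ≫ f = 𝟙 S)
  (hφ : AbDual.IsRelPicK Scheme.fppfPrecoverage f Q φ) [Smooth Q.hom] (V : Q.left.Opens)
  (hV : (V : Set Q.left) = MoreMor.sectionComponents Q.hom (φ (Over.mk (𝟙 S)) (toCl 1)).left)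

include hφ hV in
/-- The preimage of `V` in a base change is the union of section components. -/
theorem preimage_V {S' : Scheme.{u}} (t : S' ⟶ S) :
    (((pullback.fst Q.hom t) ⁻¹ᵁ V : (pullback Q.hom t).Opens) : Set ↑(pullback Q.hom t)) =
      MoreMor.sectionComponents (pullback.snd Q.hom t) (bcφ f t φ (Over.mk (𝟙 S')) (toCl 1)).left := by
  have h1 := S1324.result Q.hom (φ (Over.mk (𝟙 S)) (toCl 1)).left (Over.w _) (pullback.snd Q.hom t)
    (pullback.fst Q.hom t) t (IsPullback.of_hasPullback Q.hom t) (bcφ f t φ (Over.mk (𝟙 S')) (toCl 1)).left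
    (Over.w _) (by
      have h2 := bcφ_pr f t φ (Over.mk (𝟙 S')) 1
      have h3 : tr f t (Over.mk (𝟙 S')) 1 = 1 := map_one _
      let g : dn t (Over.mk (𝟙 S')) ⟶ Over.mk (𝟙 S) := Over.homMk t (by
        change t ≫ 𝟙 S = 𝟙 S' ≫ t
        rw [Category.comp_id, Category.id_comp])
      rw [h3, phi_one hφ g] at h2
      exact congrArg CommaMorphism.left h2)
  rw [h1, ← hV]
  rfl

variable {Ω : Type u} [Field Ω] [IsAlgClosed Ω] (t : Spec (CommRingCat.of Ω) ⟶ S)

include hσ hφ hV in
/-- Over a geometric point, `V` is the Picard variety, and its points are the classes algebraically equivalent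
to zero. -/
theorem geom : ∃ (D : PZ Ω (pullback f t))
    (i : (((pullback.fst Q.hom t) ⁻¹ᵁ V : (pullback Q.hom t).Opens) : Scheme.{u}) ≅ D.A.left),
      i.hom ≫ D.A.hom = ((pullback.fst Q.hom t) ⁻¹ᵁ V).ι ≫ pullback.snd Q.hom t ∧
      ∀ c : Pic (PicF.XT (pullback.snd f t) (Over.mk (𝟙 (Spec (CommRingCat.of Ω))))),
        (bcφ f t φ (Over.mk (𝟙 _)) (toCl c)).left (IsLocalRing.closedPoint Ω : Spec (CommRingCat.of Ω)) ∈
          (pullback.fst Q.hom t) ⁻¹ᵁ V ↔
        pull (PZ.j Ω (pullback f t)) c ∈ alg0 Ω (pullback f t) := by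
  have hφ' := K247.BC.isRelPicK f t hφ
  let σ' : Spec (CommRingCat.of Ω) ⟶ pullback f t := pullback.lift (t ≫ σ) (𝟙 _) (by
    rw [Category.assoc, hσ, Category.comp_id, Category.id_comp])
  have hσ' : σ' ≫ pullback.snd f t = 𝟙 _ := pullback.lift_snd _ _ _
  have ha : ∀ (T : Over (Spec (CommRingCat.of Ω))) (U : T.left.Opens),
      IsIso ((PicF.XTproj (pullback.snd f t) T).app U) := fun T U =>
    (ConcreteCategory.isIso_iff_bijective _).2 (bij (f := pullback.snd f t) T U)
  have hrel := K818.PicFppf.isRelPic hσ' ha hφ'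
  obtain ⟨ξ, hξ, hξ2⟩ := K818.PicFppf.exists_isUniv hσ' ha hφ'
  have hsm : Smooth (bcP t Q).hom := inferInstanceAs (Smooth (pullback.snd Q.hom t))
  have hmem : ∀ c : Pic (PicF.XT (pullback.snd f t) (Over.mk (𝟙 (Spec (CommRingCat.of Ω))))),
      pull (PicF.XTmap (pullback.snd f t) (bcφ f t φ (Over.mk (𝟙 _)) (toCl c))) ξ = c := fun c =>
    hξ2 _ _ ((mem_Rg _ _ _).2 (pic_spec_local Ω _))
  have hsub : Subsingleton (Spec (CommRingCat.of Ω)) := inferInstanceAs (Subsingleton (PrimeSpectrum Ω))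
  obtain ⟨D, i, hi, hi2⟩ := K856.FamField.exists_iso (k := Ω) (X := pullback f t) hσ' hξ ⟨_, hrel⟩
    (bcφ f t φ (Over.mk (𝟙 _)) (toCl 1)) (hmem 1) ((pullback.fst Q.hom t) ⁻¹ᵁ V) (by
      rw [preimage_V hφ V hV t, sectionComponents_eq _ _ (IsLocalRing.closedPoint Ω)]
      rfl)
  refine ⟨D, i, hi, fun c => ?_⟩
  have h1 := hi2 (bcφ f t φ (Over.mk (𝟙 _)) (toCl c))
  have h2 : pull (PicF.XTmap (pullback f t ↘ Spec (CommRingCat.of Ω)) (bcφ f t φ (Over.mk (𝟙 _)) (toCl c))) ξ = c :=
    hmem c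
  rw [h2] at h1
  exact h1

include hσ hφ hV in
/-- The point of `Q` defined by a class at a geometric point lies in `V` if and only if the class is algebraically
equivalent to zero there. -/
theorem mem_V_iff (T : Over S) (c : Pic (PicF.XT f T)) (τ : Spec (CommRingCat.of Ω) ⟶ T.left) :
    (φ T (toCl c)).left (τ (IsLocalRing.closedPoint Ω)) ∈ V ↔
      pull (pullback.fst (PicF.XTproj f T) τ) c ∈ alg0 Ω (pullback (PicF.XTproj f T) τ) := by
  let t : Spec (CommRingCat.of Ω) ⟶ S := τ ≫ T.hom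
  obtain ⟨D, i, hi, h⟩ := geom σ hσ hφ V hV t
  let I : Over (Spec (CommRingCat.of Ω)) := Over.mk (𝟙 (Spec (CommRingCat.of Ω)))
  let g : dn t I ⟶ T := Over.homMk τ (by
    change τ ≫ T.hom = 𝟙 _ ≫ τ ≫ T.hom
    rw [Category.id_comp])
  let c' : Pic (PicF.XT (pullback.snd f t) I) := pull (cmp f t I) (pull (PicF.XTmap f g) c)
  have hc' : tr f t I c' = pull (PicF.XTmap f g) c := tr_cmp f t I _
  have h2 : dnHom t (bcφ f t φ I (toCl c')) ≫ pr t Q = g ≫ φ T (toCl c) := by
    rw [bcφ_pr, hc', toCl_pull, hφ.natural _ _ g _ (isInvertibleCl_toCl c)]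
  have h3 : (pullback.fst Q.hom t) ((bcφ f t φ I (toCl c')).left
      (IsLocalRing.closedPoint Ω : Spec (CommRingCat.of Ω))) = (φ T (toCl c)).left (τ (IsLocalRing.closedPoint Ω)) := by
    have h4 : (bcφ f t φ I (toCl c')).left ≫ pullback.fst Q.hom t = τ ≫ (φ T (toCl c)).left :=
      congrArg CommaMorphism.left h2
    exact congrArg (fun z : Spec (CommRingCat.of Ω) ⟶ Q.left => z (IsLocalRing.closedPoint Ω)) h4
  rw [← h3]
  refine (h c').trans ?_
  let J : pullback f t ⟶ PicF.XT (pullback.snd f t) I := PZ.j Ω (pullback f t)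
  let u : pullback f t ⟶ PicF.XT f T := J ≫ cmp f t I ≫ PicF.XTmap f g
  have hj1 : J ≫ pullback.fst (pullback.snd f t) I.hom = 𝟙 _ := sliceAt_fst Ω (pullback f t) _ _ _
  have hj2 : J ≫ PicF.XTproj (pullback.snd f t) I = pullback.snd f t :=
    (sliceAt_snd Ω (pullback f t) _ _ _).trans (Category.comp_id _)
  have hu1 : u ≫ pullback.fst f T.hom = pullback.fst f t := by
    have e1 : PicF.XTmap f g ≫ pullback.fst f T.hom = pullback.fst f (dn t I).hom := XTmap_fst f g
    have e2 : cmp f t I ≫ pullback.fst f (dn t I).hom = pullback.fst (pullback.snd f t) I.hom ≫ pullback.fst f t :=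
      cmp_fst f t I
    calc u ≫ pullback.fst f T.hom = J ≫ cmp f t I ≫ PicF.XTmap f g ≫ pullback.fst f T.hom := by
          rw [Category.assoc, Category.assoc]
      _ = J ≫ pullback.fst (pullback.snd f t) I.hom ≫ pullback.fst f t := by rw [e1, e2]
      _ = pullback.fst f t := by
          rw [← Category.assoc, hj1, Category.id_comp]
  have hu2 : u ≫ PicF.XTproj f T = pullback.snd f t ≫ τ := by
    have e1 : PicF.XTmap f g ≫ PicF.XTproj f T = PicF.XTproj f (dn t I) ≫ g.left := XTmap_XTproj f g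
    have e2 : cmp f t I ≫ PicF.XTproj f (dn t I) = PicF.XTproj (pullback.snd f t) I := cmp_snd f t I
    calc u ≫ PicF.XTproj f T = J ≫ cmp f t I ≫ PicF.XTmap f g ≫ PicF.XTproj f T := by
          rw [Category.assoc, Category.assoc]
      _ = J ≫ (cmp f t I ≫ PicF.XTproj f (dn t I)) ≫ g.left := by rw [e1, Category.assoc]
      _ = pullback.snd f t ≫ τ := by
          rw [e2, ← Category.assoc, hj2]
          rfl
  have h5 : pull J c' = pull u c := by
    rw [← pull_comp, ← pull_comp, Category.assoc]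
  change pull J c' ∈ alg0 Ω (pullback f t) ↔ _
  rw [h5]
  let m : pullback (PicF.XTproj f T) τ ⟶ pullback f t :=
    pullback.lift (pullback.fst _ _ ≫ pullback.fst f T.hom) (pullback.snd _ _) (by
      have e1 : pullback.fst f T.hom ≫ f = PicF.XTproj f T ≫ T.hom := pullback.condition
      rw [Category.assoc, e1, ← Category.assoc, pullback.condition, Category.assoc])
  let n : pullback f t ⟶ pullback (PicF.XTproj f T) τ := pullback.lift u (pullback.snd f t) hu2
  have hm : m ≫ u = pullback.fst (PicF.XTproj f T) τ := by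
    apply pullback.hom_ext
    · rw [Category.assoc, hu1]
      exact pullback.lift_fst _ _ _
    · have e1 : m ≫ pullback.snd f t = pullback.snd (PicF.XTproj f T) τ := pullback.lift_snd _ _ _
      have e2 : (m ≫ u) ≫ PicF.XTproj f T = pullback.fst (PicF.XTproj f T) τ ≫ PicF.XTproj f T := by
        rw [Category.assoc, hu2, ← Category.assoc, e1, pullback.condition]
      exact e2
  constructor
  · intro h6
    have h7 := pull_mem_alg0 (k := Ω) (X := pullback f t) (X' := pullback (PicF.XTproj f T) τ) m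
      (pullback.lift_snd _ _ _) h6
    rwa [← pull_comp, hm] at h7
  · intro h6
    have h7 := pull_mem_alg0 (k := Ω) (X := pullback (PicF.XTproj f T) τ) (X' := pullback f t) n
      (pullback.lift_snd _ _ _) h6
    have h8 : n ≫ pullback.fst (PicF.XTproj f T) τ = u := pullback.lift_fst _ _ _
    rwa [← pull_comp, h8] at h7

include hσ hφ hV in
/-- A class is in `Pic⁰` if and only if its morphism to `Q` factors through `V`. -/
theorem isPicZeroCl_iff (T : Over S) (c : Pic (PicF.XT f T)) :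
    AbDual.IsPicZeroCl f T (toCl c) ↔ ∀ p : T.left, (φ T (toCl c)).left p ∈ V := by
  rw [isPicZeroCl_toCl_iff]
  constructor
  · intro h p
    obtain ⟨Ω, _, _, τ, hτ⟩ := K247.AlgTriv.exists_geom p
    have h1 : τ (IsLocalRing.closedPoint Ω) = p := by
      have h2 : τ (IsLocalRing.closedPoint Ω) ∈ ({p} : Set T.left) := by
        rw [← hτ]; exact ⟨_, rfl⟩
      exact h2
    rw [← h1]
    exact (mem_V_iff σ hσ hφ V hV T c τ).2 (h Ω τ)
  · intro h Ω _ _ τ
    exact (mem_V_iff σ hσ hφ V hV T c τ).1 (h _)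

/-- `V` as an `S`-scheme. -/
noncomputable abbrev Vo : Over S := Over.mk (V.ι ≫ Q.hom)

/-- The inclusion. -/
noncomputable abbrev ιV : Vo V ⟶ Q := Over.homMk V.ι rfl

theorem mono_ιV : Mono (ιV V) := by
  have : Mono (ιV V).left := inferInstanceAs (Mono V.ι)
  exact Over.mono_of_mono_left _

include hσ hφ hV in
/-- A scheme representing `Pic⁰` is isomorphic to `V`. -/
theorem nonempty_iso {P₀ : Over S} {φ₀ : ∀ T : Over S, PicF.Cl (PicF.XT f T) → (T ⟶ P₀)}
    (hP₀ : AbDual.IsRelPicZeroK Scheme.fppfPrecoverage f P₀ φ₀) : Nonempty (P₀ ≅ Vo V) := by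
  obtain ⟨c, -, hc0, hcφ⟩ := exists_rig σ hσ hP₀ P₀ (𝟙 P₀)
  let j : P₀ ⟶ Q := φ P₀ (toCl c)
  have hj : ∀ (T : Over S) (d : PicF.Cl (PicF.XT f T)), AbDual.IsPicZeroCl f T d → φ₀ T d ≫ j = φ T d := by
    intro T d hd
    obtain ⟨d, rfl⟩ := exists_toCl_of_isPicZeroCl f hd
    let c' := pull (PicF.XTmap f (φ₀ T (toCl d))) c
    have hc' : FibZero (PicF.XTproj f T) c' := hc0.pull _ _ (XTmap_XTproj f _)
    have hd' : FibZero (PicF.XTproj f T) d := (isPicZeroCl_toCl_iff f T d).1 hd
    have h1 : φ₀ T (toCl c') = φ₀ T (toCl d) := by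
      rw [toCl_pull, hP₀.natural _ _ _ _ ((isPicZeroCl_toCl_iff f P₀ c).2 hc0), hcφ, Category.comp_id]
    have h2 : φ T (toCl c') = φ₀ T (toCl d) ≫ j := by
      rw [toCl_pull, hφ.natural _ _ _ _ (isInvertibleCl_toCl c)]
    rw [← h2]
    have h3 : norm f σ hσ T c' = norm f σ hσ T d := by
      refine phi_injective σ hσ hP₀ T _ _ (norm_mem _ _ _ _ _) (norm_mem _ _ _ _ _)
        (phi_norm σ hσ hP₀ T c' hc').1 (phi_norm σ hσ hP₀ T d hd').1 ?_
      rw [(phi_norm σ hσ hP₀ T c' hc').2, (phi_norm σ hσ hP₀ T d hd').2, h1]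
    rw [← K818.PicFppf.phi_norm hσ hφ T c', ← K818.PicFppf.phi_norm hσ hφ T d, h3]
  obtain ⟨e, -⟩ := K247.PicZeroIso.exists_iso hφ hP₀ j hj (ιV V) (mono_ιV V) (fun T c hc => by
    obtain ⟨c, rfl⟩ := exists_toCl hc
    rw [isPicZeroCl_iff σ hσ hφ V hV]
    constructor
    · intro h
      have hr : Set.range (φ T (toCl c)).left ⊆ Set.range V.ι := by
        rw [Scheme.Opens.range_ι]
        rintro _ ⟨p, rfl⟩
        exact h p
      let l : T.left ⟶ V := IsOpenImmersion.lift V.ι (φ T (toCl c)).left hr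
      have hl : l ≫ V.ι = (φ T (toCl c)).left := IsOpenImmersion.lift_fac _ _ _
      refine ⟨Over.homMk l ?_, Over.OverMorphism.ext hl⟩
      change l ≫ V.ι ≫ Q.hom = T.hom
      rw [← Category.assoc, hl]
      exact Over.w _
    · rintro ⟨g, hg⟩ p
      rw [← hg]
      exact (g.left p).2)
  exact ⟨e⟩

end geom

end K856.FamV
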