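import Groth.Agent.Sga67.PushTwistD
import Groth.Agent.Fga.HodgePush
import Groth.Agent.Grpsch.PicGrp

/-!
# `f^* : Pic E → Pic X` is injective if `O_E = f_* O_X`
-/

set_option autoImplicit false
universe u
open CategoryTheory CategoryTheory.Limits AlgebraicGeometry

namespace K856.PullInj

open Groth.Agent Groth.Agent.Grpsch.PicGrp

variable {X E : Scheme.{u}} (f : X ⟶ E) (hf : ∀ U : E.Opens, IsIso (f.app U))

include hf

theorem nonempty_iso {M N : E.Modules} (hM : PicF.IsInvertible M) (hN : PicF.IsInvertible N)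
    (e : (Scheme.Modules.pullback f).obj M ≅ (Scheme.Modules.pullback f).obj N) : Nonempty (M ≅ N) := by
  have h := fun W : E.Opens => fun _ : IsAffineOpen W => (ConcreteCategory.isIso_iff_bijective (f.app W)).1 (hf W)
  have h1 := Sga67.PushTwist.isIso_unit f h (Fga.HodgePush.hasBases_of_isInvertible hM)
  have h2 := Sga67.PushTwist.isIso_unit f h (Fga.HodgePush.hasBases_of_isInvertible hN)
  exact ⟨@asIso _ _ _ _ _ h1 ≪≫ (Scheme.Modules.pushforward f).mapIso e ≪≫ (@asIso _ _ _ _ _ h2).symm⟩

/-- `f^* : Pic E → Pic X` is injective. -/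
theorem pull_injective : Function.Injective (pull f) := by
  intro a b hab
  induction a using ind with | _ M hM => ?_
  induction b using ind with | _ N hN => ?_
  rw [pull_mk, pull_mk, mk_eq_iff] at hab
  obtain ⟨e⟩ := hab
  exact (mk_eq_iff hM hN).2 (nonempty_iso f hf hM hN e)

end K856.PullInj
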