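import Groth.Agent.Biell.K856.Alb
import Groth.Agent.Biell.K856.PullInj
import Groth.Agent.S1340
import Groth.Agent.S1297
import Groth.Agent.Pi1.H419.SteinNormal
import Groth.Agent.Pi1.H386.NormalCurve
import Groth.Agent.EtpbcA.CharPDim
import Groth.Prelude.Def_Curve

/-!
# The fibration over a curve through which the Picard variety factors
-/

set_option autoImplicit false
set_option linter.unusedSectionVars false
universe u
open CategoryTheory CategoryTheory.Limits AlgebraicGeometry Opposite TopologicalSpace

namespace K856.Fib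

open Groth.Agent
open Groth.Agent.Grpsch.PicGrp
open Groth.Agent.Pic13.H138.AlgEquiv K856.PicA K856.Alb

theorem subsingleton_of_dim {E : Scheme.{u}} [IsIntegral E] (h : topologicalKrullDim E ≤ 0) : Subsingleton E := by
  have key : ∀ x : E, x = genericPoint E := by
    intro x
    by_contra hne
    let a : IrreducibleCloseds E := ⟨closure {x}, isIrreducible_singleton.closure, isClosed_closure⟩
    let b : IrreducibleCloseds E := ⟨Set.univ, IrreducibleSpace.isIrreducible_univ E, isClosed_univ⟩
    have h1 : a < b := by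
      refine lt_of_le_of_ne (fun _ _ => trivial) fun hab => hne ?_
      have h3 : closure {x} = (Set.univ : Set E) := congrArg (fun z : IrreducibleCloseds E => (z : Set E)) hab
      exact (IsGenericPoint.eq (S := Set.univ) h3 (genericPoint_spec E))
    have h2 : 0 < topologicalKrullDim E := Order.krullDim_pos_iff.2 ⟨_, _, h1⟩
    exact absurd h (not_le.2 h2)
  exact ⟨fun x y => (key x).trans (key y).symm⟩

theorem le_zero_of_lt_one {x : WithBot ℕ∞} (h : x < 1) : x ≤ 0 := by
  induction x using WithBot.recBotCoe with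
  | bot => exact bot_le
  | coe x =>
    have h1 : x < 1 := by exact_mod_cast h
    rw [Order.lt_one_iff.1 h1]
    rfl

theorem isAffine_of_subsingleton {E : Scheme.{u}} [Subsingleton E] [Nonempty E] : IsAffine E := by
  obtain ⟨x⟩ := ‹Nonempty E›
  obtain ⟨_, ⟨U, hU, rfl⟩, hxU, -⟩ :=
    E.isBasis_affineOpens.exists_subset_of_mem_open (Set.mem_univ x) isOpen_univ
  have h1 : U = ⊤ := by
    ext y
    simp only [Subsingleton.elim y x]
    exact ⟨fun _ => trivial, fun _ => hxU⟩
  subst h1
  have hU2 : IsAffine (⊤ : E.Opens).toScheme := hU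
  exact .of_isIso E.topIso.inv

theorem pic_trivial {k : Type u} [Field k] {E : Scheme.{u}} (p : E ⟶ Spec (CommRingCat.of k)) [IsProper p] [IsIntegral E]
    (h : topologicalKrullDim E ≤ 0) (c : Pic E) : c = 1 := by
  have := subsingleton_of_dim h
  have := isAffine_of_subsingleton (E := E)
  have hF : IsField Γ(E, ⊤) := isField_of_universallyClosed k p
  have hL : IsLocalRing Γ(E, ⊤) := by
    let _ : Field Γ(E, ⊤) := hF.toField
    infer_instance
  have h1 : pull E.isoSpec.inv c = 1 := pic_spec_local Γ(E, ⊤) _
  have h2 := congrArg (pull E.isoSpec.hom) h1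
  rw [← pull_comp, Iso.hom_inv_id, pull_id, map_one] at h2
  exact h2

variable {k : Type u} [Field k] [IsAlgClosed k] {X : Scheme.{u}} [X.Over (Spec (CommRingCat.of k))] [IsIntegral X]
  [IsProper (X ↘ Spec (CommRingCat.of k))]

theorem exists_fib (hX : _root_.Pi1.IsNormalScheme X) {B : Over (Spec (CommRingCat.of k))} [IsProper B.hom]
    (hB : topologicalKrullDim B.left ≤ 1) (ψ : ov k X ⟶ B)
    (halg : ∀ c ∈ alg0 k X, ∃ d, pull ψ.left d = c) (h1 : ∃ c ∈ alg0 k X, c ≠ 1) :
    ∃ (E : Scheme.{u}) (_ : E.Over (Spec (CommRingCat.of k))) (f : X ⟶ E),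
      f ≫ (E ↘ Spec (CommRingCat.of k)) = X ↘ Spec (CommRingCat.of k) ∧
      Curve.IsSmoothProperCurve k E (E ↘ Spec (CommRingCat.of k)) ∧ (∀ U, IsIso (f.app U)) ∧
      ∀ c ∈ alg0 k X, ∃ d : Pic E, pull f d = c := by
  have hw : ψ.left ≫ B.hom = X ↘ Spec (CommRingCat.of k) := Over.w ψ
  have hp : IsProper (ψ.left ≫ B.hom) := by rw [hw]; infer_instance
  have hψ : IsProper ψ.left := IsProper.of_comp ψ.left B.hom
  have hBN : IsLocallyNoetherian B.left := LocallyOfFiniteType.isLocallyNoetherian B.hom
  have hfin : IsFinite ψ.left.fromNormalization := S1297.result ψ.left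
  have hint : IsIntegral (ov k X).left := inferInstanceAs (IsIntegral X)
  have hE : IsIntegral ψ.left.normalization := inferInstance
  have hnor := Pi1.H419.SteinNormal.isNormalScheme_normalization (X := (ov k X).left) hX ψ.left
  have hEp : IsProper (ψ.left.fromNormalization ≫ B.hom) := inferInstance
  have hd : topologicalKrullDim ψ.left.normalization ≤ 1 :=
    (EtpbcA.CharPDim.dim_le_of_isIntegralHom ψ.left.fromNormalization).trans hB
  have hsm := Pi1.H386.NormalCurve.smooth_of_normal k (ψ.left.fromNormalization ≫ B.hom) hnor hd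
  have hdim : topologicalKrullDim ψ.left.normalization = 1 := by
    refine le_antisymm hd ?_
    by_contra hcon
    have h0 : topologicalKrullDim ψ.left.normalization ≤ 0 := by
      exact le_zero_of_lt_one (not_le.1 hcon)
    obtain ⟨c, hc, hne⟩ := h1
    obtain ⟨d, rfl⟩ := halg c hc
    apply hne
    rw [← Scheme.Hom.toNormalization_fromNormalization ψ.left, pull_comp,
      pic_trivial (ψ.left.fromNormalization ≫ B.hom) h0 (pull ψ.left.fromNormalization d), map_one]
  refine ⟨ψ.left.normalization, ⟨ψ.left.fromNormalization ≫ B.hom⟩, ψ.left.toNormalization, ?_,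
    ⟨hEp, hsm, hE, hdim⟩, fun U => S1340.result ψ.left U, fun c hc => ?_⟩
  · change ψ.left.toNormalization ≫ ψ.left.fromNormalization ≫ B.hom = _
    rw [Scheme.Hom.toNormalization_fromNormalization_assoc, hw]
  · obtain ⟨d, rfl⟩ := halg c hc
    refine ⟨pull ψ.left.fromNormalization d, ?_⟩
    rw [← pull_comp, Scheme.Hom.toNormalization_fromNormalization]

end K856.Fib
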