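import Groth.Agent.Biell.K856.GenZero
import Groth.Agent.Biell.K856.Fib
import Groth.Agent.Picfga.PtEval
import Groth.Agent.Picfga.GoodTwist

/-!
# The class of a fibre
-/

set_option autoImplicit false
set_option linter.unusedSectionVars false
universe u
open CategoryTheory CategoryTheory.Limits AlgebraicGeometry Opposite TopologicalSpace

namespace K856.FibCls

open Groth.Agent Groth.Agent.Grpsch.PicGrp
open K464.Base K464.Curves K464.Comp

theorem exists_point (k : Type u) [Field k] [IsAlgClosed k] {E : Scheme.{u}} [IsIntegral E]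
    (q : E ⟶ Spec (CommRingCat.of k)) (hE : Curve.IsSmoothProperCurve k E q) :
    ∃ (P : E.IdealSheafData) (_ : BlowUp.IsEffCartierIdeal P) (e : E), (∀ x, x ∈ P.support ↔ x = e) ∧
      genericPoint E ≠ e := by
  have h1 := Picfga.GoodTwist.smoothOfRelativeDimension hE
  obtain ⟨hp, hs, -, hdim⟩ := hE
  obtain ⟨σ, hσ⟩ := Pic13.H703.KPoints.exists_section q
  have := Picfga.PtEval.isClosedImmersion_of_section hσ
  have hsupp : ∀ x, x ∈ σ.ker.support ↔ x = σ (Classical.arbitrary _) := by
    intro x
    rw [Dix.VertGeom.mem_support_ker_iff]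
    constructor
    · rintro ⟨z, rfl⟩
      rw [Subsingleton.elim z (Classical.arbitrary _)]
    · rintro rfl
      exact ⟨_, rfl⟩
  refine ⟨σ.ker, (Picfga.PtEval.isEff_ker hσ).1, σ (Classical.arbitrary _), hsupp, fun h => ?_⟩
  have h2 : (Set.univ : Set E) ⊆ {σ (Classical.arbitrary _)} := by
    rw [← genericPoint_closure, h]
    have h3 : (σ.ker.support : Set E) = {σ (Classical.arbitrary _)} := by
      ext x
      exact hsupp x
    rw [← h3]
    exact closure_minimal (by rw [h3]) σ.ker.support.isClosed
  have h3 : Subsingleton E := ⟨fun a b => (h2 (Set.mem_univ a)).trans (h2 (Set.mem_univ b)).symm⟩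
  have h4 : topologicalKrullDim E ≤ 0 := by
    have h5 : Subsingleton (IrreducibleCloseds E) := ⟨fun a b => by
      have ha : (a : Set E) = Set.univ := Subsingleton.eq_univ_of_nonempty a.isIrreducible.nonempty
      have hb : (b : Set E) = Set.univ := Subsingleton.eq_univ_of_nonempty b.isIrreducible.nonempty
      exact IrreducibleCloseds.ext (ha.trans hb.symm)⟩
    exact Order.krullDim_nonpos_of_subsingleton
  rw [hdim] at h4
  exact absurd h4 (by norm_num)

theorem surjective_of_isIso {X E : Scheme.{u}} (f : X ⟶ E) [IsProper f] (hf : ∀ U, IsIso (f.app U)) :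
    Function.Surjective f := by
  rw [← Set.range_eq_univ]
  have hcl : IsClosed (Set.range f) := f.isClosedMap.isClosed_range
  by_contra hne
  let U : E.Opens := ⟨(Set.range f)ᶜ, hcl.isOpen_compl⟩
  obtain ⟨e, he⟩ := (Set.ne_univ_iff_exists_notMem _).1 hne
  have hU : Nonempty U := ⟨⟨e, he⟩⟩
  have h1 : f ⁻¹ᵁ U = ⊥ := by
    ext x
    simp only [Opens.coe_bot, Set.mem_empty_iff_false, iff_false]
    intro hx
    exact hx ⟨x, rfl⟩
  have h2 := hf U
  have h3 : Subsingleton Γ(X, f ⁻¹ᵁ U) := by
    rw [h1]; infer_instance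
  have h4 : Function.Injective (f.app U) := ((ConcreteCategory.isIso_iff_bijective (f.app U)).1 h2).1
  exact not_subsingleton Γ(E, U) h4.subsingleton

section

variable (k : Type u) [Field k] {X : Scheme.{u}} [X.Over (Spec (CommRingCat.of k))]
  [IsProper (X ↘ Spec (CommRingCat.of k))]

omit [IsProper (X ↘ Spec (CommRingCat.of k))] in
theorem degOn_eq_zero_of_pull (C : X.IdealSheafData) {a : Pic X} (h : pull C.subschemeι a = 1) :
    degOn k X C a = 0 := by
  obtain ⟨L, hL, rfl⟩ := exists_mk a
  rw [pull_mk, mk_eq_one_iff] at h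
  obtain ⟨e⟩ := h
  letI := overC k X C
  rw [degOn_mk, euler_quotMod_tensor_sub k X C hL, euler_quotMod_sub, euler_congr k _ e, sub_self]

omit [IsProper (X ↘ Spec (CommRingCat.of k))] in
theorem degOn_pull_eq_zero {E : Scheme.{u}} (f : X ⟶ E) (C : X.IdealSheafData) (e : E)
    (h : ∀ x ∈ C.support, f x = e) (a : Pic E) : degOn k X C (pull f a) = 0 := by
  apply degOn_eq_zero_of_pull
  rw [← pull_comp]
  refine GenZero.pull_eq_one_of_const _ e (fun w => ?_) a
  refine h _ ?_
  rw [← SetLike.mem_coe, ← C.range_subschemeι]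
  exact ⟨w, rfl⟩

variable [IsAlgClosed k] [Smooth (X ↘ Spec (CommRingCat.of k))] [IsIntegral X] (hdim : topologicalKrullDim X = 2)

include hdim in
theorem exists_fibre {E : Scheme.{u}} (q : E ⟶ Spec (CommRingCat.of k)) (hE : Curve.IsSmoothProperCurve k E q)
    (f : X ⟶ E) (hf : Function.Surjective f) :
    ∃ F : Pic X, (∃ b : Pic E, F = pull f b) ∧ (∀ a : Pic E, dot k X F (pull f a) = 0) ∧
      (∀ (H : X.Modules) (hH : CohB1.IsAmple H), dot k X F (mk H hH.1) < 0) := by
  have hint := hE.2.2.1
  obtain ⟨P, hP, e, he, hne⟩ := exists_point k q hE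
  have hgen : f (genericPoint X) = genericPoint E := by
    obtain ⟨x, hx⟩ := hf (genericPoint E)
    have h1 : f (genericPoint X) ⤳ genericPoint E := by
      rw [← hx]
      exact (genericPoint_specializes x).map f.continuous
    exact (h1.antisymm (genericPoint_specializes _)).eq
  have hgen' : f (genericPoint X) ∉ P.support := by
    rw [hgen, he]
    exact hne
  have hD := Dix.InterSurf.isEff_comap_of_generic f hP hgen'
  have hF : ic (P.comap f) hD = pull f (ic P hP) := by
    obtain ⟨i⟩ := Dix.IdealModCartier.pullback_idealMod f hP hD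
    exact (mk_congr i).symm
  refine ⟨ic (P.comap f) hD, ⟨_, hF⟩, fun a => ?_, fun H hH => ?_⟩
  · rw [dot_ic_eq, degOn_pull_eq_zero k f (P.comap f) e (fun x hx => ?_) a, neg_zero]
    rw [Scheme.IdealSheafData.support_comap] at hx
    exact (he _).1 hx
  · rw [dot_ic_eq]
    have hne' : P.comap f ≠ ⊤ := by
      intro h
      obtain ⟨x, hx⟩ := hf e
      have h1 : x ∈ (P.comap f).support := by
        rw [Scheme.IdealSheafData.support_comap]
        exact (he _).2 hx
      rw [h, Scheme.IdealSheafData.support_top] at h1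
      exact h1
    have := degOn_pos_of_ample_eff k hdim hH.1 hH hD hne'
    linarith

end

end K856.FibCls
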