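import Groth.Agent.Biell.K856.Num
import Groth.Agent.Surf.K455.Canon

/-!
# Riemann–Roch when `ω ≡ 0` and `χ(O) = 0`
-/

set_option autoImplicit false
set_option linter.unusedSectionVars false
universe u
open CategoryTheory CategoryTheory.Limits AlgebraicGeometry Opposite TopologicalSpace

namespace K856.RR

open Groth.Agent Groth.Agent.Grpsch.PicGrp
open K464.Base K464.Curves K464.Comp

open Groth.Agent.Fga.PicMon in
theorem isInvertible_right {X : Scheme.{u}} {L L' : X.Modules} (hL : PicF.IsInvertible L)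
    (h : ClSub.IsInverseOf L L') : PicF.IsInvertible L' := by
  obtain ⟨N, hN, ⟨e⟩⟩ := Grpsch.PicGrp.exists_inverse hL
  obtain ⟨h⟩ := h
  have h1 : mc L * mc L' = 1 := by rw [← mc_tensor, ← mc_one, mc_eq_iff]; exact ⟨h⟩
  have h2 : mc N * mc L = 1 := by
    rw [← mc_tensor, ← mc_one, mc_eq_iff]
    first
    | exact ⟨e⟩
    | exact ⟨Ega2.Tens.swap _ _ ≪≫ e⟩
  have h3 : mc N = mc L' := by
    rw [← mul_one (mc N), ← h1, ← mul_assoc, h2, one_mul]
  rw [mc_eq_iff] at h3
  obtain ⟨f⟩ := h3
  exact Pic13.H138.AlgEquiv.isInvertible_of_iso f hN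

variable (k : Type u) [Field k] {X : Scheme.{u}} [X.Over (Spec (CommRingCat.of k))]
  [IsProper (X ↘ Spec (CommRingCat.of k))] [SmoothOfRelativeDimension 2 (X ↘ Spec (CommRingCat.of k))] [IsIntegral X]
  (hdim : topologicalKrullDim X = 2) (hproj : ∃ H : X.Modules, CohB1.IsAmple H)
  {ω : X.Modules} (hω : ExtPow.IsExtPow 2 (Omega.sheaf (X ↘ Spec (CommRingCat.of k))) ω)
  (hnum : Pic13.IsNumEquivZero k X ω) (hχ : Curv2.euler k X (Coh.structureModule X) = 0)

include hdim hproj hω hnum

theorem dot_omega_eq_zero (a : Pic X) : dot k X a (mk ω (K455.Canon.isInvertible _ 2 hω)) = 0 := by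
  have : Smooth (X ↘ Spec (CommRingCat.of k)) := SmoothOfRelativeDimension.smooth 2 _
  exact Num.dot_eq_zero k hdim hproj _ hnum a

include hχ

/-- `L² = 2 χ(L)`. -/
theorem dot_self (a : Pic X) : dot k X a a = 2 * chi k X a := by
  obtain ⟨L, hL, rfl⟩ := exists_mk a
  have h := K455.SmoothRR.rr k hω hdim.le hL
  rw [intNum_eq_dot k X hdim.le hL hL, intNum_eq_dot k X hdim.le hL (K455.Canon.isInvertible _ 2 hω),
    dot_omega_eq_zero k hdim hproj hω hnum, Fga.IntAdd.eulerCharLE_eq k X 2 hdim.le,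
    Fga.IntAdd.eulerCharLE_eq k X 2 hdim.le, hχ] at h
  rw [chi_mk]
  linarith

theorem selfInt (L : X.Modules) (hL : PicF.IsInvertible L) :
    FGA.intNum k X 2 ![L, L] (Coh.structureModule X) = 2 * FGA.eulerCharLE k X L 2 := by
  rw [intNum_eq_dot k X hdim.le hL hL, dot_self k hdim hproj hω hnum hχ, chi_mk, Fga.IntAdd.eulerCharLE_eq k X 2 hdim.le]

theorem sections_or {L L' : X.Modules} (hL : PicF.IsInvertible L) (hL' : PicF.IsInvertible L')
    (e : Nonempty (CohB1.tensorMod L L' ≅ Coh.structureModule X)) (hpos : 0 < dot k X (mk L hL) (mk L hL)) :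
    Nontrivial (Coh.HH X L 0) ∨ ∀ H : X.Modules, ∀ hH : CohB1.IsAmple H,
      dot k X (mk L hL) (mk H hH.1) < 0 := by
  have hs : Smooth (X ↘ Spec (CommRingCat.of k)) := SmoothOfRelativeDimension.smooth 2 _
  have hωi := K455.Canon.isInvertible _ 2 hω
  by_cases h0 : Nontrivial (Coh.HH X L 0)
  · exact Or.inl h0
  · right
    rw [not_nontrivial_iff_subsingleton] at h0
    intro H hH
    have h1 := dot_self k hdim hproj hω hnum hχ (mk L hL)
    rw [chi_mk, ← Fga.IntAdd.eulerCharLE_eq k X 2 hdim.le] at h1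
    have h2 : FGA.eulerCharLE k X L 2 = Module.finrank k (Coh.HH X L 0) - Module.finrank k (Coh.HH X L 1) +
        Module.finrank k (Coh.HH X L 2) := by
      unfold FGA.eulerCharLE
      simp only [Finset.sum_range_succ, Finset.sum_range_zero]
      ring
    rw [h2, Module.finrank_zero_of_subsingleton (R := k) (M := Coh.HH X L 0)] at h1
    have h3 : 0 < Module.finrank k (Coh.HH X L 2) := by
      have : (0 : ℤ) < Module.finrank k (Coh.HH X L 2) := by
        push_cast at h1
        have h4 : (0 : ℤ) ≤ Module.finrank k (Coh.HH X L 1) := Int.natCast_nonneg _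
        linarith
      exact_mod_cast this
    rw [K455.SmoothRR.finrank_dual k hω hL e 0 2 rfl] at h3
    have h5 : Nontrivial (Coh.HH X (CohB1.tensorMod ω L') 0) := by
      by_contra h6
      rw [not_nontrivial_iff_subsingleton] at h6
      rw [Module.finrank_zero_of_subsingleton] at h3
      exact lt_irrefl _ h3
    have hT := Fdesc.LocGen.isInvertible_tensorMod hωi hL'
    have h7 : mk L' hL' = (mk L hL)⁻¹ := by
      apply eq_inv_of_mul_eq_one_right
      rw [mk_mul_mk, mk_eq_one_iff]
      exact e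
    have h8 : mk _ hT = mk ω hωi * (mk L hL)⁻¹ := by
      rw [← h7, mk_mul_mk]
    rcases Num.eq_one_or_pos k hdim hH hT h5 with h9 | h9
    · exfalso
      rw [h8, mul_inv_eq_one] at h9
      rw [← h9, dot_omega_eq_zero k hdim hproj hω hnum] at hpos
      exact lt_irrefl _ hpos
    · rw [h8, dot_mul_left k X hdim.le, dot_inv_left k X hdim.le, dot_comm k X (mk ω hωi),
        dot_omega_eq_zero k hdim hproj hω hnum] at h9
      linarith

theorem sections_or_inverse {L L' : X.Modules} (hL : PicF.IsInvertible L) (hL' : PicF.IsInvertible L')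
    (e : Nonempty (CohB1.tensorMod L L' ≅ Coh.structureModule X))
    (hpos : 0 < FGA.intNum k X 2 ![L, L] (Coh.structureModule X)) :
    Nontrivial (Coh.HH X L 0) ∨ Nontrivial (Coh.HH X L' 0) := by
  rw [intNum_eq_dot k X hdim.le hL hL] at hpos
  obtain ⟨H, hH⟩ := hproj
  rcases sections_or k hdim ⟨H, hH⟩ hω hnum hχ hL hL' e hpos with h | h
  · exact Or.inl h
  · right
    have h7 : mk L' hL' = (mk L hL)⁻¹ := by
      apply eq_inv_of_mul_eq_one_right
      rw [mk_mul_mk, mk_eq_one_iff]
      exact e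
    have e' : Nonempty (CohB1.tensorMod L' L ≅ Coh.structureModule X) := by
      obtain ⟨e⟩ := e
      exact ⟨Ega2.Tens.swap _ _ ≪≫ e⟩
    rcases sections_or k hdim ⟨H, hH⟩ hω hnum hχ hL' hL e' (by
      rwa [h7, dot_inv_inv k X hdim.le]) with h' | h'
    · exact h'
    · exfalso
      have h1 := h H hH
      have h2 := h' H hH
      rw [h7, dot_inv_left k X hdim.le] at h2
      linarith

end K856.RR
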