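import Groth.Agent.Biell.K856.FibCls
import Groth.Agent.Biell.K856.RR

/-!
# Integral curves on (quasi-)bielliptic surfaces have nonnegative self-intersection
-/

set_option autoImplicit false
set_option linter.unusedSectionVars false
universe u
open CategoryTheory CategoryTheory.Limits AlgebraicGeometry Opposite TopologicalSpace

namespace K856.SelfInt

open Groth.Agent Groth.Agent.Grpsch.PicGrp
open K464.Base K464.Curves K464.Comp

theorem det_three (a b c d e f : ℤ) : (!![a, b, c; b, d, e; c, e, f] : Matrix (Fin 3) (Fin 3) ℤ).det =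
    a * (d * f - e * e) - b * (b * f - e * c) + c * (b * e - d * c) := by
  rw [Matrix.det_fin_three]
  simp
  ring

variable (k : Type u) [Field k] [IsAlgClosed k] {X : Scheme.{u}} [X.Over (Spec (CommRingCat.of k))]
  [IsProper (X ↘ Spec (CommRingCat.of k))] [SmoothOfRelativeDimension 2 (X ↘ Spec (CommRingCat.of k))] [IsIntegral X]
  (hdim : topologicalKrullDim X = 2) (hproj : ∃ H : X.Modules, CohB1.IsAmple H)
  {ω : X.Modules} (hω : ExtPow.IsExtPow 2 (Omega.sheaf (X ↘ Spec (CommRingCat.of k))) ω)
  (hnum : Pic13.IsNumEquivZero k X ω)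

include hdim hproj hω hnum

/-- Adjunction for curves on a surface with `ω ≡ 0`. -/
theorem dot_self_curve {C : X.IdealSheafData} (hC : IsCurve C) (hCe : BlowUp.IsEffCartierIdeal C) :
    letI := overC k X C
    dot k X (ic C hCe) (ic C hCe) = -2 * ((1 : ℤ) - Module.finrank k (Coh.HH C.subscheme
      (Coh.structureModule C.subscheme) 1)) := by
  letI := overC k X C
  have := isProper_sub k X C
  have := hC.integral
  have hd : topologicalKrullDim C.subscheme = 1 := (dim_sub X C).trans hC.dim
  have hI : PicF.IsInvertible (ClSub.idealMod C.subschemeι.ker) := by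
    rw [Scheme.IdealSheafData.ker_subschemeι]
    exact Dix.IdealModCartier.isInvertible_idealMod hCe
  have h := K455.SmoothRR.adjunction k hω hdim.le C.subschemeι rfl hI
  have h2 : topologicalKrullDim C.subscheme ≤ (2 : ℕ) := by
    rw [hd]; norm_num
  rw [intNum_eq_dot k X hdim.le hI hI, intNum_eq_dot k X hdim.le hI (K455.Canon.isInvertible _ 2 hω),
    RR.dot_omega_eq_zero k hdim hproj hω hnum, Fga.IntAdd.eulerCharLE_eq k _ 2 h2, GenZero.euler_eq k hd.le,
    Num.h0_eq_one k, sub_zero] at h
  have h3 : mk _ hI = ic C hCe := by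
    unfold ic
    congr 1
    rw [Scheme.IdealSheafData.ker_subschemeι]
  rw [h3] at h
  exact_mod_cast h

/-- If the Picard number is at most two and `X` fibres over a curve of positive genus, then every curve has nonnegative
self-intersection. -/
theorem nonneg (hrank : ∀ L : Fin 3 → Pic X, (Matrix.of fun i j => dot k X (L i) (L j)).det = 0)
    {E : Scheme.{u}} [E.Over (Spec (CommRingCat.of k))] (f : X ⟶ E)
    (hf : f ≫ (E ↘ Spec (CommRingCat.of k)) = X ↘ Spec (CommRingCat.of k))
    (hE : Curve.IsSmoothProperCurve k E (E ↘ Spec (CommRingCat.of k)))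
    (hE1 : Module.finrank k (Coh.HH E (Coh.structureModule E) 1) ≠ 0) (hsurj : Function.Surjective f)
    {C : X.IdealSheafData} (hC : IsCurve C) (hCe : BlowUp.IsEffCartierIdeal C) :
    0 ≤ dot k X (ic C hCe) (ic C hCe) := by
  have hs : Smooth (X ↘ Spec (CommRingCat.of k)) := SmoothOfRelativeDimension.smooth 2 _
  by_contra hneg
  push Not at hneg
  obtain ⟨F, ⟨b, hb⟩, hF, hFH⟩ := FibCls.exists_fibre k hdim _ hE f hsurj
  obtain ⟨H, hH⟩ := hproj
  have hself := dot_self_curve k hdim ⟨H, hH⟩ hω hnum hC hCe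
  letI := overC k X C
  have := isProper_sub k X C
  have := hC.integral
  have hd : topologicalKrullDim C.subscheme = 1 := (dim_sub X C).trans hC.dim
  have h1 : Module.finrank k (Coh.HH C.subscheme (Coh.structureModule C.subscheme) 1) = 0 := by
    rw [hself] at hneg
    omega
  obtain ⟨e, he⟩ := GenZero.const_of_h1 k hd h1 hE hE1 (C.subschemeι ≫ f) (by rw [Category.assoc, hf]; rfl)
  have h2 : dot k X (ic C hCe) F = 0 := by
    rw [dot_ic_eq, hb, FibCls.degOn_pull_eq_zero k f C e (fun x hx => ?_) b, neg_zero]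
    rw [← SetLike.mem_coe, ← C.range_subschemeι] at hx
    obtain ⟨y, rfl⟩ := hx
    exact he y
  have h3 : dot k X F F = 0 := by
    nth_rewrite 2 [hb]
    exact hF b
  have h4 := hFH H hH
  have h5 := hrank ![ic C hCe, F, mk H hH.1]
  have h6 : (Matrix.of fun i j => dot k X ((![ic C hCe, F, mk H hH.1] : Fin 3 → Pic X) i)
      ((![ic C hCe, F, mk H hH.1] : Fin 3 → Pic X) j)) =
      !![dot k X (ic C hCe) (ic C hCe), 0, dot k X (ic C hCe) (mk H hH.1);
        0, 0, dot k X F (mk H hH.1);
        dot k X (ic C hCe) (mk H hH.1), dot k X F (mk H hH.1), dot k X (mk H hH.1) (mk H hH.1)] := by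
    ext i j
    fin_cases i <;> fin_cases j <;> simp [h2, h3, dot_comm k X F (ic C hCe), dot_comm k X (mk H hH.1) (ic C hCe),
      dot_comm k X (mk H hH.1) F]
  rw [h6, det_three] at h5
  generalize dot k X (ic C hCe) (ic C hCe) = x at h5 hneg
  generalize dot k X F (mk H hH.1) = y at h5 h4
  have h7 : 0 < y * y := mul_pos_of_neg_of_neg h4 h4
  nlinarith

omit hproj hω hnum in
omit [IsAlgClosed k] in
theorem eff_nonneg (h : ∀ (C : X.IdealSheafData) (_ : IsCurve C) (hCe : BlowUp.IsEffCartierIdeal C),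
      0 ≤ dot k X (ic C hCe) (ic C hCe))
    {D D' : X.IdealSheafData} (hD : BlowUp.IsEffCartierIdeal D) (hD' : BlowUp.IsEffCartierIdeal D') :
    0 ≤ dot k X (ic D hD) (ic D' hD') := by
  have hs : Smooth (X ↘ Spec (CommRingCat.of k)) := SmoothOfRelativeDimension.smooth 2 _
  have key : ∀ (C C' : X.IdealSheafData) (hC : IsCurve C) (hC' : IsCurve C') (hCe : BlowUp.IsEffCartierIdeal C)
      (hCe' : BlowUp.IsEffCartierIdeal C'), 0 ≤ dot k X (ic C hCe) (ic C' hCe') := by
    intro C C' hC hC' hCe hCe'
    by_cases hne : C = C'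
    · subst hne
      exact h C hC hCe
    · exact dot_ic_ic_nonneg k hC hCe hCe' (gp_notMem hC hC' hne)
  have step : ∀ {G : X.IdealSheafData} (hG : BlowUp.IsEffCartierIdeal G) (a : Pic X),
      (∀ (C : X.IdealSheafData) (_ : IsCurve C) (hCe : BlowUp.IsEffCartierIdeal C), 0 ≤ dot k X (ic C hCe) a) →
      0 ≤ dot k X (ic G hG) a := by
    intro G hG a ha
    have h1 := degOn_nonneg_of_forall k hdim (a := a⁻¹) (fun C hC => by
      have h2 := ha C hC (isEff_of_smooth k hdim hC)
      rw [dot_ic_eq] at h2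
      rw [degOn_inv k hC]
      exact h2) hG
    rwa [degOn_eq_neg_dot k X hG, dot_inv_right k X hdim.le, neg_neg] at h1
  apply step hD
  intro C hC hCe
  rw [dot_comm]
  apply step hD'
  intro C' hC' hCe'
  exact key C' C hC' hC hCe' hCe

end K856.SelfInt
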