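import Groth.Agent.Biell.K856.Basic
import Groth.Agent.Biell.K856.PicRank
import Groth.Agent.Biell.K856.SelfInt

/-!
# (Quasi-)bielliptic surfaces: the main numerical results
-/

set_option autoImplicit false
set_option linter.unusedSectionVars false
universe u
open CategoryTheory CategoryTheory.Limits AlgebraicGeometry Opposite TopologicalSpace

namespace K856.Final

open Groth.Agent Groth.Agent.Grpsch.PicGrp
open K464.Base K464.Curves K464.Comp

variable (k : Type u) [Field k] [IsAlgClosed k] (X : Scheme.{u}) [X.Over (Spec (CommRingCat.of k))]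
  [IsIntegral X] [IsProper (X ↘ Spec (CommRingCat.of k))] [SmoothOfRelativeDimension 2 (X ↘ Spec (CommRingCat.of k))]

theorem det_eq_zero (hb2 : ∀ ℓ : ℕ, ℓ.Prime → (ℓ : k) ≠ 0 → EtAdic.betti X ℓ 2 = 2) (L : Fin 3 → Pic X) :
    (Matrix.of fun i j => dot k X (L i) (L j)).det = 0 := by
  by_contra hne
  obtain ⟨ℓ, hℓ, hℓk, h⟩ := PicRank.rank_le_betti k X (Basic.dim_le k X) L hne
  have : Fact ℓ.Prime := ⟨hℓ⟩
  have h1 := h (BettiX.hfin (X ↘ Spec (CommRingCat.of k)) ℓ)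
  rw [hb2 ℓ hℓ hℓk] at h1
  omega

variable (hproj : ∃ H : X.Modules, CohB1.IsAmple H)
    {ω : X.Modules} (hω : ExtPow.IsExtPow 2 (Omega.sheaf (X ↘ Spec (CommRingCat.of k))) ω)
    (hnum : Pic13.IsNumEquivZero k X ω)
    (hb2 : ∀ ℓ : ℕ, ℓ.Prime → (ℓ : k) ≠ 0 → EtAdic.betti X ℓ 2 = 2)

include hproj hω hnum hb2

theorem exists_fibration : ∃ (E : Scheme.{u}) (_ : E.Over (Spec (CommRingCat.of k))) (f : X ⟶ E),
      f ≫ (E ↘ Spec (CommRingCat.of k)) = X ↘ Spec (CommRingCat.of k) ∧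
      Curve.IsSmoothProperCurve k E (E ↘ Spec (CommRingCat.of k)) ∧ (∀ U, IsIso (f.app U)) ∧
      (∀ c ∈ Pic13.H138.AlgEquiv.alg0 k X, ∃ d : Pic E, pull f d = c) ∧
      Module.finrank k (Coh.HH E (Coh.structureModule E) 1) = 1 ∧ Function.Surjective f := by
  have := Basic.isSmooth k X
  obtain ⟨-, -, D, hD⟩ := Basic.main k X hproj hω hnum hb2
  obtain ⟨E, hE, f, h1, h2, h3, h4, h5⟩ := Main3.exists_fibration D hD
  have hEp := h2.1
  have hfp : IsProper f := by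
    have : IsProper (f ≫ (E ↘ Spec (CommRingCat.of k))) := by rw [h1]; infer_instance
    exact IsProper.of_comp f (E ↘ Spec (CommRingCat.of k))
  exact ⟨E, hE, f, h1, h2, h3, h4, h5, FibCls.surjective_of_isIso f h3⟩

theorem rank_eq_two :
    (∃ L₁ L₂ : X.Modules, PicF.IsInvertible L₁ ∧ PicF.IsInvertible L₂ ∧
      FGA.intNum k X 2 ![L₁, L₁] (Coh.structureModule X) * FGA.intNum k X 2 ![L₂, L₂] (Coh.structureModule X) ≠
        FGA.intNum k X 2 ![L₁, L₂] (Coh.structureModule X) ^ 2) ∧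
    ∀ L : Fin 3 → X.Modules, (∀ i, PicF.IsInvertible (L i)) →
      (Matrix.of fun i j : Fin 3 => FGA.intNum k X 2 ![L i, L j] (Coh.structureModule X)).det = 0 := by
  have hs := Basic.isSmooth k X
  have hd := Basic.dim_eq k X
  obtain ⟨E, hEo, f, h1, h2, h3, h4, h5, h6⟩ := exists_fibration k X hproj hω hnum hb2
  obtain ⟨H, hH⟩ := hproj
  obtain ⟨F, ⟨b, hb⟩, hF, hFH⟩ := FibCls.exists_fibre k hd _ h2 f h6
  constructor
  · obtain ⟨N, hN, hNF⟩ := exists_mk F
    refine ⟨N, H, hN, hH.1, ?_⟩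
    rw [intNum_eq_dot k X hd.le hN hN, intNum_eq_dot k X hd.le hH.1 hH.1, intNum_eq_dot k X hd.le hN hH.1, ← hNF]
    have h7 := hFH H hH
    have h8 : dot k X F F = 0 := by
      nth_rewrite 2 [hb]
      exact hF b
    rw [h8, zero_mul]
    rw [sq]
    exact (mul_pos_of_neg_of_neg h7 h7).ne
  · intro L hL
    have h := det_eq_zero k X hb2 (fun i => mk (L i) (hL i))
    rw [← h]
    congr 1
    ext i j
    exact intNum_eq_dot k X hd.le (hL i) (hL j)

theorem curve_nonneg {C : X.IdealSheafData} (hC : IsCurve C) (hCe : BlowUp.IsEffCartierIdeal C) :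
    0 ≤ dot k X (ic C hCe) (ic C hCe) := by
  obtain ⟨E, hEo, f, h1, h2, h3, h4, h5, h6⟩ := exists_fibration k X hproj hω hnum hb2
  exact SelfInt.nonneg k (Basic.dim_eq k X) hproj hω hnum (det_eq_zero k X hb2) f h1 h2 (by rw [h5]; exact one_ne_zero) h6
    hC hCe

theorem integral_nonneg (I : X.IdealSheafData) [IsIntegral I.subscheme] (hdim : topologicalKrullDim I.subscheme = 1) :
    0 ≤ FGA.intNum k X 2 ![ClSub.idealMod I, ClSub.idealMod I] (Coh.structureModule X) := by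
  have hs := Basic.isSmooth k X
  have hC : IsCurve I := ⟨inferInstance, (dim_sub X I).symm.trans hdim⟩
  have hCe := isEff_of_smooth k (Basic.dim_eq k X) hC
  have h := curve_nonneg k X hproj hω hnum hb2 hC hCe
  rwa [intNum_eq_dot k X (Basic.dim_le k X) (Dix.IdealModCartier.isInvertible_idealMod hCe)
    (Dix.IdealModCartier.isInvertible_idealMod hCe)]

theorem eff_nonneg (I J : X.IdealSheafData) (hI : FGA.IsEffCartier I) (hJ : FGA.IsEffCartier J) :
    0 ≤ FGA.intNum k X 2 ![ClSub.idealMod I, ClSub.idealMod J] (Coh.structureModule X) := by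
  have hs := Basic.isSmooth k X
  rw [isEff_iff] at hI hJ
  have h := SelfInt.eff_nonneg k (Basic.dim_eq k X)
    (fun C hC hCe => curve_nonneg k X hproj hω hnum hb2 hC hCe) hI hJ
  rwa [intNum_eq_dot k X (Basic.dim_le k X) (Dix.IdealModCartier.isInvertible_idealMod hI)
    (Dix.IdealModCartier.isInvertible_idealMod hJ)]

theorem betti_table (ℓ : ℕ) (hℓ : ℓ.Prime) (hℓk : (ℓ : k) ≠ 0) :
    EtAdic.betti X ℓ 0 = 1 ∧ EtAdic.betti X ℓ 1 = 2 ∧ EtAdic.betti X ℓ 2 = 2 ∧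
      EtAdic.betti X ℓ 3 = 2 ∧ EtAdic.betti X ℓ 4 = 1 := by
  have : Fact ℓ.Prime := ⟨hℓ⟩
  obtain ⟨-, h1, -⟩ := Basic.main k X hproj hω hnum hb2
  refine ⟨BettiX.betti_zero (X ↘ Spec (CommRingCat.of k)) ℓ, h1 ℓ hℓ hℓk, hb2 ℓ hℓ hℓk, ?_,
    BettiX.betti_top (X ↘ Spec (CommRingCat.of k)) ℓ hℓk 2⟩
  rw [BettiX.betti_dual (X ↘ Spec (CommRingCat.of k)) ℓ hℓk 2 3 1 rfl]
  exact h1 ℓ hℓ hℓk

theorem eulerCharLE_eq_zero : FGA.eulerCharLE k X (Coh.structureModule X) 2 = 0 := by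
  rw [Fga.IntAdd.eulerCharLE_eq k X 2 (Basic.dim_le k X)]
  exact (Basic.main k X hproj hω hnum hb2).1

theorem self_eq (L : X.Modules) (hL : PicF.IsInvertible L) :
    FGA.intNum k X 2 ![L, L] (Coh.structureModule X) = 2 * FGA.eulerCharLE k X L 2 :=
  RR.selfInt k (Basic.dim_eq k X) hproj hω hnum (Basic.main k X hproj hω hnum hb2).1 L hL

theorem sections_or (L L' : X.Modules) (hL : PicF.IsInvertible L) (hLL' : ClSub.IsInverseOf L L')
    (hpos : 0 < FGA.intNum k X 2 ![L, L] (Coh.structureModule X)) :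
    Nontrivial (Coh.HH X L 0) ∨ Nontrivial (Coh.HH X L' 0) :=
  RR.sections_or_inverse k (Basic.dim_eq k X) hproj hω hnum (Basic.main k X hproj hω hnum hb2).1 hL
    (RR.isInvertible_right hL hLL') hLL' hpos

end K856.Final
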