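import Groth.Agent.Biell.K856.Num
import Groth.Agent.S1520
import Groth.Agent.S0219
import Groth.Agent.Sga3B.DimOneTop
import Groth.Agent.Fga.HodgeSec
import Groth.Agent.PerfB.PushFLF
import Groth.Agent.Ega43.DedekindOpen
import Groth.Agent.Krr.H483.ExtTwist
import Groth.Agent.Krr.H495.Rank
import Groth.Agent.Krr.H495.ExtExist
import Groth.Agent.Etcore.PicTors
import Groth.Agent.Sga67.TensorOps
import Groth.Agent.PerfA.CohZero
import Groth.Agent.Dual.H328.WUniv

/-!
# Curves of arithmetic genus zero have no nonconstant maps to curves of positive genus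
-/

set_option autoImplicit false
set_option linter.unusedSectionVars false
universe u
open CategoryTheory CategoryTheory.Limits AlgebraicGeometry Opposite TopologicalSpace

namespace K856.GenZero

open Groth.Agent Groth.Agent.Grpsch.PicGrp

/-! ### Pulling back to a point -/

theorem pull_eq_one_of_const {W E : Scheme.{u}} (g : W ⟶ E) (e : E) (h : ∀ w, g w = e) (a : Pic E) :
    pull g a = 1 := by
  obtain ⟨N, hN, rfl⟩ := exists_mk a
  obtain ⟨U, heU, ⟨i⟩⟩ := hN e
  have hle : Set.range g ⊆ Set.range U.ι := by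
    rw [Scheme.Opens.range_ι]
    rintro _ ⟨w, rfl⟩
    rw [h w]
    exact heU
  have h1 : g = IsOpenImmersion.lift U.ι g hle ≫ U.ι := (IsOpenImmersion.lift_fac _ _ _).symm
  rw [h1, pull_comp]
  have h2 : pull U.ι (mk N hN) = 1 := by
    rw [pull_mk, mk_eq_one_iff]
    exact ⟨(Scheme.Modules.restrictFunctorIsoPullback U.ι).symm.app N ≪≫ i⟩
  rw [h2, map_one]

/-! ### The kernel of the pull-back along a finite flat morphism -/

theorem exists_pow_eq_one {C E : Scheme.{u}} [Nonempty C] [ConnectedSpace E] (g : C ⟶ E) [IsFinite g] [Flat g]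
    [LocallyOfFinitePresentation g] : ∃ d : ℕ, 0 < d ∧ ∀ a : Pic E, pull g a = 1 → a ^ d = 1 := by
  have hO : FlatMod.IsFinLocFree (Coh.structureModule C) := Sga67.TensorOps.isFinLocFree_structureModule
  have hV : FlatMod.IsFinLocFree ((Scheme.Modules.pushforward g).obj (Coh.structureModule C)) :=
    PerfB.PushFLF.isFinLocFree_pushforward g hO
  obtain ⟨d, hd⟩ := Krr.H495.Rank.exists_rank_of_connected hV
  refine ⟨d, ?_, ?_⟩
  · by_contra h0
    have h0' : d = 0 := by omega
    subst h0'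
    have h1 := Krr.H495.Rank.isZero_of_rank_zero hd
    have h2 : Subsingleton Γ((Scheme.Modules.pushforward g).obj (Coh.structureModule C), ⊤) :=
      PerfA.CohZero.subsingleton_sections h1 ⊤
    have h3 : Subsingleton Γ(C, g ⁻¹ᵁ ⊤) := h2
    have : Nonempty (g ⁻¹ᵁ (⊤ : E.Opens)) := ⟨⟨Classical.arbitrary C, trivial⟩⟩
    exact not_subsingleton _ h3
  · intro a ha
    obtain ⟨M, hM, rfl⟩ := exists_mk a
    rw [pull_mk, mk_eq_one_iff] at ha
    obtain ⟨e⟩ := ha
    have hM1 : FlatMod.IsFinLocFreeOfRank 1 M := Ega2.QCohLocal.isFinLocFreeOfRank_one_iff.2 hM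
    have e1 : CohB1.tensorMod ((Scheme.Modules.pushforward g).obj (Coh.structureModule C)) M ≅
        (Scheme.Modules.pushforward g).obj (Coh.structureModule C) :=
      Ega2.Tens.swap _ _ ≪≫ VarietyB.ProjForm.projIsoUnit g (Fga.HodgePush.hasBases_of_isInvertible hM) ≪≫
        (Scheme.Modules.pushforward g).mapIso e
    obtain ⟨D, -, hD⟩ := Krr.H495.ExtExist.exists_isExtPow d _ hV
    have hV' : FlatMod.IsFinLocFree (CohB1.tensorMod ((Scheme.Modules.pushforward g).obj (Coh.structureModule C)) M) :=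
      Sga67.LocBasis.isFinLocFree_of_iso e1.symm hV
    obtain ⟨D', -, hD'⟩ := Krr.H495.ExtExist.exists_isExtPow d _ hV'
    obtain ⟨e2⟩ := Sga67.TensorOps.nonempty_iso_of_isExtPow e1 hD' hD
    obtain ⟨e3⟩ := Krr.H483.ExtTwist.nonempty_iso hV hM1 hD hD'
    have hDi : PicF.IsInvertible D := by
      have h := Krr.H495.Rank.rank_extPow hd hD
      rw [Nat.choose_self] at h
      exact Ega2.QCohLocal.isFinLocFreeOfRank_one_iff.1 h
    have h4 : mk D hDi * mk M hM ^ d = mk D hDi := by
      rw [← mk_tensorPow, mk_mul_mk]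
      exact mk_congr (e3 ≪≫ e2)
    exact mul_eq_left.1 h4

/-! ### Invertible modules on curves of arithmetic genus zero -/

section genus

variable (k : Type u) [Field k] [IsAlgClosed k]

theorem euler_eq {C : Scheme.{u}} [C.Over (Spec (CommRingCat.of k))] [IsProper (C ↘ Spec (CommRingCat.of k))]
    (hdim : topologicalKrullDim C ≤ (1 : ℕ)) (L : C.Modules) : Curv2.euler k C L =
      (Module.finrank k (Coh.HH C L 0) : ℤ) - Module.finrank k (Coh.HH C L 1) := by
  rw [← Fga.IntAdd.eulerCharLE_eq k C 1 hdim]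
  unfold FGA.eulerCharLE
  simp only [Finset.sum_range_succ, Finset.sum_range_zero]
  ring

variable {C : Scheme.{u}} [C.Over (Spec (CommRingCat.of k))] [IsProper (C ↘ Spec (CommRingCat.of k))] [IsIntegral C]
  (hdim : topologicalKrullDim C = 1) (h1 : Module.finrank k (Coh.HH C (Coh.structureModule C) 1) = 0)

include hdim h1

theorem eq_one_of_deg {L : C.Modules} (hL : PicF.IsInvertible L) (hdeg : Curv2.deg k C L 1 = 0) : mk L hL = 1 := by
  have h2 : Curv2.euler k C L = 1 := by
    have h3 := euler_eq k hdim.le (Coh.structureModule C)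
    rw [h1, Num.h0_eq_one k] at h3
    unfold Curv2.deg at hdeg
    push_cast at hdeg
    push_cast at h3
    linarith
  rw [euler_eq k hdim.le] at h2
  have h4 : 0 < Module.finrank k (Coh.HH C L 0) := by
    have h5 : (0 : ℤ) ≤ Module.finrank k (Coh.HH C L 1) := Int.natCast_nonneg _
    have h6 : (0 : ℤ) < Module.finrank k (Coh.HH C L 0) := by linarith
    exact_mod_cast h6
  obtain ⟨s, hs⟩ := Fga.HodgeSec.exists_section k h4
  rw [mk_eq_one_iff]
  exact S1520.result k C hdim L hL s hs hdeg.le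

theorem eq_one_of_pow {a : Pic C} {n : ℕ} (hn : 0 < n) (ha : a ^ n = 1) : a = 1 := by
  obtain ⟨L, hL, rfl⟩ := exists_mk a
  apply eq_one_of_deg k hdim h1
  rw [← mk_tensorPow, mk_eq_one_iff] at ha
  obtain ⟨e⟩ := ha
  have h2 : (n : ℤ) * Curv2.deg k C L 1 = 0 := by
    rw [← S1530.deg_tensorPow k hdim hL n, Dix.InterNum.deg_congr k _ hdim e, Dix.InterNum.deg_unit]
  have hn' : (n : ℤ) ≠ 0 := by exact_mod_cast hn.ne'
  exact (mul_eq_zero.1 h2).resolve_left hn'

end genus

/-! ### Constancy -/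

theorem isDomain_isPIR {k : Type u} [Field k] {E : Scheme.{u}} (q : E ⟶ Spec (CommRingCat.of k))
    (hE : Curve.IsSmoothProperCurve k E q) (y : E) :
    IsDomain (E.presheaf.stalk y) ∧ IsPrincipalIdealRing (E.presheaf.stalk y) := by
  obtain ⟨hp, hs, hint, hdim⟩ := hE
  letI : E.Over (Spec (CommRingCat.of k)) := ⟨q⟩
  have : Smooth (E ↘ Spec (CommRingCat.of k)) := hs
  have := S1535.result k E y
  refine Ega43.DedekindOpen.isDomain_isPrincipalIdealRing_of_regular_dim_le_one _ ?_
  refine le_trans ?_ hdim.le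
  rw [Groth.Agent.Dix.ContractSurf.topologicalKrullDim_eq]
  exact le_iSup (fun x : E => ringKrullDim (E.presheaf.stalk x)) y

/-- A map between integral curves is constant or finite. -/
theorem const_or_finite {k : Type u} [Field k] {C E : Scheme.{u}} (p : C ⟶ Spec (CommRingCat.of k))
    (q : E ⟶ Spec (CommRingCat.of k)) [IsProper p] [IsSeparated q] [IsIntegral C] (hdim : topologicalKrullDim C = 1)
    (g : C ⟶ E) (hg : g ≫ q = p) : (∃ e : E, ∀ c, g c = e) ∨ IsFinite g := by
  by_cases h : ∃ e : E, ∀ c, g c = e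
  · exact Or.inl h
  · right
    refine S0219.result k C E p q g hg hdim.le fun Z hZ _ => ?_
    have hZ' : Z = Set.univ := by
      rw [irreducibleComponents_eq_singleton] at hZ
      exact hZ
    subst hZ'
    by_contra hcon
    rw [Set.not_nontrivial_iff] at hcon
    apply h
    refine ⟨g (genericPoint C), fun c => ?_⟩
    exact hcon ⟨c, trivial, rfl⟩ ⟨genericPoint C, trivial, rfl⟩

theorem flat_of_nonconst {k : Type u} [Field k] {C E : Scheme.{u}}
    (q : E ⟶ Spec (CommRingCat.of k)) (hE : Curve.IsSmoothProperCurve k E q) [IsIntegral C]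
    (g : C ⟶ E) (hne : ¬ ∃ e : E, ∀ c, g c = e) : Flat g := by
  refine Ega43.DedekindOpen.flat_of_isMaxPt g (isDomain_isPIR q hE) fun w hw => ?_
  have hw' : genericPoint C = w := hw _ (genericPoint_specializes w)
  subst hw'
  intro z hz
  by_contra hzne
  apply hne
  refine ⟨g (genericPoint C), fun c => ?_⟩
  exact (Sga3B.DimOneTop.eq_of_specializes_of_dim_le_one hE.2.2.2.le hz hzne
    ((genericPoint_specializes c).map g.continuous)).symm

theorem exists_prime_gt (k : Type u) [Field k] (d : ℕ) : ∃ ℓ : ℕ, ℓ.Prime ∧ (ℓ : k) ≠ 0 ∧ d < ℓ := by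
  obtain ⟨ℓ, h1, h2⟩ := Nat.exists_infinite_primes (ringChar k + 1 + (d + 1))
  refine ⟨ℓ, h2, fun h0 => ?_, by omega⟩
  have h3 := (ringChar.spec k ℓ).1 h0
  rcases (Nat.dvd_prime h2).1 h3 with h4 | h4
  · have h5 := CharP.ringChar_ne_one (R := k)
    exact h5 h4
  · omega

/-- Curves of arithmetic genus zero map constantly to curves of positive genus. -/
theorem const_of_h1 (k : Type u) [Field k] [IsAlgClosed k] {C E : Scheme.{u}} [C.Over (Spec (CommRingCat.of k))]
    [E.Over (Spec (CommRingCat.of k))]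
    [IsProper (C ↘ Spec (CommRingCat.of k))] [IsIntegral C]
    (hdim : topologicalKrullDim C = 1) (h1 : Module.finrank k (Coh.HH C (Coh.structureModule C) 1) = 0)
    (hE : Curve.IsSmoothProperCurve k E (E ↘ Spec (CommRingCat.of k)))
    (hE1 : Module.finrank k (Coh.HH E (Coh.structureModule E) 1) ≠ 0)
    (g : C ⟶ E) (hg : g ≫ (E ↘ Spec (CommRingCat.of k)) = C ↘ Spec (CommRingCat.of k)) : ∃ e : E, ∀ c, g c = e := by
  by_contra hne
  have hflat := flat_of_nonconst _ hE g hne
  obtain ⟨hp, hs, hint, hdimE⟩ := hE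
  have hfin : IsFinite g := by
    rcases const_or_finite (C ↘ Spec (CommRingCat.of k)) (E ↘ Spec (CommRingCat.of k)) hdim g hg with h | h
    · exact absurd h hne
    · exact h
  have : IsLocallyNoetherian E := LocallyOfFiniteType.isLocallyNoetherian (E ↘ Spec (CommRingCat.of k))
  have hfp : LocallyOfFinitePresentation g := inferInstance
  obtain ⟨d, hd, hker⟩ := exists_pow_eq_one g
  obtain ⟨ℓ, hℓ, hℓk, hℓd⟩ := exists_prime_gt k d
  have hcard := Etcore.PicTors.card_torsion E (E ↘ Spec (CommRingCat.of k)) hdimE rfl ℓ hℓk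
  obtain ⟨c, hc, hc1⟩ : ∃ c : Pic E, c ^ ℓ = 1 ∧ c ≠ 1 := by
    by_contra hcon
    push Not at hcon
    have h2 : Subsingleton {c : Pic E // c ^ ℓ = 1} := ⟨fun a b => Subtype.ext ((hcon _ a.2).trans (hcon _ b.2).symm)⟩
    have h3 := Finite.card_le_one_iff_subsingleton.2 h2
    rw [hcard] at h3
    exact absurd h3 (not_le.2 (Nat.one_lt_pow (by omega) hℓ.one_lt))
  apply hc1
  have h2 : pull g c = 1 := by
    apply eq_one_of_pow k hdim h1 hℓ.pos
    rw [← map_pow, hc, map_one]
  have h3 := hker c h2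
  have hcop : Nat.Coprime d ℓ := ((Nat.Prime.coprime_iff_not_dvd hℓ).2 (Nat.not_dvd_of_pos_of_lt hd hℓd)).symm
  have h4 : orderOf c ∣ 1 := by
    rw [← Nat.Coprime.gcd_eq_one hcop]
    exact Nat.dvd_gcd (orderOf_dvd_of_pow_eq_one h3) (orderOf_dvd_of_pow_eq_one hc)
  exact orderOf_eq_one_iff.1 (Nat.dvd_one.1 h4)

end K856.GenZero
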