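import Groth.Agent.Biell.K856.Todd2
import Groth.Agent.Krr.H462.GrMap
import Groth.Agent.Krr.H500.GrChern

/-!
# Riemann–Roch algebra in dimension two

For a λ-ring with `F^3 = 0`: the degree two part of `td(T) ch(x)` in terms of the γ-filtration.
-/

set_option autoImplicit false
universe v

open scoped TensorProduct
open LambdaRing KGr

namespace K856.GrTwo

open Groth.Agent.Krr.H500.GrK Groth.Agent.Krr.H500.GrChern
open Groth.Agent.Books.Lambda1
open Groth.Agent.Books.Lambda2 hiding T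

section one

variable {K : Type v} [CommRing K] [LambdaRing.LambdaOps K] {P : LambdaRing.PosStructure K}

theorem smul_eq (q : ℚ) (z : Gr P) : q • z = algebraMap ℚ (Gr P) q * z := Algebra.smul_def q z

theorem grK_three (hF : gammaFiltration P 3 = ⊥) {x : K} (hx : x ∈ gammaFiltration P 3) (n : ℤ) :
    grK P n x = 0 := by
  rw [hF, AddSubgroup.mem_bot] at hx
  rw [hx, grK_zero]

theorem sub_aug_mem (x : K) (r : ℤ) (hr : P.aug x = r) : x - (r : K) ∈ gammaFiltration P 1 := by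
  have h := gamma_mem_filtration P (x := x - (r : K)) (by rw [map_sub, hr, map_intCast]; simp) 1
  rwa [gamma_one] at h

theorem gamma_two_mem (x : K) (r : ℤ) (hr : P.aug x = r) :
    gamma 2 (x - (r : K)) ∈ gammaFiltration P 2 :=
  gamma_mem_filtration P (by rw [map_sub, hr, map_intCast]; simp) 2

theorem chern_one (x : K) (r : ℤ) (hr : P.aug x = r) : chern P 1 x = grK P 1 (x - (r : K)) := by
  rw [chern, hr, gamma_one]
  rfl

theorem chern_two (x : K) (r : ℤ) (hr : P.aug x = r) :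
    chern P 2 x = grK P 2 (gamma 2 (x - (r : K))) := by
  rw [chern, hr]
  rfl

theorem chern_two_of_two (T : K) (hT : P.aug T = 2) : chern P 2 T = grK P 2 (KRR.lamAlt P T) := by
  have h := neg_one_pow_mul_chern P T 2 (by exact_mod_cast hT)
  have e : (-1 : Gr P) ^ 2 = 1 := by ring
  rw [e, one_mul] at h
  exact h

theorem gr_one_mul_one {x y : K} (hx : x ∈ gammaFiltration P 1) (hy : y ∈ gammaFiltration P 1) :
    grK P 1 x * grK P 1 y = grK P 2 (x * y) := by
  have h := grK_mul P (m := 1) (n := 1) (mem_QF_of_mem hx) (mem_QF_of_mem hy)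
  norm_num at h
  exact h

theorem gr_one_mul_two (hF : gammaFiltration P 3 = ⊥) {x y : K} (hx : x ∈ gammaFiltration P 1)
    (hy : y ∈ gammaFiltration P 2) : grK P 1 x * grK P 2 y = 0 := by
  have h := grK_mul P (m := 1) (n := 2) (mem_QF_of_mem hx) (mem_QF_of_mem hy)
  rw [grK_three hF (mul_mem_filtration P 1 2 _ _ hx hy)] at h
  exact_mod_cast h

theorem gr_two_mul_two (hF : gammaFiltration P 3 = ⊥) {x y : K} (hx : x ∈ gammaFiltration P 2)
    (hy : y ∈ gammaFiltration P 2) : grK P 2 x * grK P 2 y = 0 := by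
  have h := grK_mul P (m := 2) (n := 2) (mem_QF_of_mem hx) (mem_QF_of_mem hy)
  rw [grK_three hF (mul_mem_filtration P 1 2 _ _ (filtration_anti P (by norm_num) hx) hy)] at h
  exact_mod_cast h

/-- The Todd class of an element of augmentation two. -/
theorem tdK_two (hF : gammaFiltration P 3 = ⊥) (T : K) (hT : P.aug T = 2) :
    tdK P 2 T = 1 + (1 / 2 : ℚ) • grK P 1 (T - 2) +
      (1 / 12 : ℚ) • (grK P 2 ((T - 2) ^ 2) + grK P 2 (KRR.lamAlt P T)) := by
  have m1 : T - 2 ∈ gammaFiltration P 1 := by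
    have := sub_aug_mem T 2 hT
    exact_mod_cast this
  have m2 : KRR.lamAlt P T ∈ gammaFiltration P 2 := lamAlt_mem P T 2 (by exact_mod_cast hT)
  have c1 : chern P 1 T = grK P 1 (T - 2) := by
    rw [chern_one T 2 hT]
    norm_cast
  have c2 := chern_two_of_two T hT
  rw [tdK, Todd2.toddPoly_two]
  simp only [map_add, map_mul, map_pow, map_one, MvPolynomial.aeval_X, MvPolynomial.aeval_C]
  change (1 : Gr P) + algebraMap ℚ (Gr P) (1 / 2) * chern P 1 T +
    algebraMap ℚ (Gr P) (1 / 12) * (chern P 1 T ^ 2 + chern P 2 T) +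
    algebraMap ℚ (Gr P) (1 / 24) * (chern P 1 T * chern P 2 T) +
    algebraMap ℚ (Gr P) (1 / 144) * chern P 2 T ^ 2 = _
  rw [c1, c2, sq (grK P 2 _), gr_two_mul_two hF m2 m2, gr_one_mul_two hF m1 m2, sq, gr_one_mul_one m1 m1,
    ← sq, mul_zero, mul_zero, add_zero, add_zero, smul_eq, smul_eq]

/-- The Chern character. -/
theorem chK_two (x : K) (r : ℤ) (hr : P.aug x = r) :
    chK P 2 x = algebraMap ℚ (Gr P) r + grK P 1 (x - (r : K)) +
      (1 / 2 : ℚ) • grK P 2 ((x - (r : K)) ^ 2) - grK P 2 (gamma 2 (x - (r : K))) := by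
  have m1 := sub_aug_mem x r hr
  rw [chK, Todd2.chPoly_two]
  simp only [map_add, map_sub, map_mul, map_pow, map_ofNat, MvPolynomial.aeval_X, MvPolynomial.aeval_C]
  change algebraMap ℚ (Gr P) ((P.aug x : ℚ)) - algebraMap ℚ (Gr P) (2 : ℕ) + (2 + chern P 1 x +
    algebraMap ℚ (Gr P) (1 / 2) * chern P 1 x ^ 2 - chern P 2 x) = _
  rw [chern_one x r hr, chern_two x r hr, sq, gr_one_mul_one m1 m1, ← sq, smul_eq, hr, map_natCast]
  push_cast
  ring

end one

section push

variable {KX KY : Type v} [CommRing KX] [LambdaRing.LambdaOps KX] [CommRing KY]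
  [LambdaRing.LambdaOps KY] {PX : LambdaRing.PosStructure KX} {PY : LambdaRing.PosStructure KY}

theorem map_rat_smul' {fG : Gr PX →+ Gr PY} (q : ℚ) (z : Gr PX) : fG (q • z) = q • fG z :=
  map_rat_smul fG q z

theorem push_zero {fK : KX →+ KY} {fG : Gr PX →+ Gr PY} (hf : IsGrPush PX PY fK (-2) fG) (q : ℚ) :
    fG (algebraMap ℚ (Gr PX) q) = 0 := by
  rw [Algebra.algebraMap_eq_smul_one, map_rat_smul', ← grK_zero_one PX]
  have h := hf 0 1 (mem_filtration_zero PX 1)
  rw [Nat.cast_zero] at h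
  rw [h, Groth.Agent.Krr.H462.GrMap.grK_neg_degree (by norm_num), smul_zero]

theorem push_one {fK : KX →+ KY} {fG : Gr PX →+ Gr PY} (hf : IsGrPush PX PY fK (-2) fG) {x : KX}
    (hx : x ∈ gammaFiltration PX 1) : fG (grK PX 1 x) = 0 := by
  have h := hf 1 x hx
  rw [Nat.cast_one] at h
  rw [h, Groth.Agent.Krr.H462.GrMap.grK_neg_degree (by norm_num)]

theorem push_two {fK : KX →+ KY} {fG : Gr PX →+ Gr PY} (hf : IsGrPush PX PY fK (-2) fG)
    (hY : ∀ y : KY, y = ((PY.aug y : ℤ) : KY)) {x : KX}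
    (hx : x ∈ gammaFiltration PX 2) : fG (grK PX 2 x) = algebraMap ℚ (Gr PY) (PY.aug (fK x)) := by
  have h := hf 2 x hx
  rw [Nat.cast_ofNat] at h
  rw [h, hY (fK x), ← mul_one ((PY.aug (fK x) : ℤ) : KY)]
  have e : (2 : ℤ) + -2 = 0 := by norm_num
  rw [e, grK_intCast_mul, grK_zero_one, mul_one, map_intCast, map_intCast, zsmul_one]
  simp

/-- The degree of `td(T) ch(x)`. -/
theorem push_td_ch {fK : KX →+ KY} {fG : Gr PX →+ Gr PY} (hf : IsGrPush PX PY fK (-2) fG)
    (hY : ∀ y : KY, y = ((PY.aug y : ℤ) : KY)) (hF : gammaFiltration PX 3 = ⊥)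
    (T : KX) (hT : PX.aug T = 2) (x : KX) (r : ℤ) (hr : PX.aug x = r) :
    fG (tdK PX 2 T * chK PX 2 x) = algebraMap ℚ (Gr PY)
      ((r / 12 : ℚ) * (PY.aug (fK ((T - 2) ^ 2)) + PY.aug (fK (KRR.lamAlt PX T))) +
        (1 / 2 : ℚ) * PY.aug (fK ((T - 2) * (x - (r : KX)))) +
        (1 / 2 : ℚ) * PY.aug (fK ((x - (r : KX)) ^ 2)) - PY.aug (fK (gamma 2 (x - (r : KX))))) := by
  have m1 : T - 2 ∈ gammaFiltration PX 1 := by
    have := sub_aug_mem T 2 hT
    exact_mod_cast this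
  have m2 : KRR.lamAlt PX T ∈ gammaFiltration PX 2 := lamAlt_mem PX T 2 (by exact_mod_cast hT)
  have m3 : (T - 2) ^ 2 ∈ gammaFiltration PX 2 := by
    rw [sq]; exact mul_mem_filtration PX 1 1 _ _ m1 m1
  have n1 := sub_aug_mem x r hr
  have n2 := gamma_two_mem x r hr
  have n3 : (x - (r : KX)) ^ 2 ∈ gammaFiltration PX 2 := by
    rw [sq]; exact mul_mem_filtration PX 1 1 _ _ n1 n1
  have q1 : (T - 2) * (x - (r : KX)) ∈ gammaFiltration PX 2 := mul_mem_filtration PX 1 1 _ _ m1 n1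
  rw [tdK_two hF T hT, chK_two x r hr]
  have e : (1 + (1 / 2 : ℚ) • grK PX 1 (T - 2) +
      (1 / 12 : ℚ) • (grK PX 2 ((T - 2) ^ 2) + grK PX 2 (KRR.lamAlt PX T))) *
      (algebraMap ℚ (Gr PX) r + grK PX 1 (x - (r : KX)) +
      (1 / 2 : ℚ) • grK PX 2 ((x - (r : KX)) ^ 2) - grK PX 2 (gamma 2 (x - (r : KX)))) =
      algebraMap ℚ (Gr PX) r + grK PX 1 (x - (r : KX)) + ((r : ℚ) / 2) • grK PX 1 (T - 2) +
      (((r : ℚ) / 12) • (grK PX 2 ((T - 2) ^ 2) + grK PX 2 (KRR.lamAlt PX T)) +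
        (1 / 2 : ℚ) • grK PX 2 ((T - 2) * (x - (r : KX))) +
        (1 / 2 : ℚ) • grK PX 2 ((x - (r : KX)) ^ 2) - grK PX 2 (gamma 2 (x - (r : KX)))) := by
    rw [← gr_one_mul_one m1 n1]
    have z1 := gr_one_mul_two hF m1 n2
    have z2 := gr_one_mul_two hF m1 n3
    have z3 := gr_one_mul_two hF n1 m2
    have z4 := gr_one_mul_two hF n1 m3
    have z5 := gr_two_mul_two hF m2 n2
    have z6 := gr_two_mul_two hF m2 n3
    have z7 := gr_two_mul_two hF m3 n2
    have z8 := gr_two_mul_two hF m3 n3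
    simp only [smul_eq]
    have a1 : algebraMap ℚ (Gr PX) ((r : ℚ) / 2) = algebraMap ℚ (Gr PX) r * algebraMap ℚ (Gr PX) (1 / 2) := by
      rw [← map_mul]; congr 1; ring
    have a2 : algebraMap ℚ (Gr PX) ((r : ℚ) / 12) = algebraMap ℚ (Gr PX) r * algebraMap ℚ (Gr PX) (1 / 12) := by
      rw [← map_mul]; congr 1; ring
    rw [a1, a2]
    generalize algebraMap ℚ (Gr PX) (1 / 2) = h
    generalize algebraMap ℚ (Gr PX) (1 / 12) = w
    linear_combination (exp := 1) (-h) * z1 + h * h * z2 + w * z3 + w * z4 - w * z5 + w * h * z6 - w * z7 + w * h * z8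
  rw [e]
  simp only [map_add, map_sub, map_rat_smul', push_zero hf, push_one hf m1, push_one hf n1, push_two hf hY m2,
    push_two hf hY m3, push_two hf hY n2, push_two hf hY n3, push_two hf hY q1]
  simp only [smul_eq, mul_zero, zero_add, map_mul, map_add, add_zero]

end push

end K856.GrTwo
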