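import Groth.Agent.CurvesA.H1GmPicSurj
import Groth.Agent.Sga4B.KummerH1

/-!
# The Kummer sequence and the Picard group: `Pic X / n ↪ H²(X, μ_n)`, `H¹(X, μ_n) ≅ Pic X [n]`
-/

set_option autoImplicit false
universe u
open CategoryTheory CategoryTheory.Limits AlgebraicGeometry Opposite
open CategoryTheory.Abelian

namespace K856.KumPic

open Groth.Agent
open Groth.Agent.Sga4B.KummerH1
open Groth.Agent.Grpsch

variable (X : Scheme.{u}) (n : ℕ) (h : Epi (EtCoh.powMap X n))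

/-- The first Chern class `Pic X → H²(X, μ_n)`. -/
noncomputable def c1 : Additive (PicGrp.Pic X) →+ EtCoh.H X (EtCoh.mu X n) 2 :=
  (delta X n h 1).comp (CurvesA.H1GmPic.picEquiv X).toAddMonoidHom

theorem c1_eq_zero_iff (x : Additive (PicGrp.Pic X)) : c1 X n h x = 0 ↔ ∃ y, n • y = x := by
  change delta X n h 1 (CurvesA.H1GmPic.picEquiv X x) = 0 ↔ _
  rw [delta_eq_zero_iff]
  constructor
  · rintro ⟨y, hy⟩
    refine ⟨(CurvesA.H1GmPic.picEquiv X).symm y, ?_⟩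
    rw [← map_nsmul, hy, AddEquiv.symm_apply_apply]
  · rintro ⟨y, rfl⟩
    exact ⟨CurvesA.H1GmPic.picEquiv X y, (map_nsmul _ _ _).symm⟩

/-- `H¹(X, μ_n) → H¹(X, G_m)`. -/
noncomputable def toGm : EtCoh.H X (EtCoh.mu X n) 1 →+ EtCoh.H X (EtCoh.Gm X) 1 :=
  (Ext.mk₀ (EtCoh.muι X n)).postcomp _ (add_zero 1)

include h in
theorem toGm_injective (hdiv : ∀ u : (Γ(X, ⊤))ˣ, ∃ v, v ^ n = u) : Function.Injective (toGm X n) := by
  rw [injective_iff_map_eq_zero]
  intro x hx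
  obtain ⟨y, rfl⟩ := exists_conn_eq _ _ n _ (kummer_shortExact X n h) 0 x hx
  rw [conn_eq_zero_iff]
  obtain ⟨v, hv⟩ := hdiv ((unitsEquivH0 X).symm y).toMul
  refine ⟨unitsEquivH0 X (Additive.ofMul v), ?_⟩
  rw [← map_nsmul, ← ofMul_pow, hv, ofMul_toMul, AddEquiv.apply_symm_apply]

include h in
theorem range_toGm (x : EtCoh.H X (EtCoh.Gm X) 1) : (∃ y, toGm X n y = x) ↔ n • x = 0 := by
  constructor
  · rintro ⟨y, rfl⟩
    rw [← comp_nsmul_id]
    change (y.comp (Ext.mk₀ (EtCoh.muι X n)) (add_zero 1)).comp _ _ = 0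
    rw [Ext.comp_assoc_of_second_deg_zero, Ext.mk₀_comp_mk₀]
    have e : EtCoh.muι X n ≫ (n • 𝟙 (EtCoh.Gm X)) = 0 := kummer_zero X n
    rw [e, Ext.mk₀_zero, Ext.comp_zero]
  · intro hx
    rw [← comp_nsmul_id] at hx
    exact Ext.covariant_sequence_exact₂ _ (kummer_shortExact X n h) x hx

include h in
/-- `H¹(X, μ_n) ≅ Pic X [n]` when global units are `n`-divisible. -/
theorem card_H1 (hdiv : ∀ u : (Γ(X, ⊤))ˣ, ∃ v, v ^ n = u) :
    Nat.card (EtCoh.H X (EtCoh.mu X n) 1) = Nat.card {c : PicGrp.Pic X // c ^ n = 1} := by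
  let E := CurvesA.H1GmPic.picEquiv X
  refine Nat.card_congr (Equiv.ofBijective (fun y => ⟨(E.symm (toGm X n y)).toMul, ?_⟩) ⟨?_, ?_⟩)
  · have h1 : n • toGm X n y = 0 := (range_toGm X n h _).1 ⟨y, rfl⟩
    have h2 : n • E.symm (toGm X n y) = 0 := by rw [← map_nsmul, h1, map_zero]
    exact congrArg Additive.toMul h2
  · intro a b hab
    have h1 := congrArg (fun z => E (Additive.ofMul z.1)) hab
    simp only [ofMul_toMul, AddEquiv.apply_symm_apply] at h1
    exact toGm_injective X n h hdiv h1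
  · rintro ⟨c, hc⟩
    have h1 : n • E (Additive.ofMul c) = 0 := by
      rw [← map_nsmul, ← ofMul_pow, hc, ofMul_one, map_zero]
    obtain ⟨y, hy⟩ := (range_toGm X n h _).2 h1
    refine ⟨y, Subtype.ext ?_⟩
    change (E.symm (toGm X n y)).toMul = c
    rw [hy, AddEquiv.symm_apply_apply, toMul_ofMul]

end K856.KumPic
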