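import Groth.Agent.Biell.K857.SetupEx
import Groth.Agent.CohqB.AmpGeneric

/-!
# T2, node D: the family of translations

`NodeA` (curve theory on one fibre) is taken as a hypothesis.
-/

set_option autoImplicit false
universe u
open CategoryTheory CategoryTheory.Limits AlgebraicGeometry Opposite TopologicalSpace
open Groth.Agent Groth.Agent.Grpsch.PicGrp Groth.Agent.Pic13.H138.AlgEquiv Groth.Agent.Pic13.H138.Slice

namespace K856.NodeD

/-- Node A: no transitive family of endomorphisms of a curve of genus one respects an ample class. -/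
def NodeA : Prop := ∀ (k : Type u) [Field k] [IsAlgClosed k] (F : Scheme.{u})
    [F.Over (Spec (CommRingCat.of k))] [IsIntegral F] [IsProper (F ↘ Spec (CommRingCat.of k))]
    [SmoothOfRelativeDimension 1 (F ↘ Spec (CommRingCat.of k))]
    (_ : Module.finrank k (Coh.HH F (Coh.structureModule F) 1) = 1)
    (L : F.Modules) (hL : CohB1.IsAmple L) (M : Pic F)
    (_ : ∀ P R : F, IsClosed ({P} : Set F) → IsClosed ({R} : Set F) → R ≠ P →
      ∃ h : F ⟶ F, h ≫ (F ↘ Spec (CommRingCat.of k)) = F ↘ Spec (CommRingCat.of k) ∧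
        h ⁻¹' {P} = {R} ∧ pull h (mk L hL.1) = M), False

section

variable {k : Type u} [Field k] [IsAlgClosed k]

local notation "Sk" => Spec (CommRingCat.of k)

/-- A scheme locally of finite type over an algebraically closed field has a rational point. -/
theorem exists_pt {C : Scheme.{u}} (s : C ⟶ Sk) [LocallyOfFiniteType s] [Nonempty C] :
    ∃ c : Sk ⟶ C, c ≫ s = 𝟙 _ := by
  have hj : JacobsonSpace C := LocallyOfFiniteType.jacobsonSpace s
  obtain ⟨x, -, hx⟩ := nonempty_inter_closedPoints (X := C) (Z := Set.univ)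
    Set.univ_nonempty isOpen_univ.isLocallyClosed
  exact ⟨pointOfClosedPoint s x hx, pointOfClosedPoint_comp s x hx⟩

/-- A closed set with one closed point. -/
theorem eq_singleton {F : Scheme.{u}} [JacobsonSpace F] {Z : Set F} (hZ : IsClosed Z) {R : F}
    (hR : R ∈ Z) (hRc : IsClosed ({R} : Set F)) (h : ∀ y ∈ Z, IsClosed ({y} : Set F) → y = R) : Z = {R} := by
  apply Set.Subset.antisymm _ (Set.singleton_subset_iff.2 hR)
  intro y hy
  by_contra hne
  have h1 : (Z ∩ ({R} : Set F)ᶜ).Nonempty := ⟨y, hy, hne⟩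
  obtain ⟨z, ⟨hz1, hz2⟩, hz3⟩ := nonempty_inter_closedPoints h1
    (hZ.isLocallyClosed.inter hRc.isOpen_compl.isLocallyClosed)
  exact hz2 (h z hz1 hz3)

end

variable {k : Type u} [Field k] [IsAlgClosed k] {X E : Scheme.{u}}
    [X.Over (Spec (CommRingCat.of k))] [E.Over (Spec (CommRingCat.of k))] {f : X ⟶ E}

local notation "Sk" => Spec (CommRingCat.of k)

section slice

variable {D C : Scheme.{u}} {qD : D ⟶ X} {χ : D ⟶ C} {sC : C ⟶ Spec (CommRingCat.of k)}
  (hpb : IsPullback χ qD sC (X ↘ Spec (CommRingCat.of k)))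

/-- The slice of `D = C × X` over a point of `C`. -/
noncomputable def slice (c : Sk ⟶ C) (hc : c ≫ sC = 𝟙 _) : X ⟶ D :=
  hpb.lift ((X ↘ Sk) ≫ c) (𝟙 X) (by rw [Category.assoc, hc, Category.comp_id, Category.id_comp])

omit [IsAlgClosed k] in
@[reassoc]
theorem slice_χ (c : Sk ⟶ C) (hc : c ≫ sC = 𝟙 _) : slice hpb c hc ≫ χ = (X ↘ Sk) ≫ c := hpb.lift_fst _ _ _

omit [IsAlgClosed k] in
@[reassoc]
theorem slice_q (c : Sk ⟶ C) (hc : c ≫ sC = 𝟙 _) : slice hpb c hc ≫ qD = 𝟙 X := hpb.lift_snd _ _ _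

/-- `X ×_k C ⟶ D`. -/
noncomputable def J : Pic13.prodK k X sC ⟶ D :=
  hpb.lift (pullback.snd _ _) (pullback.fst _ _) pullback.condition.symm

omit [IsAlgClosed k] in
theorem sliceAt_J (c : Sk ⟶ C) (hc : c ≫ sC = 𝟙 _) : Pic13.sliceAt k X sC c hc ≫ J hpb = slice hpb c hc := by
  apply hpb.hom_ext
  · rw [Category.assoc, J, hpb.lift_fst, sliceAt_snd, slice_χ]
  · rw [Category.assoc, J, hpb.lift_snd, sliceAt_fst, slice_q]

/-- The classes `T_c^* L` are algebraically equivalent. -/
theorem algEq [IsIntegral C] [LocallyOfFiniteType sC] [QuasiCompact sC] (pD : D ⟶ X) (L : Pic X)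
    (c c₀ : Sk ⟶ C) (hc : c ≫ sC = 𝟙 _) (hc₀ : c₀ ≫ sC = 𝟙 _) :
    AlgEq k X (pull (slice hpb c hc ≫ pD) L) (pull (slice hpb c₀ hc₀ ≫ pD) L) := by
  refine ⟨C, sC, inferInstance, inferInstance, inferInstance, pull (J hpb ≫ pD) L, c, c₀, hc, hc₀, ?_, ?_⟩
  · rw [fibCl, ← pull_comp, ← Category.assoc, sliceAt_J]
  · rw [fibCl, ← pull_comp, ← Category.assoc, sliceAt_J]

end slice

/-- Node D. -/
theorem main (hA : NodeA.{u}) (h : K857.Setup k f) (h0 : ∀ c ∈ alg0 k X, ∃ d : Pic E, pull f d = c)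
    (hproj : ∃ H : X.Modules, CohB1.IsAmple H) (hsm : Smooth f)
    {D C : Scheme.{u}} (pD qD : D ⟶ X) (hcomm : pD ≫ f = qD ≫ f)
    (hex : ∀ P Q : Spec (CommRingCat.of k) ⟶ X, P ≫ (X ↘ Spec (CommRingCat.of k)) = 𝟙 _ →
      Q ≫ (X ↘ Spec (CommRingCat.of k)) = 𝟙 _ → P ≫ f = Q ≫ f → P ≠ Q →
        ∃ d : Spec (CommRingCat.of k) ⟶ D, d ≫ pD = P ∧ d ≫ qD = Q)
    (χ : D ⟶ C) (sC : C ⟶ Spec (CommRingCat.of k)) [IsIntegral C] [LocallyOfFiniteType sC]
    [QuasiCompact sC] (hpb : IsPullback χ qD sC (X ↘ Spec (CommRingCat.of k)))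
    (hsep : ∀ d d' : Spec (CommRingCat.of k) ⟶ D, d ≫ qD ≫ (X ↘ Spec (CommRingCat.of k)) = 𝟙 _ →
      d' ≫ qD ≫ (X ↘ Spec (CommRingCat.of k)) = 𝟙 _ → d ≫ pD = d' ≫ pD → d ≫ χ = d' ≫ χ → d = d') :
    False := by
  have hE := h.fibr.integral
  have hEp := h.fibr.proper
  have hfp := h.isProper
  have hX := h.int
  obtain ⟨H, hH⟩ := hproj
  obtain ⟨t, ht⟩ := exists_pt (E ↘ Sk)
  obtain ⟨c₀, hc₀⟩ := exists_pt sC
  let F : Scheme.{u} := pullback f t
  let iF : F ⟶ X := pullback.fst f t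
  let s : F ⟶ Sk := pullback.snd f t
  have hiF : iF ≫ f = s ≫ t := pullback.condition
  let _ : F.Over Sk := ⟨s⟩
  have iF1 : IsIntegral F := h.gen.integral t ht
  have hFp : IsProper s := inferInstanceAs (IsProper (pullback.snd f t))
  have hFp' : IsProper (F ↘ Sk) := hFp
  have htc : IsClosedImmersion t := by
    have : IsClosedImmersion (t ≫ (E ↘ Sk)) := by rw [ht]; infer_instance
    exact IsClosedImmersion.of_comp t (E ↘ Sk)
  have hic : IsClosedImmersion iF := inferInstanceAs (IsClosedImmersion (pullback.fst f t))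
  have hrel : SmoothOfRelativeDimension 1 f := by
    have h1 := h.smooth
    exact (K658.RelDimComp.of_comp f (E ↘ Sk) 1 2 h.fibr.smooth (by rw [h.fibr.over]; exact h1)).2
  have hFs : SmoothOfRelativeDimension 1 s :=
    (smoothOfRelativeDimension_isStableUnderBaseChange 1).of_isPullback (IsPullback.of_hasPullback f t) hrel
  have hFs' : SmoothOfRelativeDimension 1 (F ↘ Sk) := hFs
  have h1 : Module.finrank k (Coh.HH F (Coh.structureModule F) 1) = 1 := h.gen.h1 t ht
  have hL : CohB1.IsAmple ((Scheme.Modules.pullback iF).obj H) := Groth.Agent.CohqB.AmpCocycle.isAmple_pullback iF hH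
  -- the translations
  have hTf : ∀ (c : Sk ⟶ C) (hc : c ≫ sC = 𝟙 _), (slice hpb c hc ≫ pD) ≫ f = f := fun c hc => by
    rw [Category.assoc, hcomm, slice_q_assoc]
  have hsX : iF ≫ (X ↘ Sk) = s := by
    rw [← h.fibr.over, ← Category.assoc, hiF, Category.assoc, ht, Category.comp_id]
  -- constancy
  have hconst : ∀ (c : Sk ⟶ C) (hc : c ≫ sC = 𝟙 _) (L : Pic X),
      pull iF (pull (slice hpb c hc ≫ pD) L) = pull iF (pull (slice hpb c₀ hc₀ ≫ pD) L) := by
    intro c hc L
    obtain ⟨d, hd⟩ := h0 _ (algEq_iff_mem.1 (algEq hpb pD L c c₀ hc hc₀))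
    have h2 : pull iF (pull f d) = 1 := by
      rw [← pull_comp, hiF, pull_comp, pic_spec_local k (pull t d), map_one]
    rw [hd, map_mul, map_inv, mul_inv_eq_one] at h2
    exact h2
  refine hA k F h1 _ hL (pull iF (pull (slice hpb c₀ hc₀ ≫ pD) (mk H hH.1))) ?_
  intro P R hP hR hne
  have hj : JacobsonSpace F := LocallyOfFiniteType.jacobsonSpace s
  let P' := pointOfClosedPoint s P hP
  let R' := pointOfClosedPoint s R hR
  have hP's : P' ≫ s = 𝟙 _ := pointOfClosedPoint_comp s P hP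
  have hR's : R' ≫ s = 𝟙 _ := pointOfClosedPoint_comp s R hR
  have hP'a : P' (IsLocalRing.closedPoint k) = P := pointOfClosedPoint_apply s P hP _
  have hR'a : R' (IsLocalRing.closedPoint k) = R := pointOfClosedPoint_apply s R hR _
  obtain ⟨d, hd1, hd2⟩ := hex (P' ≫ iF) (R' ≫ iF) (by rw [Category.assoc, hsX, hP's])
    (by rw [Category.assoc, hsX, hR's])
    (by rw [Category.assoc, Category.assoc, hiF, ← Category.assoc, hP's, ← Category.assoc, hR's])
    (fun he => hne (by rw [← hP'a, ← hR'a, (cancel_mono iF).1 he]))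
  have hc : (d ≫ χ) ≫ sC = 𝟙 _ := by
    rw [Category.assoc, hpb.w, ← Category.assoc, hd2, Category.assoc, hsX, hR's]
  let T := slice hpb (d ≫ χ) hc ≫ pD
  let g : F ⟶ F := pullback.lift (iF ≫ T) s (by rw [Category.assoc, hTf, hiF])
  have hg1 : g ≫ iF = iF ≫ T := pullback.lift_fst _ _ _
  have hg2 : g ≫ s = s := pullback.lift_snd _ _ _
  have key : ∀ y : Sk ⟶ F, y ≫ s = 𝟙 _ → y ≫ g = P' → y = R' := by
    intro y hy hyP
    have e1 : (y ≫ iF ≫ slice hpb (d ≫ χ) hc) ≫ pD = d ≫ pD := by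
      rw [hd1, ← hyP]
      simp only [Category.assoc]
      rw [hg1]
    have e2 : (y ≫ iF ≫ slice hpb (d ≫ χ) hc) ≫ χ = d ≫ χ := by
      simp only [Category.assoc]
      rw [slice_χ, ← Category.assoc iF, hsX, ← Category.assoc y, hy, Category.id_comp]
    have e3 : y ≫ iF ≫ slice hpb (d ≫ χ) hc = d := by
      refine hsep _ _ ?_ ?_ e1 e2
      · simp only [Category.assoc]
        rw [slice_q_assoc, hsX, hy]
      · rw [← Category.assoc, hd2, Category.assoc, hsX, hR's]
    have e4 : y ≫ iF = R' ≫ iF := by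
      rw [← hd2, ← e3]
      simp only [Category.assoc]
      rw [slice_q, Category.comp_id]
    exact (cancel_mono iF).1 e4
  have hRg : R' ≫ g = P' := by
    rw [← cancel_mono iF, Category.assoc, hg1, ← hd1]
    have e5 : R' ≫ iF ≫ slice hpb (d ≫ χ) hc = d := by
      apply hpb.hom_ext
      · simp only [Category.assoc]
        rw [slice_χ, ← Category.assoc iF, hsX, ← Category.assoc R', hR's, Category.id_comp]
      · simp only [Category.assoc]
        rw [slice_q, Category.comp_id, hd2]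
    rw [← e5]
    simp only [Category.assoc]
    rfl
  refine ⟨g, hg2, ?_, ?_⟩
  · refine eq_singleton (hP.preimage g.continuous) ?_ hR ?_
    · change g R = P
      have e7 : g (R' (IsLocalRing.closedPoint k)) = (R' ≫ g) (IsLocalRing.closedPoint k) := rfl
      rw [← hR'a, e7, hRg, hP'a]
    · intro y hy hyc
      have e6 : pointOfClosedPoint s y hyc ≫ g = P' := by
        refine ext_of_apply_closedPoint_eq s ?_ hP's ?_
        · rw [Category.assoc, hg2, pointOfClosedPoint_comp]
        · have e9 : pointOfClosedPoint s y hyc (IsLocalRing.closedPoint k) = y :=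
            pointOfClosedPoint_apply s y hyc _
          have e8 : (pointOfClosedPoint s y hyc ≫ g) (IsLocalRing.closedPoint k) =
              g (pointOfClosedPoint s y hyc (IsLocalRing.closedPoint k)) := rfl
          rw [e8, e9, hP'a]
          exact hy
      have e9 : pointOfClosedPoint s y hyc (IsLocalRing.closedPoint k) = y :=
        pointOfClosedPoint_apply s y hyc _
      rw [← e9, key _ (pointOfClosedPoint_comp s y hyc) e6, hR'a]
  · rw [← hconst (d ≫ χ) hc (mk H hH.1)]
    change pull g (pull iF (mk H hH.1)) = _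
    rw [← pull_comp, hg1, pull_comp]

end K856.NodeD
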