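import Groth.Agent.Krr.H492.TangentEl
import Groth.Agent.Fga.UnitRestrict

/-!
# The tangent element of a smooth closed subscheme of projective space

For `i : X ⟶ P^m_Y` a closed immersion with `X` smooth over `Y`: `[Ω^∨] + [O] + [C^∨] = (m + 1) [i^* O(1)]`.
-/

set_option autoImplicit false
universe u

open CategoryTheory CategoryTheory.Limits AlgebraicGeometry

namespace K856.TangentX

open Groth.Agent
open Groth.Agent.Krr.H496.PullK0 (cl cl_ses pullK0 pullK0_cl)
open Groth.Agent.Krr.H492.EulerMap (Z)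
open Groth.Agent.Krr.H492.DualK Groth.Agent.Krr.H492.EulerClass Groth.Agent.Krr.H492.TangentEl
open Groth.Agent.Krr.H492
open Groth.Agent.Grpsch.ConormalIso

/-- The conormal sheaf of an isomorphism is zero. -/
theorem isZero_conormal {X Y : Scheme.{u}} (i : X ⟶ Y) [IsIso i] : IsZero (Omega.conormal i) := by
  have h1 : IsIso (ClSub.unitToPush i) := Fga.UnitRestrict.isIso_unitToPush i fun U => by
    have : IsIso (i.app U) := inferInstance
    exact ConcreteCategory.bijective_of_isIso (i.app U)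
  have h2 : IsZero (kernel (ClSub.unitToPush i)) := isZero_kernel_of_mono _
  have h3 : IsZero (ClSub.idealMod i.ker) :=
    h2.of_iso (Smoothlim.ConormalRes.idealModKerIso i)
  exact (Scheme.Modules.pullback i).map_isZero h3

theorem cl_isZero {X : Scheme.{u}} {M : X.Modules} (hM : IsZero M) : cl M = 0 := by
  have hM' : FlatMod.IsFinLocFree M := Dcoh.FinLocFree.isFinLocFree_of_isZero hM
  let S : ShortComplex X.Modules := ShortComplex.mk (0 : M ⟶ M) (0 : M ⟶ M) (by simp)
  have hS : S.ShortExact :=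
    { exact := S.exact_of_isZero_X₂ hM
      mono_f := ⟨fun a b _ => hM.eq_of_tgt _ _⟩
      epi_g := ⟨fun a b _ => hM.eq_of_src _ _⟩ }
  have h := cl_ses hS hM' hM' hM'
  exact left_eq_add.mp h

variable {X Y : Scheme.{u}} (m : ℕ)

/-- The morphism `X ×_Y P^m_Y ⟶ T ×_ℤ X`. -/
noncomputable def ambHom (f : X ⟶ Y) : pullback f (KRR.pr m Y) ⟶
    pullback (CohB1.ProjSpace.toSpec m Z.{u}) (bs X) :=
  pullback.lift (pullback.snd _ _ ≫ q m Y) (pullback.fst _ _) (specULiftZIsTerminal.hom_ext _ _)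

/-- The inverse morphism. -/
noncomputable def ambInv (f : X ⟶ Y) : pullback (CohB1.ProjSpace.toSpec m Z.{u}) (bs X) ⟶
    pullback f (KRR.pr m Y) :=
  pullback.lift (pullback.snd _ _) (lf (pullback.fst _ _) (pullback.snd _ _ ≫ f)) (by rw [lf_pr])

/-- The isomorphism `X ×_Y P^m_Y ≅ T ×_ℤ X`. -/
noncomputable def ambIso (f : X ⟶ Y) : pullback f (KRR.pr m Y) ≅
    pullback (CohB1.ProjSpace.toSpec m Z.{u}) (bs X) where
  hom := ambHom m f
  inv := ambInv m f
  hom_inv_id := by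
    apply pullback.hom_ext
    · rw [ambInv, Category.assoc, pullback.lift_fst, ambHom, pullback.lift_snd, Category.id_comp]
    · apply py_ext
      · rw [ambInv, Category.assoc, Category.assoc, pullback.lift_snd_assoc, lf_q, ambHom, pullback.lift_fst,
          Category.id_comp]
      · rw [ambInv, Category.assoc, Category.assoc, pullback.lift_snd_assoc, lf_pr, ambHom,
          pullback.lift_snd_assoc, Category.id_comp]
        exact pullback.condition
  inv_hom_id := by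
    apply pullback.hom_ext
    · rw [ambHom, Category.assoc, pullback.lift_fst, ambInv, pullback.lift_snd_assoc, lf_q, Category.id_comp]
    · rw [ambHom, Category.assoc, pullback.lift_snd, ambInv, pullback.lift_fst, Category.id_comp]

variable {m}

/-- The relation in `K₀`. -/
theorem main (f : X ⟶ Y) [Smooth f] [IsSeparated f] (i : X ⟶ KRR.PY m Y) [IsClosedImmersion i]
    (hi : i ≫ KRR.pr m Y = f) (hΩ : FlatMod.IsFinLocFree (Omega.sheaf f)) :
    FlatMod.IsFinLocFree (Omega.conormal i) ∧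
    dualK X (cl (Omega.sheaf f)) + cl (Coh.structureModule X) + dualK X (cl (Omega.conormal i)) =
      (m + 1) • cl ((Scheme.Modules.pullback i).obj (Twist.twistOver m Y 1)) := by
  have w₁ : 𝟙 X ≫ f = i ≫ KRR.pr m Y := by rw [hi, Category.id_comp]
  have w₂ : (i ≫ q m Y) ≫ CohB1.ProjSpace.toSpec m Z.{u} = 𝟙 X ≫ bs X := specULiftZIsTerminal.hom_ext _ _
  have hp : IsProper (CohB1.ProjSpace.toSpec m Z.{u}) := Groth.Agent.Ega3B.ProjProper.isProper_toSpec m _
  have hs1 : SmoothOfRelativeDimension m (CohB1.ProjSpace.toSpec m Z.{u}) :=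
    Groth.Agent.Sga5.ProjSmooth.smooth_toSpec m _
  have hs : Smooth (CohB1.ProjSpace.toSpec m Z.{u}) := SmoothOfRelativeDimension.smooth m _
  obtain ⟨S', hS', ⟨e₁'⟩, ⟨e₂'⟩, ⟨e₃''⟩⟩ := ConProd.exists_shortExact (CohB1.ProjSpace.toSpec m Z.{u}) (bs X)
    (𝟙 X) (i ≫ q m Y) w₂
  have h0 : IsZero S'.X₁ := (isZero_conormal (𝟙 X)).of_iso e₁'
  have h₁' : FlatMod.IsFinLocFree S'.X₁ := Dcoh.FinLocFree.isFinLocFree_of_isZero h0
  have h₃' : FlatMod.IsFinLocFree S'.X₃ :=
    Dcoh.FinLocFree.isFinLocFree_of_iso e₃''.symm (isFinLocFree_pull_omega m _)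
  have h₂' : FlatMod.IsFinLocFree S'.X₂ := Sga67.LocBasis.isFinLocFree_of_shortExact hS' h₁' h₃'
  have h5 := congrArg (dualK X) (cl_ses hS' h₁' h₂' h₃')
  rw [map_add, cl_isZero h0, map_zero, zero_add, cl_iso e₂' h₂', cl_iso e₃'' h₃'] at h5
  -- the two graph embeddings agree
  have e : pullback.lift (𝟙 X) i w₁ ≫ (ambIso m f).hom = pullback.lift (i ≫ q m Y) (𝟙 X) w₂ := by
    change pullback.lift (𝟙 X) i w₁ ≫ ambHom m f = _
    apply pullback.hom_ext
    · rw [ambHom, Category.assoc, pullback.lift_fst, pullback.lift_snd_assoc, pullback.lift_fst]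
    · rw [ambHom, Category.assoc, pullback.lift_snd, pullback.lift_fst, pullback.lift_snd]
  have hsep : IsSeparated (pullback.snd f (KRR.pr m Y)) := inferInstance
  have h3 : IsClosedImmersion (pullback.lift (𝟙 X) i w₁ ≫ pullback.snd f (KRR.pr m Y)) := by
    rw [pullback.lift_snd]
    infer_instance
  have h4' : IsClosedImmersion (pullback.lift (𝟙 X) i w₁) :=
    IsClosedImmersion.of_comp _ (pullback.snd f (KRR.pr m Y))
  obtain ⟨e'⟩ := nonempty_conormal_iso (ambIso m f) (pullback.lift (𝟙 X) i w₁)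
  rw [e] at e'
  have hA : FlatMod.IsFinLocFree (Omega.conormal (pullback.lift (𝟙 X) i w₁)) :=
    Dcoh.FinLocFree.isFinLocFree_of_iso (e₂' ≪≫ e'.symm) h₂'
  obtain ⟨S, hS, ⟨e₁⟩, ⟨e₂⟩, ⟨e₃⟩⟩ := ConProd.exists_shortExact f (KRR.pr m Y) i (𝟙 X) w₁
  have e₃' : S.X₃ ≅ Omega.sheaf f := e₃ ≪≫ (Scheme.Modules.pullbackId X).app _
  have h₃ : FlatMod.IsFinLocFree S.X₃ := Dcoh.FinLocFree.isFinLocFree_of_iso e₃'.symm hΩ
  have h₂ : FlatMod.IsFinLocFree S.X₂ := Dcoh.FinLocFree.isFinLocFree_of_iso e₂.symm hA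
  have h₁ : FlatMod.IsFinLocFree S.X₁ := by
    have := hS.epi_g
    exact Dcoh.FinLocFree.isFinLocFree_of_iso ((limit.isLimit _).conePointUniqueUpToIso hS.fIsKernel)
      (Dcoh.Spread.isFinLocFree_kernel S.g h₂ h₃)
  refine ⟨Dcoh.FinLocFree.isFinLocFree_of_iso e₁ h₁, ?_⟩
  have h4 := congrArg (dualK X) (cl_ses hS h₁ h₂ h₃)
  rw [map_add, cl_iso e₁ h₁, cl_iso e₂ h₂, cl_iso e₃' h₃] at h4
  have h6 := cl_iso e' hA
  have h7 : cl ((Scheme.Modules.pullback (i ≫ q m Y)).obj
      (Twist.twistProjSpace.{u} m Z.{u} 1)) = cl ((Scheme.Modules.pullback i).obj (Twist.twistOver m Y 1)) := by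
    refine cl_iso ((Scheme.Modules.pullbackComp i (q m Y)).app (Twist.twistProjSpace.{u} m Z.{u} 1)).symm ?_
    exact Groth.Agent.PerfB.FlatPull.isFinLocFree_pullback _ (isFinLocFree_tw m 1)
  have h8 := cl_dual_pull (m := m) (i ≫ q m Y)
  rw [← h5, ← h6, h4, h7] at h8
  rw [← h8]
  abel

end K856.TangentX
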