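import Groth.Agent.Biell.K856.RRAlg
import Groth.Agent.Biell.K856.TangentX
import Groth.Agent.Krr.H463.EulerX
import Groth.Agent.Krr.H463.DualLam
import Groth.Agent.Krr.H480.DetLine
import Groth.Agent.Krr.H495.Rank
import Groth.Agent.Sga67.KvbRing
import Groth.Agent.S3764
import Groth.Agent.S3744
import Groth.Agent.S3785
import Groth.Agent.S3796
import Groth.Agent.S3798
import Groth.Agent.S3799
import Groth.Agent.Dual.H366.LciImm
import Groth.Agent.Dual.H375.LciLocus
import Groth.Agent.CalgB.ProjImm2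
import Groth.Agent.Lefpen.H716.CIGeom
import Groth.Agent.Vancyc.H878.OmegaRank
import Groth.Agent.Ega2.AmpleUnit
import Groth.Agent.Krr.H452.PnConn
import Groth.Prelude.Def_KGr

/-!
# Hirzebruch–Riemann–Roch data for smooth projective surfaces
-/

set_option autoImplicit false
universe v u
open CategoryTheory CategoryTheory.Limits AlgebraicGeometry

namespace K856.Noether

open Groth.Agent
open Groth.Agent.Krr.H500.GrK
open Groth.Agent.Krr.H496.PullK0 (cl)
open Groth.Agent.Krr.H492.DualK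

section SpecField

variable (k : Type u) [Field k] {K : Type v} [CommRing K] [LambdaRing.LambdaOps K]
  {P : LambdaRing.PosStructure K} {φ : SGA6.Kvb (Spec (CommRingCat.of k)) →+ K}

theorem eq_aug (hK : KRR.IsModel (Spec (CommRingCat.of k)) K P φ) (y : K) : y = ((P.aug y : ℤ) : K) := by
  obtain ⟨z, rfl⟩ := hK.bijective.2 y
  have h : φ = ((Int.castRingHom K).toAddMonoidHom.comp P.aug.toAddMonoidHom).comp φ := by
    refine Sga67.KvbRing.hom_ext' fun E hE => ?_
    obtain ⟨m, hm, ⟨e⟩⟩ := Krr.H463.SpecField.exists_rank k hE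
    have h1 : Sga67.KvbRing.c E = m • KRR.cl _ (Coh.structureModule _) := by
      rw [Sga67.KvbRing.c_iso e hE]
      exact Sga67.PushTwist.c_freeMod (S := Spec (CommRingCat.of k)) m
    change φ (Sga67.KvbRing.c E) = ((P.aug (φ (Sga67.KvbRing.c E)) : ℤ) : K)
    rw [h1, map_nsmul, hK.map_one, nsmul_one, map_natCast, Int.cast_natCast]
  exact DFunLike.congr_fun h z

theorem algebraMap_injective (hs : LambdaRing.HasSplitting K P) :
    Function.Injective (algebraMap ℚ (KGr.Gr P)) := by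
  have hnt : Nontrivial (KGr.Gr P) := by
    refine ⟨1, 0, fun h => ?_⟩
    rw [← grK_zero_one P] at h
    have h1 := (grK_eq_zero_iff P (n := 0) (mem_QF_zero (P := P) 1)).1 (by exact_mod_cast h)
    obtain ⟨N, hN, h2⟩ := h1
    have h3 := Krr.H480.DetLine.aug_of_mem_one P hs _ h2
    rw [map_mul, map_one, map_natCast, mul_one] at h3
    have h4 : N = 0 := by exact_mod_cast h3
    omega
  exact (algebraMap ℚ (KGr.Gr P)).injective

end SpecField

section Core

variable (k : Type u) [Field k] (X : Scheme.{u}) [X.Over (Spec (CommRingCat.of k))] [IsIntegral X]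
  [IsProper (X ↘ Spec (CommRingCat.of k))] [SmoothOfRelativeDimension 2 (X ↘ Spec (CommRingCat.of k))]

/-- The data provided by Hirzebruch–Riemann–Roch. -/
theorem exists_data (hH : ∃ H : X.Modules, CohB1.IsAmple H) :
    ∃ (K : Type (u + 1)) (_ : CommRing K) (_ : LambdaRing.LambdaOps K) (P : LambdaRing.PosStructure K)
      (φ : SGA6.Kvb X →+ K) (g : K →+ ℤ), KRR.IsModel X K P φ ∧ LambdaRing.HasSplitting K P ∧
      LambdaRing.gammaFiltration P 3 = ⊥ ∧
      (∀ E : X.Modules, FlatMod.IsFinLocFree E → g (φ (KRR.cl X E)) = Curv2.euler k X E) ∧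
      ∀ T : K, T = φ (dualK X (cl (Omega.sheaf (X ↘ Spec (CommRingCat.of k))))) →
        ∀ u : K, P.IsLine u → (g u : ℚ) = (1 / 12 : ℚ) * (g ((T - 2) ^ 2) + g (KRR.lamAlt P T)) +
      (1 / 2 : ℚ) * g ((T - 2) * (u - 1)) + (1 / 2 : ℚ) * g ((u - 1) ^ 2) - g (LambdaRing.gamma 2 (u - 1)) := by
  have hsm : Smooth (X ↘ Spec (CommRingCat.of k)) := SmoothOfRelativeDimension.smooth 2 _
  have hdim : topologicalKrullDim X ≤ ((2 : ℕ) : WithBot ℕ∞) :=
    Lefpen.H716.CIGeom.topologicalKrullDim_le_of_smooth 2 (X ↘ Spec (CommRingCat.of k))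
  have hNX : IsLocallyNoetherian X := LocallyOfFiniteType.isLocallyNoetherian (X ↘ Spec (CommRingCat.of k))
  have hcX : CompactSpace X := QuasiCompact.compactSpace_of_compactSpace (X ↘ Spec (CommRingCat.of k))
  have hN : IsNoetherian X := { }
  have hcS : ConnectedSpace ↥(Spec (CommRingCat.of k)) := inferInstanceAs (ConnectedSpace (PrimeSpectrum k))
  -- the embedding
  obtain ⟨m, i, hi, hfac⟩ := (CalgB.ProjImm.closedImmersion_iff
    ⟨_, Ega2.Weight.isAmple_structureModule (Spec (CommRingCat.of k))⟩ (X ↘ Spec (CommRingCat.of k))).2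
      ⟨inferInstance, hH⟩
  have hsP : Smooth (KRR.pr m (Spec (CommRingCat.of k))) := by
    have hs1 : SmoothOfRelativeDimension m (CohB1.ProjSpace.toSpec m Krr.H492.EulerMap.Z.{u}) :=
      Groth.Agent.Sga5.ProjSmooth.smooth_toSpec m _
    have hs : Smooth (CohB1.ProjSpace.toSpec m Krr.H492.EulerMap.Z.{u}) := SmoothOfRelativeDimension.smooth m _
    exact inferInstanceAs (Smooth (pullback.snd (CohB1.ProjSpace.toSpec m Krr.H492.EulerMap.Z.{u})
      (specULiftZIsTerminal.from (Spec (CommRingCat.of k)))))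
  have hNP := Krr.H463.EulerX.isNoetherian_PY m (Spec (CommRingCat.of k))
  have hreg : Mor2.IsRegularClosedImmersion i :=
    Dual.H366.LciImm.isRegularClosedImmersion i (KRR.pr m (Spec (CommRingCat.of k))) (by
      have := Dual.H375.LciLocus.isLCIMor_of_smooth (X ↘ Spec (CommRingCat.of k))
      rwa [← hfac] at this)
  have hΩr : FlatMod.IsFinLocFreeOfRank 2 (Omega.sheaf (X ↘ Spec (CommRingCat.of k))) :=
    Vancyc.H878.OmegaRank.isFinLocFreeOfRank_omega 2 _
  have hΩ := Krr.H463.DualLam.isFinLocFree_of_rank hΩr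
  obtain ⟨hC, hrel⟩ := TangentX.main (X ↘ Spec (CommRingCat.of k)) i hfac hΩ
  -- the models
  have hcP : ConnectedSpace ↥(KRR.PY m (Spec (CommRingCat.of k))) := inferInstance
  obtain ⟨KX, _, _, PX, φX, hKX⟩ := S3796.result X
  obtain ⟨KP, _, _, PP, φP, hKP⟩ := S3796.result (KRR.PY m (Spec (CommRingCat.of k)))
  obtain ⟨KY, _, _, PY, φY, hKY⟩ := S3796.result (Spec (CommRingCat.of k))
  obtain ⟨a, ha, -⟩ := S3799.result i hreg
    (Krr.H463.EulerX.hasEnoughLocFree_PY m (Spec (CommRingCat.of k))) KX PX φX hKX KP PP φP hKP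
  obtain ⟨b, hb, -⟩ := S3798.result m (Spec (CommRingCat.of k)) KP PP φP hKP KY PY φY hKY
  have hsX := S3785.result X KX PX φX hKX
  have hsY := S3785.result (Spec (CommRingCat.of k)) KY PY φY hKY
  obtain ⟨H, hH⟩ := hH
  have hF : LambdaRing.gammaFiltration PX 3 = ⊥ := S3744.result X H hH 2 hdim KX PX φX hKX
  let g : KX →+ ℤ := (PY.aug.toAddMonoidHom.comp b).comp a
  have hg : ∀ E : X.Modules, FlatMod.IsFinLocFree E → g (φX (KRR.cl X E)) = Curv2.euler k X E := fun E hE =>
    Krr.H463.EulerX.aug_push_push k m i hreg hfac φX φP PY φY hKY a ha b hb hE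
  refine ⟨KX, _, _, PX, φX, g, hKX, hsX, hF, hg, ?_⟩
  obtain ⟨c, hCr⟩ := Krr.H495.Rank.exists_rank_of_connected hC
  obtain ⟨fG, hfG, hHRR⟩ := S3764.result k m X 2 hdim i hreg hfac c hCr KX PX φX hKX KP PP φP hKP KY PY φY hKY
    a ha b hb
  have hTT := congrArg φX hrel
  rw [map_add, map_add, map_nsmul, ← cl_sheafHom hC] at hTT
  intro T hT u hu
  have h1 : φX (KRR.cl X (Coh.structureModule X)) = 1 := hKX.map_one
  have hT' : ((m + 1 : ℕ) : KX) * φX (KRR.cl X ((Scheme.Modules.pullback i).obj (Twist.twistOver m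
      (Spec (CommRingCat.of k)) 1))) - 1
          - φX (KRR.cl X ((DCoh.sheafHom (Omega.conormal i)).obj (Coh.structureModule X))) = T := by
    rw [hT, ← nsmul_eq_mul, ← h1]
    refine sub_eq_of_eq_add (sub_eq_of_eq_add ?_)
    rw [add_right_comm]
    exact hTT.symm
  have haT : PX.aug T = 2 := by
    rw [hT, dualK_cl hΩ]
    exact hKX.aug_cl 2 _ (Krr.H463.DualLam.isFinLocFreeOfRank_homSheaf hΩr)
  have haO : PX.aug (φX (KRR.cl X ((Scheme.Modules.pullback i).obj (Twist.twistOver m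
      (Spec (CommRingCat.of k)) 1)))) = 1 := by
    have h2 : PicF.IsInvertible ((Scheme.Modules.pullback i).obj (Twist.twistOver m
      (Spec (CommRingCat.of k)) 1)) :=
      Fdesc.LocGen.isInvertible_pullback i (Krr.H446.PnBasic.isInvertible_twistOver m _ 1)
    exact hKX.aug_cl 1 _ (Ega2.QCohLocal.isFinLocFreeOfRank_one_iff.mpr h2)
  have haC : PX.aug (φX (KRR.cl X ((DCoh.sheafHom (Omega.conormal i)).obj (Coh.structureModule X)))) = c :=
    hKX.aug_cl c _ (Krr.H463.DualLam.isFinLocFreeOfRank_dual hCr)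
  have hc : (c : ℤ) - m = -2 := by
    have h2 := congrArg PX.aug hT'
    rw [map_sub, map_sub, map_mul, haO, haC, haT, map_one, map_natCast] at h2
    push_cast at h2
    linarith
  rw [hc] at hfG
  obtain ⟨n, E, hn, hE, rfl⟩ := (hKX.mem_pos_iff u).1 hu.1
  have hE' := Krr.H463.DualLam.isFinLocFree_of_rank hE
  have h3 := hHRR E hE'
  rw [hT'] at h3
  have h4 := GrTwo.push_td_ch hfG (eq_aug k hKY) hF T haT (φX (KRR.cl X E)) 1 hu.2
  have h5 := algebraMap_injective hsY (h4.symm.trans h3)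
  have h6 : ((g (φX (KRR.cl X E)) : ℤ) : ℚ) = ∑ q ∈ Finset.range (2 + 1), (-1 : ℚ) ^ q *
      (Module.finrank k (Coh.HH X E q) : ℚ) := by
    rw [hg E hE', Krr.H463.EulerX.euler_eq_sum k 2 hdim E]
    push_cast
    rfl
  rw [h6, ← h5]
  simp only [Int.cast_one]
  rfl

end Core

end K856.Noether
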