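import Groth.Agent.Biell.K856.PicG
import Groth.Agent.Sga3B.RedIdComp
import Groth.Agent.Pic13.H138.AlgEquiv
import Groth.Agent.S0348
import Groth.Agent.S0349
import Groth.Agent.S0354
import Groth.Agent.S3228

/-!
# The Picard variety: the reduced identity component of the Picard scheme, and its points

`PZ k X`: a section, the Picard scheme `P` with its universal rigidified class and group structure, and the
reduced identity component `A` of `P`.  `θ : A(k) ≃ alg0 k X`.
-/

set_option autoImplicit false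
set_option linter.unusedSectionVars false
universe u
open CategoryTheory CategoryTheory.Limits AlgebraicGeometry Opposite
open MonoidalCategory CartesianMonoidalCategory MonObj

namespace K856.PicA

open Groth.Agent
open Groth.Agent.Grpsch.PicGrp Groth.Agent.Fga.RigGrp
open Groth.Agent.Books.AlgPts Groth.Agent.Books.AlgPtsIrred Groth.Agent.Books.AlgPtsGrp Groth.Agent.Books.AlgPtsSmooth
open Groth.Agent.Pic13.H138.Slice Groth.Agent.Pic13.H138.AlgEquiv

variable (k : Type u) [Field k] [IsAlgClosed k]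

local notation "Sk" => Spec (CommRingCat.of k)

variable (X : Scheme.{u}) [X.Over (Spec (CommRingCat.of k))]

/-- The Picard scheme with its universal class, its group structure, and its reduced identity component. -/
structure PZ where
  σ : Sk ⟶ X
  hσ : σ ≫ (X ↘ Sk) = 𝟙 _
  P : Over Sk
  ξ : Pic (PicF.XT (X ↘ Sk) P)
  univ : IsUniv (X ↘ Sk) σ hσ P ξ
  rep : PicRel.RepresentedBy (X ↘ Sk) P
  lft : LocallyOfFiniteType P.hom
  grpP : GrpObj P
  mul : ∀ (T : Over Sk) (a b : T ⟶ P), pull (PicF.XTmap (X ↘ Sk) (a * b)) ξ =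
      pull (PicF.XTmap (X ↘ Sk) a) ξ * pull (PicF.XTmap (X ↘ Sk) b) ξ
  A : Over Sk
  grpA : GrpObj A
  inc : A ⟶ P
  hom : IsMonHom inc
  closed : IsClosedImmersion inc.left
  smooth : Smooth A.hom
  conn : ConnectedSpace A.left
  range : Set.range inc.left = connectedComponent (pt η[P])

attribute [instance] PZ.lft PZ.grpP PZ.grpA PZ.hom PZ.closed PZ.smooth PZ.conn

theorem exists_pz {P : Over Sk} {σ : Sk ⟶ X} (hσ : σ ≫ (X ↘ Sk) = 𝟙 _)
    {ξ : Pic (PicF.XT (X ↘ Sk) P)} (h : IsUniv (X ↘ Sk) σ hσ P ξ)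
    (hP : PicRel.RepresentedBy (X ↘ Sk) P) [LocallyOfFiniteType P.hom] :
    ∃ D : PZ k X, D.P = P := by
  obtain ⟨hG, -, hmul⟩ := K856.PicG.exists_grpObj h
  obtain ⟨A, hA, i, h1, h2, h3, h4, h5⟩ := Sga3B.RedIdComp.exists_redIdComp P
  exact ⟨{ σ := σ, hσ := hσ, P := P, ξ := ξ, univ := h, rep := hP, lft := inferInstance, grpP := hG, mul := hmul,
           A := A, grpA := hA, inc := i, hom := h1, closed := h2, smooth := h3, conn := h4, range := h5 }, rfl⟩

namespace PZ

variable {k X} (D : PZ k X)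

instance : Mono D.inc := mono_of_isClosedImmersion D.inc

instance isReduced : IsReduced D.A.left := isReduced_of_smooth D.A

instance lftA : LocallyOfFiniteType D.A.hom := by
  rw [← Over.w D.inc]; infer_instance

instance irreducible : IrreducibleSpace D.A.left := S0348.result k D.A

instance isIntegral : IsIntegral D.A.left := isIntegral_of_irreducibleSpace_of_isReduced D.A.left

instance compact : CompactSpace D.A.left := S0349.result k D.A

instance quasiCompact : QuasiCompact D.A.hom := (quasiCompact_iff_compactSpace _).2 inferInstance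

variable (k X) in
/-- The slice at the trivial point. -/
noncomputable abbrev j :
    X ⟶ PicF.XT (X ↘ Sk) (𝟙_ (Over Sk)) := Pic13.sliceAt k X (𝟙 Sk) (𝟙 Sk) (Category.comp_id _)

theorem pull_j_bijective : Function.Bijective (pull (j k X)) := by
  have h1 : j k X ≫ pullback.fst (X ↘ Sk) (𝟙_ (Over Sk)).hom = 𝟙 X := sliceAt_fst k X _ _ _
  have : IsIso (pullback.fst (X ↘ Sk) (𝟙_ (Over Sk)).hom) :=
    inferInstanceAs (IsIso (pullback.fst (X ↘ Sk) (𝟙 Sk)))
  have h2 : pullback.fst (X ↘ Sk) (𝟙_ (Over Sk)).hom ≫ j k X = 𝟙 _ := by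
    rw [← cancel_mono (pullback.fst (X ↘ Sk) (𝟙_ (Over Sk)).hom), Category.assoc, h1,
      Category.comp_id, Category.id_comp]
  refine Function.bijective_iff_has_inverse.2 ⟨pull (pullback.fst (X ↘ Sk) (𝟙_ (Over Sk)).hom), ?_, ?_⟩
  · intro c
    rw [← pull_comp, h2, pull_id]
  · intro c
    rw [← pull_comp, h1, pull_id]

theorem j_XTmap {T : Over Sk} (t : 𝟙_ (Over Sk) ⟶ T) :
    j k X ≫ PicF.XTmap (X ↘ Sk) t = Pic13.sliceAt k X T.hom t.left (Over.w t) := by
  apply pullback.hom_ext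
  · rw [Category.assoc, XTmap_fst]
    erw [sliceAt_fst, sliceAt_fst]
  · rw [Category.assoc]
    erw [XTmap_XTproj, sliceAt_snd_assoc, sliceAt_snd]
    rw [Category.id_comp]

theorem fibCl_eq {T : Over Sk} (t : 𝟙_ (Over Sk) ⟶ T) (c : Pic (PicF.XT (X ↘ Sk) T)) :
    fibCl k X T.hom t.left (Over.w t) c = pull (j k X) (pull (PicF.XTmap (X ↘ Sk) t) c) := by
  rw [fibCl, ← j_XTmap, pull_comp]

/-- The class of a point of the Picard scheme. -/
noncomputable def θP : (𝟙_ (Over Sk) ⟶ D.P) →* Pic X where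
  toFun a := pull (j k X) (pull (PicF.XTmap (X ↘ Sk) a) D.ξ)
  map_one' := by
    have h := D.mul (𝟙_ (Over Sk)) 1 1
    rw [_root_.mul_one] at h
    rw [left_eq_mul.1 h, map_one]
  map_mul' a b := by rw [D.mul, map_mul]

theorem θP_apply (a : 𝟙_ (Over Sk) ⟶ D.P) :
    D.θP a = fibCl k X D.P.hom a.left (Over.w a) D.ξ := (fibCl_eq a D.ξ).symm

theorem θP_injective : Function.Injective D.θP := by
  intro a b h
  exact D.univ.hom_ext (pull_j_bijective.1 h)

theorem mem_Rg_unit (c : Pic (PicF.XT (X ↘ Sk) (𝟙_ (Over Sk)))) :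
    c ∈ Rg (X ↘ Sk) D.σ D.hσ (𝟙_ (Over Sk)) := by
  rw [mem_Rg]
  exact pic_spec_local k _

theorem θP_surjective : Function.Surjective D.θP := by
  intro c
  obtain ⟨d, rfl⟩ := (pull_j_bijective (k := k) (X := X)).2 c
  exact ⟨D.univ.hom d (D.mem_Rg_unit d), congrArg _ (D.univ.pull_hom _ _)⟩

/-- The class of a point of the Picard variety. -/
noncomputable def θ : (𝟙_ (Over Sk) ⟶ D.A) →* Pic X where
  toFun a := D.θP (a ≫ D.inc)
  map_one' := by
    rw [← map_one D.θP]
    congr 1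
    simp
  map_mul' a b := by
    rw [← map_mul, MonObj.mul_comp]

theorem θ_apply (a : 𝟙_ (Over Sk) ⟶ D.A) : D.θ a = D.θP (a ≫ D.inc) := rfl

theorem θ_injective : Function.Injective D.θ := by
  intro a b h
  have := D.θP_injective h
  rwa [cancel_mono] at this

theorem θ_mem (a : 𝟙_ (Over Sk) ⟶ D.A) : D.θ a ∈ alg0 k X := by
  rw [mem_alg0_iff]
  refine ⟨D.A.left, D.A.hom, inferInstance, inferInstance, inferInstance,
    pull (PicF.XTmap (X ↘ Sk) D.inc) D.ξ, a.left, (1 : 𝟙_ (Over Sk) ⟶ D.A).left, Over.w a, Over.w _, ?_, ?_⟩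
  · refine (fibCl_eq a _).trans ?_
    rw [← pull_comp (PicF.XTmap (X ↘ Sk) a), ← XTmap_comp]
    rfl
  · refine (fibCl_eq (1 : 𝟙_ (Over Sk) ⟶ D.A) _).trans ?_
    rw [← pull_comp (PicF.XTmap (X ↘ Sk) (1 : 𝟙_ (Over Sk) ⟶ D.A)), ← XTmap_comp]
    exact map_one D.θ

theorem exists_of_mem {c : Pic X} (hc : c ∈ alg0 k X) : ∃ a, D.θ a = c := by
  rw [mem_alg0_iff] at hc
  obtain ⟨T, q, h1, h2, h3, d, t, t₀, ht, ht₀, e, e₀⟩ := hc
  let T' : Over Sk := Over.mk q
  let tt : 𝟙_ (Over Sk) ⟶ T' := Over.homMk t ht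
  let tt₀ : 𝟙_ (Over Sk) ⟶ T' := Over.homMk t₀ ht₀
  let d' : Pic (PicF.XT (X ↘ Sk) T') := norm (X ↘ Sk) D.σ D.hσ T' d
  let g : T' ⟶ D.P := D.univ.hom d' (norm_mem _ _ _ _ _)
  have key : ∀ s : 𝟙_ (Over Sk) ⟶ T', D.θP (s ≫ g) = fibCl k X q s.left (Over.w s) d := by
    intro s
    refine Eq.trans ?_ (fibCl_eq s d).symm
    change pull (j k X) (pull (PicF.XTmap (X ↘ Sk) (s ≫ g)) D.ξ) = _
    rw [XTmap_comp, pull_comp, D.univ.pull_hom, pull_norm, norm_of_mem _ _ _ (D.mem_Rg_unit _)]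
  have hg : tt₀ ≫ g = 1 := D.θP_injective (by rw [key, map_one]; exact e₀)
  have hg' : D.θP (tt ≫ g) = c := (key tt).trans e
  have hr : Set.range g.left ⊆ Set.range D.inc.left := by
    rw [D.range]
    have h1' : ConnectedSpace T'.left := h1
    have h4 : _root_.IsPreconnected (Set.range g.left) := isPreconnected_range g.left.continuous
    refine h4.subset_connectedComponent ?_
    have h5 : pt η[D.P] = g.left (pt tt₀) := by
      rw [← pt_comp, hg, one_eq_one]
    rw [h5]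
    exact ⟨_, rfl⟩
  obtain ⟨x, hx⟩ := exists_comp_eq_of_pt_mem_range D.inc (tt ≫ g) (hr (by
    rw [pt_comp]; exact ⟨_, rfl⟩))
  exact ⟨x, by rw [θ_apply, hx, hg']⟩

/-- Points of the Picard variety are the classes algebraically equivalent to zero. -/
noncomputable def θEquiv : (𝟙_ (Over Sk) ⟶ D.A) ≃* alg0 k X :=
  MulEquiv.ofBijective (D.θ.codRestrict (alg0 k X) D.θ_mem) ⟨by
    intro a b h
    exact D.θ_injective (congrArg Subtype.val h), by
    rintro ⟨c, hc⟩
    obtain ⟨a, rfl⟩ := D.exists_of_mem hc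
    exact ⟨a, rfl⟩⟩

end PZ

end K856.PicA
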