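import Groth.Agent.Biell.K856.PicA
import Groth.Agent.S3216
import Groth.Agent.S3226
import Groth.Agent.Sga7.H780.RigPicSh
import Groth.Agent.Picfga.H0
import Groth.Agent.CalgB.ProjField
import Groth.Agent.CohqB.ProjBC
import Groth.Agent.Pic13.H703.KPoints
import Groth.Agent.Fdesc.GeomAlgClosed

/-!
# Existence of the Picard variety of a projective variety; dimension and properness
-/

set_option autoImplicit false
set_option linter.unusedSectionVars false
universe u
open CategoryTheory CategoryTheory.Limits AlgebraicGeometry Opposite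
open MonoidalCategory CartesianMonoidalCategory MonObj

namespace K856.PicA

open Groth.Agent
open Groth.Agent.Grpsch.PicGrp Groth.Agent.Fga.RigGrp
open Groth.Agent.Books.AlgPts Groth.Agent.Books.AlgPtsIrred Groth.Agent.Books.AlgPtsGrp Groth.Agent.Books.AlgPtsSmooth
open Groth.Agent.Pic13.H138.Slice Groth.Agent.Pic13.H138.AlgEquiv

variable (k : Type u) [Field k] [IsAlgClosed k]

local notation "Sk" => Spec (CommRingCat.of k)

variable (X : Scheme.{u}) [X.Over (Spec (CommRingCat.of k))]

theorem geometricallyIntegral (Y : Scheme.{u}) (q : Y ⟶ Sk) [IsIntegral Y] [LocallyOfFiniteType q] :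
    GeometricallyIntegral q := by
  have := Fdesc.GeomAlgClosed.geometricallyIrreducible_of_irreducibleSpace q
  have := Sga3B.RedIdComp.geometricallyReduced_of_isReduced q
  exact GeometricallyIntegral.of_geometricallyReduced_of_geometricallyIrreducible q

/-- The Picard variety of a projective variety exists. -/
theorem nonempty_pz [IsIntegral X] [IsProper (X ↘ Sk)] (hH : ∃ H : X.Modules, CohB1.IsAmple H) :
    Nonempty (PZ k X) := by
  obtain ⟨σ, hσ⟩ := Pic13.H703.KPoints.exists_section (X ↘ Sk)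
  obtain ⟨n, c, hc, hcf⟩ := CalgB.ProjField.exists_closedImmersion_projSpace (X ↘ Sk) hH
  obtain ⟨i, hi, hif⟩ : ∃ i : X ⟶ CohB1.ProjSpaceOver n Sk, IsClosedImmersion i ∧
      i ≫ CohB1.ProjSpaceOver.toBase n Sk = X ↘ Sk := by
    refine ⟨c ≫ (CohqB.ProjBC.projSpaceOverIso n k).inv, inferInstance, ?_⟩
    rw [Category.assoc, CohqB.ProjBC.projSpaceOverIso_inv_toBase]
    exact hcf
  have hGI : GeometricallyIntegral (X ↘ Sk) := geometricallyIntegral k X _
  have key : ∃ P : Over Sk, PicRel.RepresentedBy (X ↘ Sk) P ∧ LocallyOfFiniteType P.hom := by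
    rw [← hif] at hGI ⊢
    obtain ⟨P, hP, -, hlft⟩ := S3226.result Sk X n i (fun Ω _ _ s =>
      GeometricallyIntegral.geometrically_isIntegral _ _ _ (IsPullback.of_hasPullback _ s))
    exact ⟨P, hP, hlft⟩
  obtain ⟨P, hP, hlft⟩ := key
  obtain ⟨ξ, hξ⟩ := Sga7.H780.RigPicSh.exists_isUniv hσ (fun T => 
    (ConcreteCategory.isIso_iff_bijective _).1 (Picfga.H0.isIso_app_of_section (X ↘ Sk) σ hσ T ⊤)) hP
  obtain ⟨D, -⟩ := exists_pz k X hσ hξ hP
  exact ⟨D⟩

namespace PZ

variable {k X} (D : PZ k X)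

theorem dim_le [IsProper (X ↘ Sk)] : topologicalKrullDim D.A.left ≤
    (Module.finrank k (Coh.HH X (Coh.structureModule X) 1) : WithBot ℕ∞) := by
  obtain ⟨φ, hφ⟩ := D.rep
  refine le_trans ?_ (S3228.result k X D.P φ hφ)
  have h1 : topologicalKrullDim D.A.left ≤ topologicalKrullDim D.P.left :=
    D.inc.left.isClosedEmbedding.isInducing.topologicalKrullDim_le
  refine h1.trans (le_of_eq ?_)
  exact (S0354.result k D.P _ (isClosed_pt (X := D.P) (φ (Over.mk (𝟙 Sk)) _))).symm

theorem isProper [IsProper (X ↘ Sk)] [Smooth (X ↘ Sk)] : IsProper D.A.hom := by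
  rw [← Over.w D.inc]
  have : LocallyOfFiniteType (D.inc.left ≫ D.P.hom) := by rw [Over.w]; infer_instance
  have : QuasiCompact (D.inc.left ≫ D.P.hom) := by rw [Over.w]; infer_instance
  exact (S3216.result (X ↘ Sk) D.P D.rep).2 D.A.left D.inc.left inferInstance inferInstance inferInstance

end PZ

end K856.PicA
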