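import Groth.Agent.Biell.K856.FamProper
import Groth.Agent.Biell.K856.Basic
import Groth.Agent.Biell.K440.FamPolar
import Groth.Agent.Biell.K440.FibIso
import Groth.Agent.CalgB.ProjImm2
import Groth.Agent.Ega2.H275.RelDesc
import Groth.Agent.S2332
import Groth.Agent.S3226
import Groth.Agent.PicF.K247.RelDim
import Groth.Agent.Flat2G.ProperDim

/-!
# `Pic⁰` of a family of bielliptic surfaces over a Noetherian local ring

S15381 from `K440.Fam.T2` (`h²(O) = 0`).
-/

set_option autoImplicit false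
set_option linter.unusedSectionVars false
universe u
open CategoryTheory CategoryTheory.Limits AlgebraicGeometry Opposite
open MonoidalCategory CartesianMonoidalCategory MonObj

namespace K856.PicBiell

open Groth.Agent Groth.Agent.Grpsch Groth.Agent.Grpsch.PicGrp Groth.Agent.Fga.RigGrp K530.PicZero
  Groth.Agent.Pic13.H138.AlgEquiv Groth.Agent.Pic13.H138.Slice K247.GrpZero K247.BC
open Groth.Agent.Books.AlgPts K856.PicA K440.Fam

attribute [local instance] K530.PicZero.fibOver

/-! ### Étale to fppf -/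

theorem mem_fppf {T : Scheme.{u}} {J : Type u} {U : J → T.Etale} (hU : EtCoh.Covers U) :
    Presieve.ofArrows (fun i => (U i).left) (fun i => (U i).hom) ∈ Scheme.fppfPrecoverage T := by
  rw [Scheme.fppfPrecoverage, Scheme.ofArrows_mem_precoverage_iff]
  refine ⟨fun t => hU t, fun i => ?_⟩
  have : Etale (U i).hom := (U i).prop
  exact ⟨inferInstance, inferInstance⟩

theorem isRelPicK {X S : Scheme.{u}} {f : X ⟶ S} {P : Over S}
    {φ : ∀ T : Over S, PicF.Cl (PicF.XT f T) → (T ⟶ P)} (h : PicRel.IsRelPic f P φ) :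
    AbDual.IsRelPicK Scheme.fppfPrecoverage f P φ where
  natural := h.natural
  locallySurjective T g := by
    obtain ⟨J, U, hU, hs⟩ := h.locallySurjective T g
    refine ⟨_, mem_fppf hU, ?_⟩
    rintro _ _ ⟨i⟩
    exact hs i
  locallyInjective T c c' hc hc' e := by
    obtain ⟨J, U, hU, hs⟩ := h.locallyInjective T c c' hc hc' e
    refine ⟨_, mem_fppf hU, ?_⟩
    rintro _ _ ⟨i⟩
    exact hs i

/-! ### Geometric connectedness from geometric points -/

theorem geometricallyConnected_of {X S : Scheme.{u}} (f : X ⟶ S)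
    (h : ∀ (Ω : Type u) [Field Ω] [IsAlgClosed Ω] (t : Spec (CommRingCat.of Ω) ⟶ S), ConnectedSpace ↑(pullback f t)) :
    GeometricallyConnected f := by
  refine ⟨fun K _ y W fst snd hp => ?_⟩
  let Ω := AlgebraicClosure K
  let e : Spec (CommRingCat.of Ω) ⟶ Spec (CommRingCat.of K) :=
    Spec.map (CommRingCat.ofHom (algebraMap K (AlgebraicClosure K)))
  have h1 := h Ω (e ≫ y)
  let q : pullback f (e ≫ y) ⟶ W := hp.lift (pullback.fst f (e ≫ y)) (pullback.snd f (e ≫ y) ≫ e) (by
    rw [Category.assoc]; exact pullback.condition)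
  have hq : IsPullback q (pullback.snd f (e ≫ y)) snd e := by
    refine IsPullback.of_right (h₁₂ := fst) (h₂₂ := y) (v₁₃ := f) ?_ (hp.lift_snd _ _ _) hp
    rw [hp.lift_fst]
    exact IsPullback.of_hasPullback f (e ≫ y)
  have hqs : Surjective q :=
    MorphismProperty.of_isPullback (P := @Surjective) hq.flip ⟨fun z =>
      ⟨IsLocalRing.closedPoint Ω, Subsingleton.elim (α := PrimeSpectrum K) _ _⟩⟩
  exact hqs.surj.connectedSpace q.continuous

/-! ### The base change over which the Picard scheme exists -/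

theorem exists_base (h2 : T2.{u}) (R : Type u) [CommRing R] [IsNoetherianRing R] [IsLocalRing R]
    (h6 : IsUnit (6 : R)) (X : Scheme.{u}) (f : X ⟶ Spec (CommRingCat.of R)) [IsProper f]
    [SmoothOfRelativeDimension 2 f] (hfib : Fib f) :
    ∃ (S' : Scheme.{u}) (b : S' ⟶ Spec (CommRingCat.of R)), IsAffine S' ∧ Smooth b ∧ Surjective b ∧
      (∃ σ : S' ⟶ pullback f b, σ ≫ pullback.snd f b = 𝟙 _) ∧
      ∃ L : (pullback f b).Modules, RelAmple.IsRelAmple (pullback.snd f b) L := by
  have hs : Smooth f := SmoothOfRelativeDimension.smooth 2 f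
  obtain ⟨W, g, hg, hgs, L, hL⟩ := exists_polarization h2 R h6 X f hfib
  have hfs : Surjective f := by
    have hgc : GeometricallyConnected f := geometricallyConnected_of f fun Ω _ _ t => by
      have h1 := (hfib Ω t).1
      infer_instance
    exact K856.FamProper.surjective_of_geomConn f
  let q : pullback f g ⟶ W := pullback.snd f g
  obtain ⟨z, hz⟩ := (inferInstance : Surjective (q ≫ g)).surj (IsLocalRing.closedPoint R)
  obtain ⟨U, hU, hzU, -⟩ := exists_isAffineOpen_mem_and_subset (x := z) (U := ⊤) trivial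
  let w : (U : Scheme.{u}) ⟶ W := U.ι ≫ q
  let b : (U : Scheme.{u}) ⟶ Spec (CommRingCat.of R) := w ≫ g
  have hsb : Smooth b := by
    have : Smooth q := inferInstanceAs (Smooth (pullback.snd f g))
    infer_instance
  have hbs : Surjective b := by
    refine ⟨fun y => ?_⟩
    have ho : IsOpen (Set.range b) := b.isOpenMap.isOpen_range
    have hc : (IsLocalRing.closedPoint R : Spec (CommRingCat.of R)) ∈ Set.range b := by
      refine ⟨⟨z, hzU⟩, ?_⟩
      rw [← hz]
      rfl
    have hsp : y ⤳ (IsLocalRing.closedPoint R : Spec (CommRingCat.of R)) := IsLocalRing.specializes_closedPoint y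
    exact hsp.mem_open ho hc
  refine ⟨U, b, hU, hsb, hbs, ⟨pullback.lift (U.ι ≫ pullback.fst f g) (𝟙 _) (by
    rw [Category.assoc, pullback.condition, Category.id_comp]
    simp only [b, w, q, Category.assoc]), pullback.lift_snd _ _ _⟩, ?_⟩
  -- transport of the polarisation
  have h1 := Groth.Agent.S2332.result (pullback.snd f g) w L hL
  have h3 : IsPullback (pullback.fst (pullback.snd f g) w ≫ pullback.fst f g) (pullback.snd (pullback.snd f g) w)
      f (w ≫ g) := (IsPullback.of_hasPullback (pullback.snd f g) w).paste_horiz (IsPullback.of_hasPullback f g)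
  have h4 := Groth.Agent.Ega2.H275.RelDesc.isRelAmple_pullback (pullback.snd (pullback.snd f g) w)
    h3.isoPullback.inv h1
  rw [h3.isoPullback_inv_snd] at h4
  exact ⟨_, h4⟩

/-! ### The dimension of the Picard variety -/

theorem dim_eq_one {k : Type u} [Field k] [IsAlgClosed k] {X : Scheme.{u}} [X.Over (Spec (CommRingCat.of k))]
    [IsProper (X ↘ Spec (CommRingCat.of k))] [Smooth (X ↘ Spec (CommRingCat.of k))]
    (D D' : PZ k X) (hD : topologicalKrullDim D.A.left = 1) : topologicalKrullDim D'.A.left = 1 := by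
  obtain ⟨g, hg, -⟩ := D'.exists_dim
  obtain ⟨n, hn2, hn⟩ : ∃ n : ℕ, 2 ≤ n ∧ (n : k) ≠ 0 := by
    by_cases h : ((2 : ℕ) : k) = 0
    · refine ⟨3, by norm_num, fun h3 => one_ne_zero (α := k) ?_⟩
      have : (1 : k) = ((3 : ℕ) : k) - ((2 : ℕ) : k) := by push_cast; norm_num
      rw [this, h3, h, sub_zero]
    · exact ⟨2, le_rfl, h⟩
  have h1 := D.card_alg0 1 (by rw [hD]; rfl) n hn
  have h2 := D'.card_alg0 g hg n hn
  have h3 : 2 * 1 = 2 * g := Nat.pow_right_injective hn2 (h1.symm.trans h2)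
  have h4 : g = 1 := by omega
  rw [hg, h4]
  rfl

theorem dim_pz (Ω : Type u) [Field Ω] [IsAlgClosed Ω] (Y : Scheme.{u}) [Y.Over (Spec (CommRingCat.of Ω))]
    [IsProper (Y ↘ Spec (CommRingCat.of Ω))] [SmoothOfRelativeDimension 2 (Y ↘ Spec (CommRingCat.of Ω))]
    (h : FibAt (Y ↘ Spec (CommRingCat.of Ω))) (D : PZ Ω Y) : topologicalKrullDim D.A.left = 1 := by
  obtain ⟨h1, hH, ⟨ω, hω, hnum⟩, hb⟩ := h
  have i3 : Smooth (Y ↘ Spec (CommRingCat.of Ω)) := SmoothOfRelativeDimension.smooth 2 _
  have := h1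
  obtain ⟨-, -, D', hD'⟩ := K856.Basic.main Ω Y hH hω hnum hb
  exact dim_eq_one D' D hD'

/-- Numerical invariants of a scheme isomorphic to a one-dimensional abelian variety. -/
theorem fibre_facts {Ω : Type u} [Field Ω] [IsAlgClosed Ω] {B : Scheme.{u}} (p : B ⟶ Spec (CommRingCat.of Ω))
    (A : Over (Spec (CommRingCat.of Ω))) [GrpObj A] [IsProper A.hom] [Smooth A.hom] [IsIntegral A.left]
    (hdim : topologicalKrullDim A.left = 1) (i : B ≅ A.left) (hi : i.hom ≫ A.hom = p) :
    IsIntegral B ∧ @FGA.eulerCharLE Ω _ B ⟨p⟩ (Coh.structureModule B) 1 = 0 := by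
  have hne : Nonempty B := (inferInstance : Nonempty A.left).map fun z => i.inv z
  have hB : IsIntegral B := isIntegral_of_isOpenImmersion i.hom
  refine ⟨hB, ?_⟩
  let Bo : Over (Spec (CommRingCat.of Ω)) := Over.mk p
  let e : A ≅ Bo := Over.isoMk i.symm (by
    change i.inv ≫ p = A.hom
    rw [← hi, Iso.inv_hom_id_assoc])
  let _ : GrpObj Bo := GrpObj.ofIso e
  have h1 : IsProper Bo.hom := by
    change IsProper p
    rw [← hi]; infer_instance
  have h2 : Smooth Bo.hom := by
    change Smooth p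
    rw [← hi]; infer_instance
  have h3 : IsIntegral Bo.left := hB
  have h4 : topologicalKrullDim Bo.left = 1 := by
    rw [← hdim]
    exact i.hom.homeomorph.isHomeomorph.topologicalKrullDim_eq
  have h5 := K856.GenA.h1_eq_one Ω Bo h4
  let _ : B.Over (Spec (CommRingCat.of Ω)) := ⟨p⟩
  have h6 : IsProper (B ↘ Spec (CommRingCat.of Ω)) := h1
  have h7 := K856.Num.h0_eq_one Ω (X := B)
  have h8 : Module.finrank Ω (Coh.HH B (Coh.structureModule B) 1) = 1 := h5
  rw [FGA.eulerCharLE, Finset.sum_range_succ, Finset.sum_range_succ, Finset.sum_range_zero, h7, h8]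
  norm_num

/-! ### The main theorem -/

theorem exists_pic {X' S' : Scheme.{u}} [IsLocallyNoetherian S'] [IsAffine S'] (f' : X' ⟶ S') [IsProper f'] [Flat f']
    (L : X'.Modules) (hL : RelAmple.IsRelAmple f' L)
    (hint : ∀ (Ω : Type u) [Field Ω] [IsAlgClosed Ω] (s : Spec (CommRingCat.of Ω) ⟶ S'), IsIntegral (pullback f' s)) :
    ∃ Q : Over S', PicRel.RepresentedBy f' Q ∧ IsSeparated Q.hom ∧ LocallyOfFiniteType Q.hom := by
  have hN := CalgB.ProjField.exists_isAmple_of_isAffine S'
  obtain ⟨n, i, hi, hif⟩ := (CalgB.ProjImm.closedImmersion_iff hN f').2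
    ⟨inferInstance, (CalgB.ProjImm.exists_isAmple_iff_exists_isRelAmple hN f').2 ⟨L, hL⟩⟩
  subst hif
  exact S3226.result S' X' n i hint

theorem main (h2 : T2.{u}) (R : Type u) [CommRing R] [IsNoetherianRing R] [IsLocalRing R]
    (h6 : IsUnit (6 : R)) (X : Scheme.{u}) (f : X ⟶ Spec (CommRingCat.of R)) [IsProper f]
    [SmoothOfRelativeDimension 2 f] (hfib : Fib f)
    (P : Over (Spec (CommRingCat.of R))) (φ : ∀ T : Over (Spec (CommRingCat.of R)), PicF.Cl (PicF.XT f T) → (T ⟶ P))
    (hP : AbDual.IsRelPicZeroK Scheme.fppfPrecoverage f P φ) :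
    IsProper P.hom ∧ SmoothOfRelativeDimension 1 P.hom ∧
      ∀ (Ω : Type u) [Field Ω] [IsAlgClosed Ω] (s : Spec (CommRingCat.of Ω) ⟶ Spec (CommRingCat.of R)),
        AlgebraicGeometry.IsIntegral (pullback P.hom s) ∧
          @FGA.eulerCharLE Ω _ (pullback P.hom s) ⟨pullback.snd P.hom s⟩ (Coh.structureModule (pullback P.hom s)) 1 = 0 := by
  obtain ⟨S', b, hS', hsb, hbs, ⟨σ, hσ⟩, L, hL⟩ := exists_base h2 R h6 X f hfib
  let f' := pullback.snd f b
  have i1 : IsProper f' := inferInstanceAs (IsProper (pullback.snd f b))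
  have i2 : SmoothOfRelativeDimension 2 f' :=
    (smoothOfRelativeDimension_isStableUnderBaseChange 2).of_isPullback (IsPullback.of_hasPullback f b) ‹_›
  have i3 : Smooth f' := SmoothOfRelativeDimension.smooth 2 f'
  have hfib' : Fib f' := hfib.of_isPullback (IsPullback.of_hasPullback f b)
  have hgc : GeometricallyConnected f' := geometricallyConnected_of f' fun Ω _ _ t => by
    have h1 := (hfib' Ω t).1
    infer_instance
  have hNS : IsLocallyNoetherian S' := LocallyOfFiniteType.isLocallyNoetherian b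
  obtain ⟨Q, hQ, hQs, hQl⟩ := exists_pic f' L hL (fun Ω _ _ s => (hfib' Ω s).1)
  have hQsm : Smooth Q.hom := K440.PicSmooth.smooth_hom hQ
    (van_of_fib h2 f' (fun Ω _ s => six_ne_zero (isUnit_six h6) Ω (s ≫ b)) hfib')
  obtain ⟨φQ, hφQ⟩ := hQ
  obtain ⟨hp, hsm, -, hgeo⟩ := K856.FamProper.main_section σ hσ (isRelPicK hφQ) (isRelPicZeroK f b hP)
  have hp' : IsProper (pullback.snd P.hom b) := hp
  have hsm' : Smooth (pullback.snd P.hom b) := hsm
  have hd := S0086.result.{u}
  have hPp : IsProper P.hom := MorphismProperty.of_pullback_snd_of_descendsAlong (P := @IsProper)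
    (Q := @Surjective ⊓ @Flat ⊓ @QuasiCompact) (f := P.hom) (g := b)
    ⟨⟨inferInstance, inferInstance⟩, inferInstance⟩ hp'
  have hPs : Smooth P.hom := MorphismProperty.of_pullback_snd_of_descendsAlong (P := @Smooth)
    (Q := @Surjective ⊓ @Flat ⊓ @QuasiCompact) (f := P.hom) (g := b)
    ⟨⟨inferInstance, inferInstance⟩, inferInstance⟩ hsm'
  -- geometric fibres
  have key : ∀ (Ω : Type u) [Field Ω] [IsAlgClosed Ω] (s : Spec (CommRingCat.of Ω) ⟶ Spec (CommRingCat.of R)),
      ∃ (A : Over (Spec (CommRingCat.of Ω))) (_ : GrpObj A) (_ : IsProper A.hom) (_ : Smooth A.hom)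
        (_ : IsIntegral A.left) (i : pullback P.hom s ≅ A.left), topologicalKrullDim A.left = 1 ∧
          i.hom ≫ A.hom = pullback.snd P.hom s := by
    intro Ω _ _ s
    obtain ⟨z, hz⟩ := hbs.surj (s (IsLocalRing.closedPoint Ω))
    obtain ⟨w, -, -⟩ := Scheme.Pullback.exists_preimage_pullback (f := b) (g := s) z (IsLocalRing.closedPoint Ω) hz
    have hne : Nonempty ↑(pullback b s) := ⟨w⟩
    obtain ⟨ρ, hρ⟩ := exists_point (pullback.snd b s)
    let t : Spec (CommRingCat.of Ω) ⟶ S' := ρ ≫ pullback.fst b s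
    have ht : t ≫ b = s := by
      rw [Category.assoc, pullback.condition, ← Category.assoc, hρ, Category.id_comp]
    obtain ⟨D, i, hi⟩ := hgeo Ω t
    have j1 : IsProper (pullback f' t ↘ Spec (CommRingCat.of Ω)) := inferInstanceAs (IsProper (pullback.snd f' t))
    have j2 : SmoothOfRelativeDimension 2 (pullback f' t ↘ Spec (CommRingCat.of Ω)) :=
      (smoothOfRelativeDimension_isStableUnderBaseChange 2).of_isPullback (IsPullback.of_hasPullback f' t) i2
    have j3 : Smooth (pullback f' t ↘ Spec (CommRingCat.of Ω)) := SmoothOfRelativeDimension.smooth 2 _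
    have hdim := dim_pz Ω (pullback f' t) ((fib_iff f').1 hfib' Ω t) D
    have hpb : IsPullback (pullback.fst (pullback.snd P.hom b) t ≫ pullback.fst P.hom b)
        (pullback.snd (pullback.snd P.hom b) t) P.hom (t ≫ b) :=
      (IsPullback.of_hasPullback (pullback.snd P.hom b) t).paste_horiz (IsPullback.of_hasPullback P.hom b)
    rw [ht] at hpb
    refine ⟨D.A, inferInstance, D.isProper, inferInstance, inferInstance, hpb.isoPullback.symm ≪≫ i, hdim, ?_⟩
    rw [Iso.trans_hom, Category.assoc, Iso.symm_hom]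
    refine (congrArg (hpb.isoPullback.inv ≫ ·) hi).trans ?_
    exact hpb.isoPullback_inv_snd
  have hPc : GeometricallyConnected P.hom := geometricallyConnected_of P.hom fun Ω _ _ s => by
    obtain ⟨A, _, _, _, _, i, -, -⟩ := key Ω s
    exact i.inv.surjective.connectedSpace i.inv.continuous
  refine ⟨hPp, K247.RelDim.curve P.hom fun y => ?_, fun Ω _ _ s => ?_⟩
  · obtain ⟨Ω, _, _, τ, hτ⟩ := K247.AlgTriv.exists_geom y
    have h1 : τ (IsLocalRing.closedPoint Ω) = y := by
      have h2 : τ (IsLocalRing.closedPoint Ω) ∈ ({y} : Set (Spec (CommRingCat.of R))) := by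
        rw [← hτ]; exact ⟨_, rfl⟩
      exact h2
    obtain ⟨A, _, _, _, _, i, hdim, -⟩ := key Ω τ
    rw [← h1, ← Flat2G.ProperDim.topologicalKrullDim_field_point P.hom (Field.toIsField Ω) (pullback.snd P.hom τ)
      (pullback.fst P.hom τ) τ (IsPullback.of_hasPullback P.hom τ) (IsLocalRing.closedPoint Ω), ← hdim]
    exact i.hom.homeomorph.isHomeomorph.topologicalKrullDim_eq
  · obtain ⟨A, _, _, _, _, i, hdim, hi⟩ := key Ω s
    exact fibre_facts (pullback.snd P.hom s) A hdim i hi

end K856.PicBiell
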