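import Groth.Agent.Krr.H503.Lam
import Groth.Agent.Biell.K856.GrTwo

/-!
# Noether's formula and Riemann–Roch in a λ-ring of dimension two
-/

set_option autoImplicit false
universe v

open LambdaRing KGr

namespace K856.RRAlg

open Groth.Agent.Krr.H500.GrK Groth.Agent.Krr.H500.GrChern
open Groth.Agent.Books.Lambda1
open Groth.Agent.Books.Lambda2 hiding T

variable {K : Type v} [CommRing K] [LambdaRing.LambdaOps K] {P : LambdaRing.PosStructure K}

theorem lamAlt_two (T : K) (hT : P.aug T = 2) : KRR.lamAlt P T = 1 - T + LambdaOps.lam 2 T := by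
  have h1 : LambdaOps.lam 0 T = 1 := LambdaOps.lam_zero T
  have h2 : LambdaOps.lam 1 T = T := LambdaOps.lam_one T
  have h3 : (P.aug T).toNat + 1 = 3 := by rw [hT]; rfl
  rw [KRR.lamAlt, h3, Finset.sum_range_succ, Finset.sum_range_succ, Finset.sum_range_one, h1, h2]
  ring

theorem gamma_two_line {u : K} (hu : P.IsLine u) : gamma 2 (u - 1) = 0 := by
  have h := gammaSeries_line_sub_one P u hu
  have h2 := coeff_gammaSeries (u - 1) 2
  rw [← h2, h]
  simp

theorem mem_one {u : K} (hu : P.IsLine u) : u - 1 ∈ gammaFiltration P 1 := by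
  have := GrTwo.sub_aug_mem u 1 hu.2
  exact_mod_cast this

section

variable (hK : HasSplitting K P) (hF : gammaFiltration P 3 = ⊥) {v w δ : K} (hv : P.aug v = 2)
  (hw : LambdaOps.lam 2 v = w) (hδ : P.IsLine δ) (hwδ : w * δ = 1)

include hδ hv

theorem aug_T : P.aug (δ * v) = 2 := by
  rw [map_mul, hv, hδ.2, one_mul]

include hw hwδ hK

omit hv in
theorem lam_T : LambdaOps.lam 2 (δ * v) = δ := by
  rw [Groth.Agent.Krr.H503.Lam.lam_line_mul P hK hδ, hw, sq, mul_assoc, mul_comm δ w, hwδ, mul_one]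

theorem lamAlt_T' : KRR.lamAlt P (δ * v) = 1 - δ * v + δ := by
  rw [lamAlt_two _ (aug_T hv hδ), lam_T hK hw hδ hwδ]

include hF

omit hK hv hw hδ hwδ in
theorem mul_eq_zero' {a b : K} (m n : ℕ) (hmn : 3 ≤ m + n) (ha : a ∈ gammaFiltration P m)
    (hb : b ∈ gammaFiltration P n) : a * b = 0 := by
  have h := filtration_anti P hmn (mul_mem_filtration P m n _ _ ha hb)
  rwa [hF, AddSubgroup.mem_bot] at h

/-- `λ_{-1}` of the dual. -/
theorem lamAlt_T : KRR.lamAlt P (δ * v) = 1 - v + w := by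
  have h1 := lamAlt_T' hK hv hw hδ hwδ
  have h2 : KRR.lamAlt P v = 1 - v + w := by rw [lamAlt_two v hv, hw]
  have h3 : (δ - 1) * KRR.lamAlt P v = 0 :=
    mul_eq_zero' hF 1 2 le_rfl (mem_one hδ) (lamAlt_mem P v 2 (by exact_mod_cast hv))
  rw [h2] at h3
  rw [h1]
  linear_combination h3 - hwδ

theorem sub_two_mul {y : K} (hy : y ∈ gammaFiltration P 1) : (δ * v - 2) * y = (δ - 1) * y := by
  have h1 := lamAlt_T' hK hv hw hδ hwδ
  have h3 : KRR.lamAlt P (δ * v) * y = 0 :=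
    mul_eq_zero' hF 2 1 le_rfl
      (lamAlt_mem P _ 2 (by exact_mod_cast aug_T hv hδ)) hy
  rw [h1] at h3
  linear_combination -h3

theorem sub_two_sq : (δ * v - 2) ^ 2 = (δ - 1) ^ 2 := by
  have m1 : δ * v - 2 ∈ gammaFiltration P 1 := by
    have := GrTwo.sub_aug_mem (δ * v) 2 (aug_T hv hδ)
    exact_mod_cast this
  rw [sq, sub_two_mul hK hF hv hw hδ hwδ m1, mul_comm, sub_two_mul hK hF hv hw hδ hwδ (mem_one hδ), sq]

/-- **Noether's formula**, abstract form. -/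
theorem noether (g : K →+ ℤ)
    (hg : ∀ (u : K), P.IsLine u → (g u : ℚ) = (1 / 12 : ℚ) * (g ((δ * v - 2) ^ 2) + g (KRR.lamAlt P (δ * v))) +
      (1 / 2 : ℚ) * g ((δ * v - 2) * (u - 1)) + (1 / 2 : ℚ) * g ((u - 1) ^ 2) - g (gamma 2 (u - 1))) :
    12 * g 1 = (g (δ ^ 2) - 2 * g δ + g 1) + (g 1 - g v + g w) ∧
    ∀ u : K, P.IsLine u → 2 * g u = (g (u ^ 2) - 2 * g u + g 1) + (g (δ * u) - g δ - g u + g 1) + 2 * g 1 := by
  have h1 := lamAlt_T hK hF hv hw hδ hwδ
  have h2 := sub_two_sq hK hF hv hw hδ hwδ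
  have e1 : g (KRR.lamAlt P (δ * v)) = g 1 - g v + g w := by rw [h1, map_add, map_sub]
  have e2 : g ((δ * v - 2) ^ 2) = g (δ ^ 2) - 2 * g δ + g 1 := by
    rw [h2, show (δ - 1) ^ 2 = δ ^ 2 - (2 : ℕ) • δ + 1 by rw [nsmul_eq_mul]; push_cast; ring, map_add, map_sub,
      map_nsmul]
    simp
  have hg1 := hg 1 (isLine_one P)
  rw [gamma_two_line (isLine_one P), sub_self, mul_zero, zero_pow two_ne_zero, map_zero, e1, e2] at hg1
  have hg1' : (12 : ℚ) * g 1 = (g (δ ^ 2) - 2 * g δ + g 1) + (g 1 - g v + g w) := by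
    push_cast at hg1
    linarith
  refine ⟨by exact_mod_cast hg1', fun u hu => ?_⟩
  have hgu := hg u hu
  have e3 : g ((δ * v - 2) * (u - 1)) = g (δ * u) - g δ - g u + g 1 := by
    rw [sub_two_mul hK hF hv hw hδ hwδ (mem_one hu), show (δ - 1) * (u - 1) = δ * u - δ - u + 1 by ring, map_add,
      map_sub, map_sub]
  have e4 : g ((u - 1) ^ 2) = g (u ^ 2) - 2 * g u + g 1 := by
    rw [show (u - 1) ^ 2 = u ^ 2 - (2 : ℕ) • u + 1 by rw [nsmul_eq_mul]; push_cast; ring, map_add, map_sub,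
      map_nsmul]
    simp
  rw [gamma_two_line hu, map_zero, e1, e2, e3, e4] at hgu
  have : (2 : ℚ) * g u = (g (u ^ 2) - 2 * g u + g 1) + (g (δ * u) - g δ - g u + g 1) + 2 * g 1 := by
    push_cast at hgu hg1'
    linarith
  exact_mod_cast this

end

end K856.RRAlg
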