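import Groth.Agent.Biell.K857.T2Red
import Groth.Agent.Biell.K856.NodeD
import Groth.Agent.Biell.K115.NodeA

/-!
# T2: `h²(O) = 0` on bielliptic surfaces when `6` is invertible
-/

set_option autoImplicit false
universe u

open CategoryTheory CategoryTheory.Limits AlgebraicGeometry

namespace K856.T2

/-- **T2.** -/
theorem t2 : K440.Fam.T2.{u} :=
  K857.T2.of_noTriv (fun h h0 hproj hsm _ _ pD qD hcomm hex χ sC _ _ _ hpb hsep =>
    K856.NodeD.main (fun k _ _ F _ _ _ _ h1 L hL M H => K115.NodeA.no_transitive k F h1 L hL M H)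
      h h0 hproj hsm pD qD hcomm hex χ sC hpb hsep)

end K856.T2
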