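import Groth.Prelude.Def_KGr

/-!
# The Todd class and the Chern character in dimension two
-/

set_option autoImplicit false
universe v

open MvPolynomial

namespace K856.Todd2

theorem toddTrunc_two : KGr.toddTrunc 2 =
    1 + Polynomial.C (1 / 2 : ℚ) * Polynomial.X + Polynomial.C (1 / 12 : ℚ) * Polynomial.X ^ 2 := by
  unfold KGr.toddTrunc
  rw [Finset.sum_range_succ, Finset.sum_range_succ, Finset.sum_range_one, bernoulli'_zero, bernoulli'_one,
    bernoulli'_two]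
  norm_num [Nat.factorial]

theorem expTrunc_two : KGr.expTrunc 2 =
    1 + Polynomial.X + Polynomial.C (1 / 2 : ℚ) * Polynomial.X ^ 2 := by
  unfold KGr.expTrunc
  rw [Finset.sum_range_succ, Finset.sum_range_succ, Finset.sum_range_one]
  norm_num [Nat.factorial]

/-- The map sending the variables to the elementary symmetric polynomials. -/
noncomputable def es : MvPolynomial (Fin 2) ℚ →ₐ[ℚ] MvPolynomial (Fin 2) ℚ :=
  (symmetricSubalgebra (Fin 2) ℚ).val.comp (esymmAlgEquiv (Fin 2) ℚ (Fintype.card_fin 2)).toAlgHom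

theorem es_apply (p : MvPolynomial (Fin 2) ℚ) :
    es p = ((esymmAlgEquiv (Fin 2) ℚ (Fintype.card_fin 2) p : symmetricSubalgebra (Fin 2) ℚ) :
      MvPolynomial (Fin 2) ℚ) := rfl

theorem es_X0 : es (X 0) = X 0 + X 1 := by
  rw [es_apply]
  simp [esymmAlgEquiv, esymmAlgHom, esymm_one]

theorem es_X1 : es (X 1) = X 0 * X 1 := by
  rw [es_apply]
  simp [esymmAlgEquiv, esymmAlgHom, esymm]
  have h : (Finset.powersetCard 2 (Finset.univ : Finset (Fin 2))) = {Finset.univ} := by decide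
  rw [h]
  simp

theorem es_C (c : ℚ) : es (C c) = C c := es.commutes c

theorem toddPoly_two : KGr.toddPoly 2 =
    1 + C (1 / 2 : ℚ) * X 0 + C (1 / 12 : ℚ) * (X 0 ^ 2 + X 1) + C (1 / 24 : ℚ) * (X 0 * X 1) +
      C (1 / 144 : ℚ) * X 1 ^ 2 := by
  unfold KGr.toddPoly
  rw [AlgEquiv.symm_apply_eq]
  apply Subtype.ext
  rw [← es_apply]
  simp only [map_add, map_mul, map_pow, map_one, es_X0, es_X1, es_C]
  rw [toddTrunc_two, Fin.prod_univ_two]
  simp only [map_add, map_mul, map_pow, map_one, Polynomial.aeval_X, Polynomial.aeval_C, algebraMap_eq]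
  have h1 : (C (1 / 12 : ℚ) : MvPolynomial (Fin 2) ℚ) = C (1 / 144 : ℚ) * 12 := by
    rw [show (12 : MvPolynomial (Fin 2) ℚ) = C 12 from (map_ofNat C 12).symm, ← C_mul]; norm_num
  have h2 : (C (1 / 24 : ℚ) : MvPolynomial (Fin 2) ℚ) = C (1 / 144 : ℚ) * 6 := by
    rw [show (6 : MvPolynomial (Fin 2) ℚ) = C 6 from (map_ofNat C 6).symm, ← C_mul]; norm_num
  have h3 : (C (1 / 2 : ℚ) : MvPolynomial (Fin 2) ℚ) = C (1 / 144 : ℚ) * 72 := by
    rw [show (72 : MvPolynomial (Fin 2) ℚ) = C 72 from (map_ofNat C 72).symm, ← C_mul]; norm_num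
  have h4 : (C (1 / 144 : ℚ) : MvPolynomial (Fin 2) ℚ) * 144 = 1 := by
    rw [show (144 : MvPolynomial (Fin 2) ℚ) = C 144 from (map_ofNat C 144).symm, ← C_mul]; norm_num
  rw [h1, h2, h3]
  generalize (C (1 / 144 : ℚ) : MvPolynomial (Fin 2) ℚ) = c at h4
  have h5 : c * c * 144 = c := by rw [mul_assoc, h4, mul_one]
  linear_combination (exp := 1) (36 * X 0 * X 1 + 6 * X 0 ^ 2 * X 1 + 6 * X 0 * X 1 ^ 2 + X 0 ^ 2 * X 1 ^ 2) * h5
  
theorem chPoly_two : KGr.chPoly 2 = 2 + X 0 + C (1 / 2 : ℚ) * X 0 ^ 2 - X 1 := by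
  unfold KGr.chPoly
  rw [AlgEquiv.symm_apply_eq]
  apply Subtype.ext
  rw [← es_apply]
  simp only [map_add, map_mul, map_pow, map_one, es_X0, es_X1, es_C, map_sub, map_ofNat]
  rw [expTrunc_two, Fin.sum_univ_two]
  simp only [map_add, map_mul, map_pow, map_one, Polynomial.aeval_X, Polynomial.aeval_C, algebraMap_eq]
  have h4 : (C (1 / 2 : ℚ) : MvPolynomial (Fin 2) ℚ) * 2 = 1 := by
    rw [show (2 : MvPolynomial (Fin 2) ℚ) = C 2 from (map_ofNat C 2).symm, ← C_mul]; norm_num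
  linear_combination (-X 0 * X 1) * h4

end K856.Todd2
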